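import Groth.Agent.L08.ClosedOrbit
import Groth.Agent.L08.GITSep
import Mathlib.RingTheory.Spectrum.Prime.Topology

/-!
# Translations, orbit closures and closed orbits
-/

set_option autoImplicit false
set_option linter.style.haveILetI false

universe u

open TensorProduct

noncomputable section

namespace Groth.L08.Luna

variable {k : Type u} [Field k] {A : Type u} [CommRing A] [HopfAlgebra k A]
  {R : Type u} [CommRing R] [Algebra k R] [HopfRep.Comod k A R] [GLin.IsCoactAlg k A R]

variable (R) in
/-- Translation by a rational point. -/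
def σ (g : A →ₐ[k] k) : R →ₐ[k] R :=
  ((Algebra.TensorProduct.rid k k R).toAlgHom.comp (Algebra.TensorProduct.map (AlgHom.id k R) g)).comp
    (GLin.coactAlgHom k A R)

theorem σ_apply (g : A →ₐ[k] k) (r : R) : σ R g r = fAct R g.toLinearMap r := by
  rw [fAct_apply, σ]
  simp only [AlgHom.comp_apply, GLin.coactAlgHom_apply]
  induction HopfRep.Comod.coact (k := k) (A := A) r using TensorProduct.induction_on with
  | zero => simp
  | add p q hp hq => simp only [map_add, hp, hq]
  | tmul p q => simp [Algebra.smul_def]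

theorem apply_orbitHom (g : A →ₐ[k] k) (x : R →ₐ[k] k) (r : R) :
    g (GLin.orbitHom k A x r) = x (σ R g r) := by
  rw [GITSep.orbitHom_eq_cf, σ_apply]
  exact apply_cf (A := A) g.toLinearMap x.toLinearMap r

theorem actPt_apply (g : A →ₐ[k] k) (x : R →ₐ[k] k) (r : R) : GLin.actPt k g x r = x (σ R g r) :=
  apply_orbitHom g x r

theorem σ_comp (g h : WithConv (A →ₐ[k] k)) (r : R) : σ R g.ofConv (σ R h.ofConv r) = σ R (g * h).ofConv r := by
  simp only [σ_apply]
  have e : (g * h).ofConv.toLinearMap =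
      (WithConv.toConv g.ofConv.toLinearMap * WithConv.toConv h.ofConv.toLinearMap).ofConv := by
    exact LinearMap.ext fun a => by rw [AlgHom.convMul_def]; rfl
  rw [e, fAct_mul]
  rfl

theorem σ_one (r : R) : σ R (1 : WithConv (A →ₐ[k] k)).ofConv r = r := by
  rw [σ_apply]
  have e : (1 : WithConv (A →ₐ[k] k)).ofConv.toLinearMap = Coalgebra.counit (R := k) (A := A) :=
    LinearMap.ext fun a => by simp
  rw [e]
  exact LinearMap.congr_fun fAct_counit r

/-- Translation by a rational point as an automorphism. -/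
def σEquiv (g : WithConv (A →ₐ[k] k)) : R ≃ₐ[k] R :=
  AlgEquiv.ofAlgHom (σ R g.ofConv) (σ R g⁻¹.ofConv)
    (AlgHom.ext fun r => by rw [AlgHom.comp_apply, σ_comp, mul_inv_cancel, σ_one]; rfl)
    (AlgHom.ext fun r => by rw [AlgHom.comp_apply, σ_comp, inv_mul_cancel, σ_one]; rfl)

theorem σ_fixed {c : R} (hc : c ∈ HopfRep.fixedPts k A R) (g : A →ₐ[k] k) : σ R g c = c := by
  have hc' : HopfRep.Comod.coact (k := k) (A := A) c = c ⊗ₜ[k] (1 : A) := hc
  rw [σ_apply, fAct_apply, hc']
  simp

variable [IsAlgClosed k] [CharZero k] [Algebra.FiniteType k A]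

/-- A subspace containing all translates by points contains all translates by functionals. -/
theorem fAct_mem_of_forall_point (W : Submodule k R) (v : R) (h : ∀ g : A →ₐ[k] k, σ R g v ∈ W)
    (φ : A →ₗ[k] k) : fAct R φ v ∈ W := by
  by_contra hne
  obtain ⟨lam, hlam, hW⟩ := Submodule.exists_dual_map_eq_bot_of_notMem hne inferInstance
  have h0 : cf (A := A) lam v = 0 := by
    refine CartierRed.eq_zero_of_forall_point (k := k) fun g => ?_
    rw [show g (cf (A := A) lam v) = lam (fAct R g.toLinearMap v) from apply_cf g.toLinearMap lam v, ← σ_apply]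
    exact (Submodule.eq_bot_iff _).1 hW _ ⟨_, h g, rfl⟩
  exact hlam (by rw [← apply_cf, h0, map_zero])

theorem rey_mem_of_forall_point (W : Submodule k R) (v : R) (h : ∀ g : A →ₐ[k] k, σ R g v ∈ W)
    (α : A →ₗ[k] k) : rey R α v ∈ W := by
  rw [rey_apply]
  exact fAct_mem_of_forall_point W v h _

theorem mem_fixedPts_of_forall_point {v : R} (h : ∀ g : A →ₐ[k] k, σ R g v = v) :
    v ∈ HopfRep.fixedPts k A R := by
  classical
  rw [mem_fixedPts_iff]
  let e := Module.Basis.ofVectorSpace k R
  refine ((TensorProduct.equivFinsuppOfBasisLeft e).injective ?_)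
  ext i
  refine CartierRed.eq_zero_of_forall_point (k := k) (a := _ - _) ?_ |> sub_eq_zero.1
  intro g
  rw [map_sub, sub_eq_zero]
  have hl : ∀ t : R ⊗[k] A, g (TensorProduct.equivFinsuppOfBasisLeft e t i) =
      e.repr (TensorProduct.rid k R (g.toLinearMap.lTensor R t)) i := fun t => by
    induction t using TensorProduct.induction_on with
    | zero => simp
    | add p q hp hq => simp only [map_add, Finsupp.add_apply, hp, hq]
    | tmul p q => simp [mul_comm]
  rw [hl, hl, ← fAct_apply, ← σ_apply, h g]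
  simp

/-- Functions vanishing on all translates of a point vanish on its orbit. -/
theorem mem_ker_orbitHom {x : R →ₐ[k] k} {r : R} (h : ∀ g : A →ₐ[k] k, x (σ R g r) = 0) :
    r ∈ RingHom.ker (GLin.orbitHom k A x) :=
  RingHom.mem_ker.2 (CartierRed.eq_zero_of_forall_point fun g => by rw [apply_orbitHom, h g])

omit [IsAlgClosed k] [CharZero k] [Algebra.FiniteType k A] in
theorem σ_mem_ker_orbitHom {x : R →ₐ[k] k} {r : R} (h : r ∈ RingHom.ker (GLin.orbitHom k A x)) (g : A →ₐ[k] k) :
    σ R g r ∈ RingHom.ker (GLin.orbitHom k A x) := by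
  rw [σ_apply]
  exact (isSubcomod_iff.1 (GITSep.isSubcomod_ker_orbitHom x)) _ r h

/-- A point in the closure of a closed orbit lies on the orbit. -/
theorem exists_actPt_eq [Algebra.FiniteType k R] {x w : R →ₐ[k] k} (hx : GLin.IsClosedOrbit k A x)
    (hw : GLin.InOrbitClosure k A x w) : ∃ g : A →ₐ[k] k, GLin.actPt k g x = w := by
  let f := (GLin.orbitHom k A x).toRingHom
  have hmem : (⟨RingHom.ker w, RingHom.ker_isPrime _⟩ : PrimeSpectrum R) ∈ Set.range (PrimeSpectrum.comap f) := by
    rw [← hx.closure_eq, PrimeSpectrum.closure_range_comap]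
    exact hw
  obtain ⟨P, hP⟩ := hmem
  obtain ⟨g, hg⟩ := GITSep.exists_point (k := k) A P.asIdeal P.isPrime.ne_top
  refine ⟨g, AlgHom.ext fun r => ?_⟩
  have h1 : r - algebraMap k R (w r) ∈ RingHom.ker w := by simp [RingHom.mem_ker]
  rw [show RingHom.ker w = Ideal.comap f P.asIdeal from congrArg PrimeSpectrum.asIdeal hP.symm] at h1
  have h2 := hg _ h1
  rw [map_sub, map_sub, sub_eq_zero] at h2
  rw [GLin.actPt, AlgHom.comp_apply]
  refine h2.trans ?_
  show g (GLin.orbitHom k A x (algebraMap k R (w r))) = w r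
  rw [AlgHom.commutes, AlgHom.commutes]
  rfl

/-- A closed orbit lies in the closure of every orbit with the same invariants. -/
theorem inOrbitClosure_of_closed [Algebra.FiniteType k R] (hG : HopfRep.IsLinearlyReductive k A) {x z : R →ₐ[k] k}
    (hx : GLin.IsClosedOrbit k A x) (h : ∀ f ∈ HopfRep.fixedPts k A R, x f = z f) :
    GLin.InOrbitClosure k A z x := by
  obtain ⟨w, hxw, hzw⟩ := (GITSep.forall_eq_iff hG x z).1 h
  obtain ⟨g, rfl⟩ := exists_actPt_eq hx hxw
  intro r hr
  have h1 := hzw (σ_mem_ker_orbitHom hr ((WithConv.toConv g)⁻¹).ofConv)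
  rw [RingHom.mem_ker, actPt_apply] at h1
  have h2 := σ_comp (R := R) (WithConv.toConv g) (WithConv.toConv g)⁻¹ r
  rw [mul_inv_cancel, σ_one] at h2
  rw [RingHom.mem_ker]
  exact (congrArg x h2.symm).trans h1

/-- Orbit closures are stable. -/
theorem ker_orbitHom_le {x z : R →ₐ[k] k} (h : GLin.InOrbitClosure k A z x) :
    RingHom.ker (GLin.orbitHom k A z) ≤ RingHom.ker (GLin.orbitHom k A x) := fun _ hr =>
  mem_ker_orbitHom fun g => h (σ_mem_ker_orbitHom hr g)

end Groth.L08.Luna
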