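import Groth.Agent.L13.Purity.Branch
import Groth.Agent.L27.NormalSepClosed.Scheme
import Mathlib.RingTheory.Unramified.LocalStructure
import Mathlib.AlgebraicGeometry.Properties

/-!
# Unramified and dominant over a normal domain implies étale
-/

set_option autoImplicit false
set_option linter.style.haveILetI false
set_option maxSynthPendingDepth 3

universe u

open CategoryTheory AlgebraicGeometry

namespace Groth.L08.Luna

/-- Local rings of étale algebras over normal domains are domains. -/
theorem isDomain_localization {A C : Type u} [CommRing A] [IsDomain A] [IsIntegrallyClosed A] [CommRing C]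
    [Algebra A C] [Algebra.Etale A C] (P : Ideal C) [P.IsPrime] : IsDomain (Localization.AtPrime P) := by
  let g : Spec (CommRingCat.of C) ⟶ Spec (CommRingCat.of A) := Spec.map (CommRingCat.ofHom (algebraMap A C))
  haveI : Etale g := (HasRingHomProperty.Spec_iff (P := @Etale)).2 (RingHom.etale_algebraMap.2 inferInstance)
  have hN : ∀ x : Spec (CommRingCat.of A), IsIntegrallyClosed ((Spec (CommRingCat.of A)).presheaf.stalk x) := fun x => by
    haveI := StructureSheaf.IsLocalization.to_stalk A x
    exact isIntegrallyClosed_of_isLocalization ((Spec.structureSheaf A).presheaf.stalk x) x.asIdeal.primeCompl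
      x.asIdeal.primeCompl_le_nonZeroDivisors
  have h := Groth.L27.NormalSepClosed.isDomain_stalk g hN ⟨P, inferInstance⟩
  haveI := StructureSheaf.IsLocalization.to_stalk C (⟨P, inferInstance⟩ : PrimeSpectrum C)
  haveI : IsDomain ((Spec.structureSheaf C).presheaf.stalk (⟨P, inferInstance⟩ : PrimeSpectrum C)) := h
  exact (IsLocalization.algEquiv P.primeCompl (Localization.AtPrime P)
    ((Spec.structureSheaf C).presheaf.stalk (⟨P, inferInstance⟩ : PrimeSpectrum C))).toRingEquiv.toMulEquiv.isDomain

/-- A domain of finite type over a normal Noetherian domain, containing it, is étale where it is unramified. -/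
theorem isEtaleAt_of_isUnramifiedAt {A B : Type u} [CommRing A] [IsDomain A] [IsIntegrallyClosed A] [IsNoetherianRing A]
    [CommRing B] [IsDomain B] [Algebra A B] [Algebra.FiniteType A B] (hinj : Function.Injective (algebraMap A B))
    (P : Ideal B) [P.IsPrime] [Algebra.IsUnramifiedAt A P] : Algebra.IsEtaleAt A P := by
  haveI : Algebra.FinitePresentation A B := Algebra.FinitePresentation.of_finiteType.1 inferInstance
  obtain ⟨f, hfP, E, φ, hφ⟩ := Algebra.IsUnramifiedAt.exists_hasStandardEtaleSurjectionOn (R := A) (Q := P)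
  let Bf := Localization.Away f
  have hf0 : f ≠ 0 := fun h => hfP (h ▸ P.zero_mem)
  have hdisj : Disjoint (Submonoid.powers f : Set B) (P : Set B) := by
    rw [Set.disjoint_left]
    rintro x ⟨m, rfl⟩ hx
    exact hfP (Ideal.IsPrime.mem_of_pow_mem inferInstance m hx)
  let P' : Ideal Bf := P.map (algebraMap B Bf)
  haveI : P'.IsPrime := IsLocalization.isPrime_of_isPrime_disjoint (Submonoid.powers f) _ P inferInstance hdisj
  have hP' : P'.comap (algebraMap B Bf) = P :=
    IsLocalization.comap_map_of_isPrime_disjoint (Submonoid.powers f) _ inferInstance hdisj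
  let Q : Ideal E.Ring := P'.comap φ
  let BP := Localization.AtPrime P
  let EQ := Localization.AtPrime Q
  haveI : IsDomain Bf := IsLocalization.isDomain_localization (powers_le_nonZeroDivisors_of_noZeroDivisors hf0)
  haveI : IsDomain BP := IsLocalization.isDomain_localization P.primeCompl_le_nonZeroDivisors
  let toBP : Bf →ₐ[A] BP := (IsLocalization.liftAlgHom (M := Submonoid.powers f) (S := Bf)
    (f := IsScalarTower.toAlgHom A B BP) (by
      rintro ⟨_, m, rfl⟩
      simpa using (IsLocalization.map_units BP (⟨f, hfP⟩ : P.primeCompl)).pow m))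
  have htoBP : ∀ b, toBP (algebraMap B Bf b) = algebraMap B BP b := fun b => by simp [toBP]
  have hunit : ∀ y : Q.primeCompl, IsUnit ((toBP.comp φ) y.1) := by
    rintro ⟨y, hy⟩
    obtain ⟨⟨b, ⟨_, m, rfl⟩⟩, hb⟩ := IsLocalization.surj (Submonoid.powers f) (φ y)
    have hbP : b ∉ P := fun h => hy (by
      have h1 : φ y * algebraMap B Bf (f ^ m) ∈ P' := hb ▸ Ideal.mem_map_of_mem _ h
      rcases Ideal.IsPrime.mem_or_mem inferInstance h1 with h2 | h2
      · exact h2
      · refine absurd ?_ hfP
        have h3 : f ^ m ∈ P := hP' ▸ h2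
        exact Ideal.IsPrime.mem_of_pow_mem inferInstance m h3)
    have := congrArg toBP hb
    rw [map_mul, htoBP, htoBP] at this
    have hu : IsUnit (algebraMap B BP b) := IsLocalization.map_units BP (⟨b, hbP⟩ : P.primeCompl)
    rw [← this] at hu
    exact isUnit_of_mul_isUnit_left hu
  let ψ : EQ →ₐ[A] BP := IsLocalization.liftAlgHom (M := Q.primeCompl) (S := EQ) (f := toBP.comp φ) hunit
  have hψ : ∀ y, ψ (algebraMap E.Ring EQ y) = toBP (φ y) := fun y => by simp [ψ]
  haveI : IsDomain EQ := isDomain_localization (A := A) Q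
  have hsurj : Function.Surjective ψ := by
    intro z
    obtain ⟨b, ⟨s, hs⟩, rfl⟩ := IsLocalization.exists_mk'_eq P.primeCompl z
    obtain ⟨y, hy⟩ := hφ (algebraMap B Bf b)
    obtain ⟨w, hw⟩ := hφ (algebraMap B Bf s)
    have hwQ : w ∉ Q := fun h => hs (by
      have h1 : φ w ∈ P' := h
      rw [hw] at h1
      exact hP' ▸ h1)
    refine ⟨IsLocalization.mk' EQ y (⟨w, hwQ⟩ : Q.primeCompl), ?_⟩
    refine (IsLocalization.eq_mk'_iff_mul_eq).2 ?_
    show ψ _ * algebraMap B BP s = algebraMap B BP b
    rw [← htoBP, ← htoBP, ← hw, ← hy, ← hψ, ← hψ, ← map_mul, IsLocalization.mk'_spec]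
  have hinjψ : Function.Injective ψ := by
    rw [injective_iff_map_eq_zero]
    -- the kernel contracts to zero
    haveI : Module.Flat A EQ := Module.Flat.trans A E.Ring EQ
    have hAB : Function.Injective (algebraMap A BP) := by
      rw [IsScalarTower.algebraMap_eq A B BP]
      exact (IsLocalization.injective BP P.primeCompl_le_nonZeroDivisors).comp hinj
    let K : Ideal EQ := RingHom.ker ψ
    haveI : K.IsPrime := RingHom.ker_isPrime _
    let K₀ : Ideal E.Ring := K.comap (algebraMap E.Ring EQ)
    let Z₀ : Ideal E.Ring := (⊥ : Ideal EQ).comap (algebraMap E.Ring EQ)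
    haveI : K₀.IsPrime := Ideal.IsPrime.comap _
    haveI : (⊥ : Ideal EQ).IsPrime := Ideal.isPrime_bot
    haveI : Z₀.IsPrime := Ideal.IsPrime.comap _
    haveI : Algebra.QuasiFinite A E.Ring := inferInstance
    have hEQ : Function.Injective (algebraMap A EQ) := fun a b h => hAB (by rw [← ψ.commutes, h, ψ.commutes])
    have h1 : K₀.under A = ⊥ := (Submodule.eq_bot_iff _).2 fun a ha => by
      have : ψ (algebraMap E.Ring EQ (algebraMap A E.Ring a)) = 0 := ha
      rw [← IsScalarTower.algebraMap_apply, ψ.commutes, ← map_zero (algebraMap A BP)] at this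
      exact hAB this
    have h2 : Z₀.under A = ⊥ := (Submodule.eq_bot_iff _).2 fun a ha => by
      have : algebraMap E.Ring EQ (algebraMap A E.Ring a) = 0 := ha
      rw [← IsScalarTower.algebraMap_apply, ← map_zero (algebraMap A EQ)] at this
      exact hEQ this
    have hle : Z₀ ≤ K₀ := Ideal.comap_mono bot_le
    have heq : Z₀ = K₀ := Algebra.QuasiFinite.eq_of_le_of_under_eq _ _ hle (h2.trans h1.symm)
    intro z hz
    have hK : K = ⊥ := by
      rw [← IsLocalization.map_comap Q.primeCompl EQ K, ← IsLocalization.map_comap Q.primeCompl EQ (⊥ : Ideal EQ)]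
      exact congrArg _ heq.symm
    exact (Submodule.eq_bot_iff _).1 hK z hz
  haveI : Module.Flat A EQ := Module.Flat.trans A E.Ring EQ
  haveI : Module.Flat A BP := Module.Flat.of_linearEquiv (LinearEquiv.ofBijective ψ.toLinearMap ⟨hinjψ, hsurj⟩).symm
  exact Groth.L13.Purity.isEtaleAt_of_flat_of_isUnramifiedAt P

end Groth.L08.Luna
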