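import Groth.Agent.L08.Luna.Basic
import Mathlib.RingTheory.Spectrum.Prime.Chevalley
import Mathlib.RingTheory.Spectrum.Prime.ConstructibleSet
import Mathlib.RingTheory.Spectrum.Prime.Jacobson
import Mathlib.RingTheory.Ideal.GoingUp
import Mathlib.RingTheory.Jacobson.Ring
import Mathlib.RingTheory.FinitePresentation

/-!
# Closed orbits under finite equivariant maps
-/

set_option autoImplicit false
set_option linter.style.haveILetI false
set_option linter.unusedSectionVars false

universe u

open TensorProduct PrimeSpectrum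

noncomputable section

namespace Groth.L08.Luna

variable {k : Type u} [Field k] {A : Type u} [CommRing A] [HopfAlgebra k A]
  {S : Type u} [CommRing S] [Algebra k S] [HopfRep.Comod k A S] [GLin.IsCoactAlg k A S]
  {R : Type u} [CommRing R] [Algebra k R] [HopfRep.Comod k A R] [GLin.IsCoactAlg k A R]
  {φ : S →ₐ[k] R}

/-- An equivariant map commutes with orbit morphisms. -/
theorem orbitHom_comp (hφ : ∀ s, HopfRep.Comod.coact (k := k) (A := A) (φ s) =
    Algebra.TensorProduct.map φ (AlgHom.id k A) (HopfRep.Comod.coact (k := k) (A := A) s)) (x : R →ₐ[k] k) :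
    (GLin.orbitHom k A x).comp φ = GLin.orbitHom k A (x.comp φ) := by
  refine AlgHom.ext fun s => ?_
  simp only [GLin.orbitHom, AlgHom.comp_apply, GLin.coactAlgHom_apply, hφ]
  congr 1
  generalize HopfRep.Comod.coact (k := k) (A := A) s = t
  induction t using TensorProduct.induction_on with
  | zero => simp
  | add p q hp hq => simp only [map_add, hp, hq]
  | tmul p q => simp

/-- An equivariant map commutes with translations. -/
theorem σ_comp_hom (hφ : ∀ s, HopfRep.Comod.coact (k := k) (A := A) (φ s) =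
    Algebra.TensorProduct.map φ (AlgHom.id k A) (HopfRep.Comod.coact (k := k) (A := A) s)) (g : A →ₐ[k] k) (s : S) :
    σ R g (φ s) = φ (σ S g s) := by
  rw [σ_apply, σ_apply, fAct_apply, fAct_apply, hφ]
  induction HopfRep.Comod.coact (k := k) (A := A) s using TensorProduct.induction_on with
  | zero => simp
  | add p q hp hq => simp only [map_add, hp, hq]
  | tmul p q => simp

/-- The orbit morphism of a translate. -/
theorem orbitHom_σ (x : R →ₐ[k] k) (g : WithConv (A →ₐ[k] k)) (r : R) :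
    GLin.orbitHom k A x (σ R g.ofConv r) = Groth.L25.HopfFlat.rt g (GLin.orbitHom k A x r) := by
  rw [ClosedOrbit.rt_orbitHom, σ_apply]

theorem orbit_range_stable (x : R →ₐ[k] k) (g : WithConv (A →ₐ[k] k)) (p : PrimeSpectrum R)
    (hp : p ∈ Set.range (comap (GLin.orbitHom k A x).toRingHom)) :
    comap (σ R g.ofConv).toRingHom p ∈ Set.range (comap (GLin.orbitHom k A x).toRingHom) := by
  obtain ⟨P, rfl⟩ := hp
  refine ⟨comap (Groth.L25.HopfFlat.rt g).toRingHom P, PrimeSpectrum.ext (Ideal.ext fun r => ?_)⟩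
  show Groth.L25.HopfFlat.rt g (GLin.orbitHom k A x r) ∈ P.asIdeal ↔ GLin.orbitHom k A x (σ R g.ofConv r) ∈ P.asIdeal
  rw [orbitHom_σ]

variable [IsAlgClosed k] [CharZero k] [Algebra.FiniteType k A] [Algebra.FiniteType k R] [Algebra.FiniteType k S]

/-- Closedness of orbits ascends along finite equivariant maps. -/
theorem isClosedOrbit_of_comp (hfin : φ.toRingHom.Finite) (hφ : ∀ s, HopfRep.Comod.coact (k := k) (A := A) (φ s) =
    Algebra.TensorProduct.map φ (AlgHom.id k A) (HopfRep.Comod.coact (k := k) (A := A) s)) (x : R →ₐ[k] k)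
    (hy : GLin.IsClosedOrbit k A (x.comp φ)) : GLin.IsClosedOrbit k A x := by
  classical
  haveI : IsNoetherianRing R := Algebra.FiniteType.isNoetherianRing k R
  haveI : Nontrivial A := (Bialgebra.counitAlgHom k A).toRingHom.domain_nontrivial
  haveI : IsJacobsonRing S := isJacobsonRing_of_finiteType (A := k) (B := S)
  let y := x.comp φ
  let o := (GLin.orbitHom k A x).toRingHom
  let Z : Set (PrimeSpectrum R) := Set.range (comap o)
  let V : Set (PrimeSpectrum R) := zeroLocus (RingHom.ker o : Set R)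
  have hZV : closure Z = V := closure_range_comap o
  have hcomm : ∀ r : S, o (φ r) = GLin.orbitHom k A y r := fun r => AlgHom.congr_fun (orbitHom_comp hφ x) r
  have hZc : Topology.IsConstructible Z := isConstructible_range_comap
    (RingHom.FinitePresentation.of_finiteType.1 (RingHom.FiniteType.of_comp_finiteType
      (f := algebraMap k R) (g := o) (by
        rw [show o.comp (algebraMap k R) = algebraMap k A from (GLin.orbitHom k A x).comp_algebraMap]
        exact RingHom.finiteType_algebraMap.2 ‹_›)))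
  suffices hVZ : V ⊆ Z by
    exact isClosed_of_closure_subset (hZV.trans_subset hVZ)
  by_contra hnot
  obtain ⟨p0, hp0V, hp0Z⟩ := Set.not_subset.1 hnot
  have hVc : Topology.IsConstructible V := by
    have e : V = Set.range (comap (Ideal.Quotient.mk (RingHom.ker o))) := by
      rw [range_comap_of_surjective _ _ Ideal.Quotient.mk_surjective, Ideal.mk_ker]
    rw [e]
    exact isConstructible_range_comap
      (RingHom.FinitePresentation.of_surjective _ Ideal.Quotient.mk_surjective (by
        rw [Ideal.mk_ker]; exact IsNoetherian.noetherian _))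
  obtain ⟨T, _, f, hf⟩ := exists_range_eq_of_isConstructible (hVc.sdiff hZc)
  let C : Set (PrimeSpectrum R) := closure (V \ Z)
  have hC : C = zeroLocus (RingHom.ker f : Set R) := by
    rw [← closure_range_comap f, hf]
  have hCV : C ⊆ V := closure_minimal Set.sdiff_subset (isClosed_zeroLocus _)
  -- minimal primes of the orbit closure are not in the boundary
  have hmin : ∀ p ∈ C, p.asIdeal ∉ (RingHom.ker o).minimalPrimes := by
    intro p hp hpm
    have hfp : p.asIdeal ∈ (RingHom.ker f).minimalPrimes := by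
      rw [hC] at hp
      refine ⟨⟨p.2, hp⟩, fun q hq hqp => hpm.2 ⟨hq.1, ?_⟩ hqp⟩
      have : (⟨q, hq.1⟩ : PrimeSpectrum R) ∈ C := by rw [hC]; exact hq.2
      exact hCV this
    obtain ⟨P, hP, -, hPe⟩ := Ideal.exists_comap_eq_of_mem_minimalPrimes f (I := ⊥) p.asIdeal hfp
    have h1 : p ∈ V \ Z := hf ▸ ⟨⟨P, hP⟩, PrimeSpectrum.ext hPe⟩
    obtain ⟨Q, hQ, -, hQe⟩ := Ideal.exists_comap_eq_of_mem_minimalPrimes o (I := ⊥) p.asIdeal hpm
    exact h1.2 ⟨⟨Q, hQ⟩, PrimeSpectrum.ext hQe⟩
  have hstab : ∀ (g : WithConv (A →ₐ[k] k)) (p), p ∈ C → comap (σ R g.ofConv).toRingHom p ∈ C := by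
    intro g
    refine Set.MapsTo.closure (fun p hp => ⟨?_, fun h => hp.2 ?_⟩) (PrimeSpectrum.continuous_comap _)
    · intro r hr
      exact hp.1 (σ_mem_ker_orbitHom (x := x) hr g.ofConv)
    · have h' := orbit_range_stable x g⁻¹ _ h
      convert h' using 1
      refine PrimeSpectrum.ext (Ideal.ext fun r => ?_)
      show r ∈ p.asIdeal ↔ σ R g.ofConv (σ R g⁻¹.ofConv r) ∈ p.asIdeal
      rw [σ_comp, mul_inv_cancel, σ_one]
  -- a point of the boundary over any point of the orbit below
  obtain ⟨m, hm, hp0m⟩ := p0.asIdeal.exists_le_maximal p0.2.ne_top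
  have hmC : (⟨m, hm.isPrime⟩ : PrimeSpectrum R) ∈ C :=
    ((le_iff_specializes p0 ⟨m, hm.isPrime⟩).1 hp0m).mem_closed isClosed_closure (subset_closure ⟨hp0V, hp0Z⟩)
  obtain ⟨w, hw⟩ := GITSep.exists_point (k := k) R m hm.ne_top
  have hwker : RingHom.ker w = m := (hm.eq_of_le (RingHom.ker_ne_top _) fun r hr => hw r hr).symm
  obtain ⟨h, hh⟩ := exists_actPt_eq hy (w := w.comp φ) (by
    intro r hr
    have h1 : o (φ r) = 0 := (hcomm r).trans hr
    have h2 : φ r ∈ m := hCV hmC h1
    rw [← hwker] at h2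
    exact h2)
  have hcover : ∀ P : Ideal S, P.IsMaximal → RingHom.ker (GLin.orbitHom k A y) ≤ P →
      ∃ p ∈ C, p.asIdeal.comap φ.toRingHom = P := by
    intro P hP hle
    obtain ⟨v, hv⟩ := GITSep.exists_point (k := k) S P hP.ne_top
    have hvker : RingHom.ker v = P := (hP.eq_of_le (RingHom.ker_ne_top _) fun r hr => hv r hr).symm
    obtain ⟨g, hg⟩ := exists_actPt_eq hy (w := v) (show RingHom.ker (GLin.orbitHom k A y) ≤ RingHom.ker v by rw [hvker]; exact hle)
    let c : WithConv (A →ₐ[k] k) := (WithConv.toConv h)⁻¹ * WithConv.toConv g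
    refine ⟨_, hstab c _ hmC, ?_⟩
    ext s
    show σ R c.ofConv (φ s) ∈ m ↔ s ∈ P
    rw [← hwker, ← hvker, RingHom.mem_ker, RingHom.mem_ker, σ_comp_hom hφ,
      ← AlgHom.comp_apply w φ, ← hh, ← hg, actPt_apply, actPt_apply,
      show h = (WithConv.toConv h).ofConv from rfl, σ_comp, mul_inv_cancel_left]
  have himg : IsClosed (comap φ.toRingHom '' C) :=
    isClosedMap_comap_of_isIntegral _ hfin.to_isIntegral _ isClosed_closure
  obtain ⟨J, hJ⟩ := (isClosed_iff_zeroLocus_ideal _).1 himg
  obtain ⟨q, hq⟩ : ((RingHom.ker (GLin.orbitHom k A y).toRingHom).minimalPrimes).Nonempty :=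
    Set.nonempty_coe_sort.1 (Ideal.nonempty_minimalPrimes (RingHom.ker_ne_top _))
  have hJq : J ≤ q := by
    rw [← (isJacobsonRing_iff_prime_eq.1 ‹_› q hq.1.1 : Ideal.jacobson q = q)]
    refine le_sInf fun P hP => ?_
    obtain ⟨p, hp, hpe⟩ := hcover P hP.2 (hq.1.2.trans hP.1)
    have : comap φ.toRingHom p ∈ zeroLocus (J : Set S) := hJ ▸ ⟨p, hp, rfl⟩
    exact fun s hs => hpe ▸ this hs
  obtain ⟨Q, hQC, hQ⟩ : (⟨q, hq.1.1⟩ : PrimeSpectrum S) ∈ comap φ.toRingHom '' C := hJ ▸ hJq
  obtain ⟨Q₀, hQ₀, hQ₀le⟩ := Ideal.exists_minimalPrimes_le (I := RingHom.ker o) (J := Q.asIdeal) (hCV hQC)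
  have hQe : Q.asIdeal.comap φ.toRingHom = q := congrArg PrimeSpectrum.asIdeal hQ
  have h0 : Q₀.comap φ.toRingHom = q := le_antisymm
    (hQe ▸ Ideal.comap_mono hQ₀le)
    (hq.2 ⟨hQ₀.1.1.comap _, fun s hs => hQ₀.1.2 ((hcomm s).trans hs)⟩ (hQe ▸ Ideal.comap_mono hQ₀le))
  refine hmin Q hQC ?_
  rcases hQ₀le.eq_or_lt with heq | hlt
  · exact heq ▸ hQ₀
  · exfalso
    letI := φ.toRingHom.toAlgebra
    haveI : Module.Finite S R := hfin
    haveI := hQ₀.1.1
    obtain ⟨r, hrQ, hr⟩ := SetLike.exists_of_lt hlt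
    have := Ideal.comap_lt_comap_of_integral_mem_sdiff (R := S) hQ₀le ⟨hrQ, hr⟩ (Algebra.IsIntegral.isIntegral r)
    exact this.ne (h0.trans hQe.symm)

/-- Closedness of orbits descends along finite equivariant maps. -/
theorem isClosedOrbit_comp (hfin : φ.toRingHom.Finite) (hφ : ∀ s, HopfRep.Comod.coact (k := k) (A := A) (φ s) =
    Algebra.TensorProduct.map φ (AlgHom.id k A) (HopfRep.Comod.coact (k := k) (A := A) s)) (x : R →ₐ[k] k)
    (hx : GLin.IsClosedOrbit k A x) : GLin.IsClosedOrbit k A (x.comp φ) := by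
  show IsClosed (Set.range (comap (GLin.orbitHom k A (x.comp φ)).toRingHom))
  rw [← orbitHom_comp hφ x, show ((GLin.orbitHom k A x).comp φ).toRingHom = (GLin.orbitHom k A x).toRingHom.comp φ.toRingHom from rfl,
    PrimeSpectrum.comap_comp, Set.range_comp]
  exact isClosedMap_comap_of_isIntegral _ hfin.to_isIntegral _ hx

end Groth.L08.Luna
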