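import Groth.Agent.L08.Luna.EtaleUnram
import Mathlib.RingTheory.Invariant.Basic
import Mathlib.RingTheory.Ideal.Pointwise
import Mathlib.RingTheory.Filtration
import Mathlib.RingTheory.Adjoin.Tower
import Mathlib.RingTheory.Nakayama
import Mathlib.RingTheory.Jacobson.Ring
import Mathlib.RingTheory.Unramified.LocalRing
import Mathlib.FieldTheory.IsAlgClosed.Basic
import Mathlib.RingTheory.Localization.FractionRing

/-!
# Étale points of quotients by finite groups
-/

set_option autoImplicit false
set_option linter.style.haveILetI false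
set_option linter.unusedSectionVars false
set_option maxSynthPendingDepth 3

universe u v w

open scoped Pointwise
open IsLocalRing

namespace Groth.L08.Luna

variable {k : Type u} [Field k] [IsAlgClosed k]
  {R : Type v} [CommRing R] [IsDomain R] [Algebra k R] [Algebra.FiniteType k R]
  {G : Type w} [Group G] [Finite G] [MulSemiringAction G R] [SMulCommClass G k R]
  {B : Type v} [CommRing B] [Algebra k B] [Algebra B R] [IsScalarTower k B R] [FaithfulSMul B R]
  [SMulCommClass G B R] [Algebra.IsInvariant B R G]

theorem exists_const (m : Ideal R) [m.IsMaximal] (r : R) : ∃ c : k, r - algebraMap k R c ∈ m := by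
  letI := Ideal.Quotient.field m
  haveI : Algebra.FiniteType k (R ⧸ m) :=
    Algebra.FiniteType.of_surjective (Ideal.Quotient.mkₐ k m) Ideal.Quotient.mk_surjective
  haveI : Module.Finite k (R ⧸ m) := finite_of_finite_type_of_isJacobsonRing k (R ⧸ m)
  obtain ⟨c, hc⟩ := (IsAlgClosed.algebraMap_bijective_of_isIntegral (k := k) (K := R ⧸ m)).2
    (Ideal.Quotient.mk m r)
  refine ⟨c, ?_⟩
  rw [← Ideal.Quotient.mk_eq_mk_iff_sub_mem, ← hc]
  rfl

include k in
/-- At an unramified maximal ideal the stabiliser is trivial. -/
theorem stabilizer_eq_bot [FaithfulSMul G R] [IsNoetherianRing R] (m : Ideal R) [m.IsMaximal]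
    [Algebra.IsUnramifiedAt B m] : MulAction.stabilizer G m = ⊥ := by
  refine (Subgroup.eq_bot_iff_forall _).2 fun g hg => FaithfulSMul.eq_of_smul_eq_smul (α := R) fun r => ?_
  rw [one_smul]
  have hgm : g • m = m := hg
  let L := Localization.AtPrime m
  let σ : R →ₐ[B] R := MulSemiringAction.toAlgHom B R g
  have hcomap : m = m.comap σ.toRingHom := by
    ext x
    show x ∈ m ↔ g • x ∈ m
    exact (Ideal.smul_mem_pointwise_smul_iff (a := g)).symm.trans (by rw [hgm])
  have hu : ∀ y : m.primeCompl, IsUnit (((IsScalarTower.toAlgHom B R L).comp σ) y.1) := fun y =>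
    IsLocalization.map_units L (⟨g • y.1, fun h => y.2 (hcomap.symm.le h)⟩ : m.primeCompl)
  let σL : L →ₐ[B] L := IsLocalization.liftAlgHom (M := m.primeCompl) (S := L)
    (f := (IsScalarTower.toAlgHom B R L).comp σ) hu
  have hσL : ∀ x, σL (algebraMap R L x) = algebraMap R L (g • x) := fun x => by simp [σL, σ]
  have hres : ∀ z : L, σL z - z ∈ maximalIdeal L := by
    intro z
    obtain ⟨a, s, rfl⟩ := IsLocalization.exists_mk'_eq m.primeCompl z
    have key : ∀ x : R, g • x - x ∈ m := fun x => by
      obtain ⟨c, hc⟩ := exists_const (k := k) m x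
      have h1 : g • (x - algebraMap k R c) ∈ m := hcomap.le hc
      rw [smul_sub, smul_algebraMap] at h1
      simpa using m.sub_mem h1 hc
    have e1 := IsLocalization.mk'_spec L a s
    have hs : IsUnit (algebraMap R L s) := IsLocalization.map_units L s
    have h1 : σL (algebraMap R L a) - algebraMap R L a ∈ maximalIdeal L := by
      rw [hσL, ← map_sub]
      exact (IsLocalization.AtPrime.to_map_mem_maximal_iff L m _).2 (key a)
    have h2 : σL (algebraMap R L s) - algebraMap R L s ∈ maximalIdeal L := by
      rw [hσL, ← map_sub]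
      exact (IsLocalization.AtPrime.to_map_mem_maximal_iff L m _).2 (key s)
    rw [← e1, map_mul] at h1
    have h3 : (σL (IsLocalization.mk' L a s) - IsLocalization.mk' L a s) * algebraMap R L s ∈ maximalIdeal L := by
      rw [show (σL (IsLocalization.mk' L a s) - IsLocalization.mk' L a s) * algebraMap R L s =
        (σL (IsLocalization.mk' L a s) * σL (algebraMap R L s) - IsLocalization.mk' L a s * algebraMap R L s) -
          σL (IsLocalization.mk' L a s) * (σL (algebraMap R L s) - algebraMap R L s) by ring]
      exact (maximalIdeal L).sub_mem h1 ((maximalIdeal L).mul_mem_left _ h2)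
    exact ((maximalIdeal L).mul_unit_mem_iff_mem hs).1 h3
  haveI : IsNoetherianRing L := IsLocalization.isNoetherianRing m.primeCompl L inferInstance
  have hall : ∀ (N : ℕ) (z : L), σL z - z ∈ maximalIdeal L ^ N := by
    intro N z
    rcases N.eq_zero_or_pos with rfl | hN
    · simp
    let q := Ideal.Quotient.mkₐ B (maximalIdeal L ^ N)
    let I : Ideal (L ⧸ maximalIdeal L ^ N) := (maximalIdeal L).map (Ideal.Quotient.mk _)
    have hI : IsNilpotent I := ⟨N, by rw [← Ideal.map_pow, Ideal.map_quotient_self]; rfl⟩
    haveI : Algebra.FormallyUnramified B L := inferInstanceAs (Algebra.FormallyUnramified B (Localization.AtPrime m))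
    have := Algebra.FormallyUnramified.ext (R := B) (A := L) I hI (g₁ := q.comp σL) (g₂ := q) fun x => by
      rw [Ideal.Quotient.mk_eq_mk_iff_sub_mem]
      show Ideal.Quotient.mk _ (σL x) - Ideal.Quotient.mk _ x ∈ I
      rw [← map_sub]
      exact Ideal.mem_map_of_mem _ (hres x)
    exact Ideal.Quotient.mk_eq_mk_iff_sub_mem _ _ |>.1 (DFunLike.congr_fun this z)
  have h0 : σL (algebraMap R L r) - algebraMap R L r ∈ (⨅ N, maximalIdeal L ^ N : Ideal L) :=
    (Submodule.mem_iInf _).2 fun N => hall N _
  rw [Ideal.iInf_pow_eq_bot_of_isLocalRing _ (maximalIdeal.isMaximal L).ne_top, Submodule.mem_bot, sub_eq_zero, hσL] at h0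
  exact IsLocalization.injective L m.primeCompl_le_nonZeroDivisors h0

variable [IsIntegrallyClosed R]

include k in
/-- At a maximal ideal with trivial stabiliser the quotient is étale. -/
theorem isEtaleAt_of_stabilizer_eq_bot (m : Ideal R) [m.IsMaximal] (h : MulAction.stabilizer G m = ⊥) :
    Algebra.IsEtaleAt B m := by
  classical
  letI := Fintype.ofFinite G
  have hinj : Function.Injective (algebraMap B R) := FaithfulSMul.algebraMap_injective B R
  haveI : IsDomain B := hinj.isDomain
  haveI := Algebra.IsInvariant.isIntegral B R G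
  haveI : Algebra.FiniteType B R := Algebra.FiniteType.of_restrictScalars_finiteType k B R
  haveI : Module.Finite B R := Algebra.IsIntegral.finite
  haveI : Algebra.FiniteType k B :=
    ⟨fg_of_fg_of_fg k B R Algebra.FiniteType.out Module.Finite.fg_top hinj⟩
  haveI : IsNoetherianRing B := Algebra.FiniteType.isNoetherianRing k B
  haveI : IsNoetherianRing R := Algebra.FiniteType.isNoetherianRing k R
  haveI : IsIntegrallyClosed B := (isIntegrallyClosed_iff (FractionRing B)).2 fun {w} hw => by
    let K := FractionRing R
    let ι : FractionRing B →+* K := IsFractionRing.lift (A := B) (g := (algebraMap R K).comp (algebraMap B R))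
      ((IsFractionRing.injective R K).comp hinj)
    have hι : ∀ c, ι (algebraMap B _ c) = algebraMap R K (algebraMap B R c) := fun c =>
      IsFractionRing.lift_algebraMap _ c
    obtain ⟨p, hp, hp0⟩ := hw
    have hwS : IsIntegral R (ι w) := ⟨p.map (algebraMap B R), hp.map _, by
      have := congrArg ι hp0
      rw [Polynomial.hom_eval₂, map_zero] at this
      rw [Polynomial.eval₂_map, ← this]
      congr 1
      exact RingHom.ext fun c => (hι c).symm⟩
    obtain ⟨s, hs⟩ := IsIntegrallyClosed.algebraMap_eq_of_integral hwS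
    obtain ⟨a, b, hb, rfl⟩ := IsFractionRing.div_surjective B w
    have hb0 : algebraMap B R b ≠ 0 := fun h =>
      nonZeroDivisors.ne_zero hb (hinj (h.trans (map_zero _).symm))
    have hsb : s * algebraMap B R b = algebraMap B R a := IsFractionRing.injective R K (by
      rw [map_mul, hs, map_div₀, hι, hι, div_mul_cancel₀]
      exact fun h => hb0 (IsFractionRing.injective R K (h.trans (map_zero _).symm)))
    obtain ⟨c, hc⟩ := Algebra.IsInvariant.isInvariant (A := B) (G := G) s fun g => by
      have := congrArg (g • ·) hsb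
      simp only [smul_mul', smul_algebraMap] at this
      exact mul_right_cancel₀ hb0 (this.trans hsb.symm)
    refine ⟨c, ?_⟩
    rw [eq_div_iff (fun h => nonZeroDivisors.ne_zero hb
      (IsFractionRing.injective B (FractionRing B) (h.trans (map_zero _).symm))), ← map_mul]
    congr 1
    exact hinj (by rw [map_mul, hc, hsb])
  let q := m.under B
  haveI hq : q.IsMaximal := Ideal.isMaximal_comap_of_isIntegral_of_isMaximal m
  -- a function equal to one at `m` and vanishing to second order at the conjugates
  have hne : ∀ g ∈ (Finset.univ : Finset G).erase 1, g • m ≠ m := fun g hg hgm =>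
    (Finset.mem_erase.1 hg).1 ((Subgroup.eq_bot_iff_forall _).1 h g hgm)
  obtain ⟨u, hu1, hu2⟩ : ∃ u : R, u - 1 ∈ m ∧ ∀ g : G, g ≠ 1 → g • u ∈ m ^ 2 := by
    let I : Ideal R := ⨅ g ∈ (Finset.univ : Finset G).erase 1, (g • m) ^ 2
    have htop : I ⊔ m = ⊤ := by
      rw [sup_comm]
      refine Ideal.sup_iInf_eq_top fun g hg => ?_
      haveI : (g • m).IsMaximal := by
        rw [Ideal.pointwise_smul_eq_comap]
        exact Ideal.comap_isMaximal_of_surjective _ (MulAction.surjective g⁻¹)
      exact Ideal.sup_pow_eq_top (Ideal.IsMaximal.coprime_of_ne inferInstance inferInstance (hne g hg).symm)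
    obtain ⟨u, hu, d, hd, hud⟩ := Submodule.mem_sup.1 (htop ▸ Submodule.mem_top : (1 : R) ∈ I ⊔ m)
    refine ⟨u, by rw [← hud]; simpa using m.neg_mem hd, fun g hg => ?_⟩
    have h1 := (Submodule.mem_iInf _).1 ((Submodule.mem_iInf _).1 hu g⁻¹) (Finset.mem_erase.2
      ⟨by simpa using hg, Finset.mem_univ _⟩)
    rw [← Ideal.smul_mem_pointwise_smul_iff (a := g), smul_pow', smul_inv_smul] at h1
    exact h1
  have hm : m ≤ (q.map (algebraMap B R)) ⊔ m ^ 2 := by
    intro r hr
    obtain ⟨b, hb⟩ := Algebra.IsInvariant.isInvariant (A := B) (G := G) (∑ g : G, g • (u * r)) fun g' => by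
      rw [Finset.smul_sum]
      simp only [smul_smul]
      exact Equiv.sum_comp (Equiv.mulLeft g') (fun g => g • (u * r))
    rw [← Finset.add_sum_erase _ _ (Finset.mem_univ (1 : G)), one_smul] at hb
    have hsum : ∑ g ∈ (Finset.univ : Finset G).erase 1, g • (u * r) ∈ m ^ 2 := Submodule.sum_mem _ fun g hg => by
      rw [smul_mul']
      exact Ideal.mul_mem_right _ _ (hu2 g (Finset.mem_erase.1 hg).1)
    have hbq : b ∈ q := by
      show algebraMap B R b ∈ m
      rw [hb]
      exact m.add_mem (m.mul_mem_left _ hr) (Ideal.pow_le_self (two_ne_zero) hsum)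
    rw [show r = algebraMap B R b - ((u - 1) * r + ∑ g ∈ (Finset.univ : Finset G).erase 1, g • (u * r)) by
      rw [hb]; ring]
    exact Submodule.sub_mem _ (Ideal.mem_sup_left (Ideal.mem_map_of_mem _ hbq))
      (Ideal.mem_sup_right ((m ^ 2).add_mem (by rw [pow_two]; exact Ideal.mul_mem_mul hu1 hr) hsum))
  haveI : m.LiesOver q := ⟨rfl⟩
  letI := Localization.AtPrime.algebraOfLiesOver q m
  haveI : Algebra.IsUnramifiedAt B m := by
    refine (Algebra.isUnramifiedAt_iff_map_eq B q m).2 ⟨⟨fun z => ?_⟩, ?_⟩
    · obtain ⟨z, rfl⟩ := (Ideal.bijective_algebraMap_quotient_residueField m).2 z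
      obtain ⟨z, rfl⟩ := Ideal.Quotient.mk_surjective z
      obtain ⟨c, hc⟩ := exists_const (k := k) m z
      have hz : algebraMap R m.ResidueField z = algebraMap B m.ResidueField (algebraMap k B c) := by
        rw [IsScalarTower.algebraMap_apply B R m.ResidueField, ← IsScalarTower.algebraMap_apply k B R,
          ← sub_eq_zero, ← map_sub, Ideal.algebraMap_residueField_eq_zero]
        exact hc
      show IsSeparable q.ResidueField (algebraMap R m.ResidueField z)
      rw [hz, IsScalarTower.algebraMap_apply B q.ResidueField m.ResidueField]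
      exact isSeparable_algebraMap _
    · let L := Localization.AtPrime m
      haveI : IsNoetherianRing L := IsLocalization.isNoetherianRing m.primeCompl L inferInstance
      refine le_antisymm ?_ ?_
      · rw [Ideal.map_le_iff_le_comap]
        intro c hc
        rw [Ideal.mem_comap, IsScalarTower.algebraMap_apply B R L]
        exact (IsLocalization.AtPrime.to_map_mem_maximal_iff L m _).2 hc
      · refine Submodule.le_of_le_smul_of_le_jacobson_bot (I := maximalIdeal L) (IsNoetherian.noetherian _)
          (IsLocalRing.maximalIdeal_le_jacobson ⊥) ?_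
        have h1 := Ideal.map_mono (f := algebraMap R L) hm
        rw [Ideal.map_sup, Ideal.map_map, ← IsScalarTower.algebraMap_eq, Ideal.map_pow,
          Localization.AtPrime.map_eq_maximalIdeal, pow_two] at h1
        exact h1
  exact isEtaleAt_of_isUnramifiedAt hinj m

end Groth.L08.Luna
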