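import Mathlib.RingTheory.Smooth.Basic
import Mathlib.RingTheory.Unramified.Basic
import Mathlib.RingTheory.Etale.Basic
import Mathlib.RingTheory.Nakayama
import Mathlib.RingTheory.LocalRing.Basic
import Mathlib.RingTheory.Jacobson.Ideal
import Mathlib.RingTheory.Localization.AtPrime.Basic

/-!
# Surjections between formally étale local algebras
-/

set_option autoImplicit false
set_option linter.style.haveILetI false

universe u

namespace Groth.L08.Luna

/-- A surjection from an unramified local algebra onto a smooth one is injective. -/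
theorem injective_of_surjective_of_formallyEtale {S L M : Type u} [CommRing S] [CommRing L] [CommRing M]
    [Algebra S L] [Algebra S M] [IsLocalRing L] [IsNoetherianRing L] [Nontrivial M]
    [Algebra.FormallyUnramified S L] [Algebra.FormallySmooth S M]
    (ψ : L →ₐ[S] M) (hψ : Function.Surjective ψ) : Function.Injective ψ := by
  let K : Ideal L := RingHom.ker ψ
  let a : Ideal L := K * K
  have ha : ∀ z ∈ a, ψ z = 0 := fun z hz => RingHom.mem_ker.1 (Ideal.mul_le_right hz)
  let g : (L ⧸ a) →ₐ[S] M := Ideal.Quotient.liftₐ a ψ ha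
  have hg : Function.Surjective g := fun z => by
    obtain ⟨w, rfl⟩ := hψ z
    exact ⟨Ideal.Quotient.mk a w, rfl⟩
  have hker : RingHom.ker g ≤ K.map (Ideal.Quotient.mk a) := by
    intro z hz
    obtain ⟨w, rfl⟩ := Ideal.Quotient.mk_surjective z
    exact Ideal.mem_map_of_mem _ (show w ∈ K from hz)
  have hnil : IsNilpotent (RingHom.ker g) := by
    refine ⟨2, le_antisymm ((Ideal.pow_right_mono hker 2).trans ?_) bot_le⟩
    rw [← Ideal.map_pow, pow_two, Ideal.map_quotient_self]
    exact le_of_eq rfl
  have hnil' : IsNilpotent (RingHom.ker (g : L ⧸ a →+* M)) := hnil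
  let σ : M →ₐ[S] L ⧸ a := Algebra.FormallySmooth.liftOfSurjective (AlgHom.id S M) g hg hnil'
  have hσ : ∀ z, g (σ z) = z := fun z =>
    Algebra.FormallySmooth.liftOfSurjective_apply (AlgHom.id S M) g hg hnil' z
  have key : Ideal.Quotient.mkₐ S a = σ.comp ψ :=
    Algebra.FormallyUnramified.ext (R := S) (A := L) (RingHom.ker g) hnil fun z => by
      rw [Ideal.Quotient.mk_eq_mk_iff_sub_mem, RingHom.mem_ker, map_sub, AlgHom.comp_apply, hσ, sub_eq_zero]
      rfl
  have hle : K ≤ K • K := fun z hz => by
    have := AlgHom.congr_fun key z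
    rw [AlgHom.comp_apply, RingHom.mem_ker.1 hz, map_zero] at this
    exact Ideal.Quotient.eq_zero_iff_mem.1 this
  have hK : K = ⊥ := Submodule.eq_bot_of_le_smul_of_le_jacobson_bot K K (IsNoetherian.noetherian _) hle
    ((IsLocalRing.le_maximalIdeal (RingHom.ker_ne_top _)).trans (IsLocalRing.maximalIdeal_le_jacobson ⊥))
  exact (RingHom.injective_iff_ker_eq_bot _).2 hK

end Groth.L08.Luna
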