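import Groth.Agent.L08.Luna.Invariant
import Groth.Agent.L08.Luna.Formal
import Mathlib.RingTheory.ZariskisMainTheorem
import Mathlib.RingTheory.Adjoin.Tower
import Mathlib.RingTheory.Nakayama
import Mathlib.RingTheory.Unramified.LocalStructure
import Mathlib.RingTheory.Unramified.LocalRing

/-!
# The orbit of a point where an equivariant morphism is étale
-/

set_option autoImplicit false
set_option linter.style.haveILetI false
set_option linter.unusedSectionVars false
set_option maxSynthPendingDepth 3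

universe u

open TensorProduct

noncomputable section

namespace Groth.L08.Luna

variable {k : Type u} [Field k] [IsAlgClosed k] [CharZero k] {A : Type u} [CommRing A] [HopfAlgebra k A]
  [Algebra.FiniteType k A]
  {S : Type u} [CommRing S] [Algebra k S] [Algebra.FiniteType k S] [HopfRep.Comod k A S] [GLin.IsCoactAlg k A S]
  {R : Type u} [CommRing R] [Algebra k R] [Algebra.FiniteType k R] [HopfRep.Comod k A R] [GLin.IsCoactAlg k A R]
  [Algebra S R] [IsScalarTower k S R]

variable (hequiv : ∀ s : S, HopfRep.Comod.coact (k := k) (A := A) (algebraMap S R s) =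
  Algebra.TensorProduct.map (IsScalarTower.toAlgHom k S R) (AlgHom.id k A) (HopfRep.Comod.coact (k := k) (A := A) s))

include hequiv

theorem σ_algebraMap' (g : A →ₐ[k] k) (s : S) : σ R g (algebraMap S R s) = algebraMap S R (σ S g s) :=
  σ_comp_hom (φ := IsScalarTower.toAlgHom k S R) hequiv g s

theorem orbitHom_algebraMap' (x : R →ₐ[k] k) (s : S) :
    GLin.orbitHom k A x (algebraMap S R s) = GLin.orbitHom k A (x.comp (IsScalarTower.toAlgHom k S R)) s :=
  AlgHom.congr_fun (orbitHom_comp (φ := IsScalarTower.toAlgHom k S R) hequiv x) s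

omit hequiv in
theorem σ_inv_right (g : A →ₐ[k] k) (r : R) : σ R g (σ R ((WithConv.toConv g)⁻¹).ofConv r) = r :=
  (σ_comp (R := R) (WithConv.toConv g) (WithConv.toConv g)⁻¹ r).trans (by rw [mul_inv_cancel, σ_one])

/-- The ideal of the orbit below generates a stable ideal. -/
theorem σ_mem_map_ker {y : S →ₐ[k] k} (g : A →ₐ[k] k) {v : R}
    (hv : v ∈ (RingHom.ker (GLin.orbitHom k A y)).map (algebraMap S R)) :
    σ R g v ∈ (RingHom.ker (GLin.orbitHom k A y)).map (algebraMap S R) := by
  suffices (RingHom.ker (GLin.orbitHom k A y)).map (algebraMap S R) ≤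
      ((RingHom.ker (GLin.orbitHom k A y)).map (algebraMap S R)).comap (σ R g) from this hv
  refine Ideal.map_le_iff_le_comap.2 fun s hs => ?_
  rw [Ideal.mem_comap, Ideal.mem_comap, σ_algebraMap' hequiv]
  exact Ideal.mem_map_of_mem _ (σ_mem_ker_orbitHom hs g)

/-- Étaleness makes the orbit the scheme-theoretic preimage of its image near the point. -/
theorem exists_orbit_preimage (x : R →ₐ[k] k) (m : Ideal R) [m.IsMaximal] (hm : m = RingHom.ker x.toRingHom)
    (het : Algebra.IsEtaleAt S m)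
    (hsurj : ∀ r : R, ∃ s : S, r - algebraMap S R s ∈ RingHom.ker (GLin.orbitHom k A x)) :
    ∃ f : R, x f ≠ 0 ∧ ∀ r ∈ RingHom.ker (GLin.orbitHom k A x),
      f * r ∈ (RingHom.ker (GLin.orbitHom k A (x.comp (IsScalarTower.toAlgHom k S R)))).map (algebraMap S R) := by
  classical
  haveI : IsNoetherianRing R := Algebra.FiniteType.isNoetherianRing k R
  let L := Localization.AtPrime m
  haveI : Algebra.FormallyEtale S L := het
  haveI : IsNoetherianRing L := IsLocalization.isNoetherianRing m.primeCompl L inferInstance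
  let Ky := RingHom.ker (GLin.orbitHom k A (x.comp (IsScalarTower.toAlgHom k S R)))
  let K := RingHom.ker (GLin.orbitHom k A x)
  let KR := Ky.map (algebraMap S R)
  let a : Ideal L := (KR ⊔ K * K).map (algebraMap R L)
  have hxm : ∀ r, r ∈ m ↔ x r = 0 := fun r => by rw [hm]; exact RingHom.mem_ker
  have hKm : K ≤ m := fun r hr => by
    have := congrArg (Coalgebra.counit (R := k)) (RingHom.mem_ker.1 hr)
    rw [ClosedOrbit.counit_orbitHom, map_zero] at this
    exact (hxm r).2 this
  have hKy : ∀ s, s ∈ Ky ↔ algebraMap S R s ∈ K := fun s => by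
    simp only [Ky, K, RingHom.mem_ker, orbitHom_algebraMap' hequiv]
  -- the retraction onto the orbit
  choose sec hsec using hsurj
  have hwd : ∀ {r : R} {s : S}, r - algebraMap S R s ∈ K →
      Ideal.Quotient.mk a (algebraMap R L (algebraMap S R (sec r))) =
        Ideal.Quotient.mk a (algebraMap R L (algebraMap S R s)) := by
    intro r s h
    rw [Ideal.Quotient.mk_eq_mk_iff_sub_mem, ← map_sub, ← map_sub]
    refine Ideal.mem_map_of_mem _ (Ideal.mem_sup_left (Ideal.mem_map_of_mem _ ((hKy _).2 ?_)))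
    rw [map_sub, show algebraMap S R (sec r) - algebraMap S R s =
      (r - algebraMap S R s) - (r - algebraMap S R (sec r)) by ring]
    exact K.sub_mem h (hsec r)
  let p : R →ₐ[S] L ⧸ a :=
    { toFun := fun r => Ideal.Quotient.mk a (algebraMap R L (algebraMap S R (sec r)))
      map_one' := (hwd (s := 1) (by rw [map_one, sub_self]; exact K.zero_mem)).trans (by simp)
      map_mul' := fun r r' => (hwd (s := sec r * sec r') (by
        rw [map_mul, show r * r' - algebraMap S R (sec r) * algebraMap S R (sec r') =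
          (r - algebraMap S R (sec r)) * r' + algebraMap S R (sec r) * (r' - algebraMap S R (sec r')) by ring]
        exact K.add_mem (K.mul_mem_right _ (hsec r)) (K.mul_mem_left _ (hsec r')))).trans (by simp only [map_mul])
      map_zero' := (hwd (s := 0) (by rw [map_zero, sub_self]; exact K.zero_mem)).trans (by simp)
      map_add' := fun r r' => (hwd (s := sec r + sec r') (by
        rw [map_add, add_sub_add_comm]
        exact K.add_mem (hsec r) (hsec r'))).trans (by simp only [map_add])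
      commutes' := fun s => (hwd (s := s) (by rw [sub_self]; exact K.zero_mem)).trans (by
        rw [← IsScalarTower.algebraMap_apply S R L]; rfl) }
  have hu : ∀ u : m.primeCompl, IsUnit (p u.1) := fun u => by
    refine (IsLocalization.map_units L (⟨algebraMap S R (sec u.1), ?_⟩ : m.primeCompl)).map (Ideal.Quotient.mk a)
    intro h
    refine u.2 ?_
    have := m.add_mem (hKm (hsec u.1)) h
    simpa using this
  let g₂ : L →ₐ[S] L ⧸ a := IsLocalization.liftAlgHom (M := m.primeCompl) (S := L) (f := p) hu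
  have hg₂ : ∀ r, g₂ (algebraMap R L r) = p r := fun r => by simp [g₂]
  let I : Ideal (L ⧸ a) := (K.map (algebraMap R L)).map (Ideal.Quotient.mk a)
  have hI : IsNilpotent I := ⟨2, by
    rw [← Ideal.map_pow, ← Ideal.map_pow]
    refine le_bot_iff.1 ((Ideal.map_mono (Ideal.map_mono ((pow_two K).le.trans (le_sup_right : K * K ≤ KR ⊔ K * K)))).trans ?_)
    rw [Ideal.map_quotient_self]⟩
  have key : Ideal.Quotient.mkₐ S a = g₂ := Algebra.FormallyUnramified.ext (R := S) (A := L) I hI fun z => by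
    refine AlgHom.congr_fun (φ₁ := (Ideal.Quotient.mkₐ S I).comp (Ideal.Quotient.mkₐ S a))
      (φ₂ := (Ideal.Quotient.mkₐ S I).comp g₂) (IsLocalization.algHom_ext m.primeCompl (AlgHom.ext fun r => ?_)) z
    show Ideal.Quotient.mk I (Ideal.Quotient.mk a (algebraMap R L r)) = Ideal.Quotient.mk I (g₂ (algebraMap R L r))
    rw [hg₂, Ideal.Quotient.mk_eq_mk_iff_sub_mem]
    show Ideal.Quotient.mk a _ - Ideal.Quotient.mk a (algebraMap R L (algebraMap S R (sec r))) ∈ I
    rw [← map_sub, ← map_sub]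
    exact Ideal.mem_map_of_mem _ (Ideal.mem_map_of_mem _ (hsec r))
  have hKa : K.map (algebraMap R L) ≤ a := Ideal.map_le_iff_le_comap.2 fun r hr => by
    refine Ideal.mem_comap.2 (Ideal.Quotient.eq_zero_iff_mem.1 ?_)
    have h := AlgHom.congr_fun key (algebraMap R L r)
    rw [hg₂] at h
    refine h.trans ((hwd (s := 0) (by rw [map_zero, sub_zero]; exact hr)).trans ?_)
    simp
  have hKL : K.map (algebraMap R L) ≤ KR.map (algebraMap R L) := by
    refine Submodule.le_of_le_smul_of_le_jacobson_bot (I := K.map (algebraMap R L)) (IsNoetherian.noetherian _) ?_ ?_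
    · refine le_trans ?_ (IsLocalRing.maximalIdeal_le_jacobson ⊥)
      rw [← Localization.AtPrime.map_eq_maximalIdeal]
      exact Ideal.map_mono hKm
    · refine hKa.trans (le_of_eq ?_)
      show (KR ⊔ K * K).map (algebraMap R L) = _
      rw [Ideal.map_sup, Ideal.map_mul]
      rfl
  obtain ⟨t, ht⟩ := IsNoetherian.noetherian (R := R) (M := R) K
  have hex : ∀ r : t, ∃ u : R, u ∉ m ∧ u * r.1 ∈ KR := fun r =>
    (IsLocalization.algebraMap_mem_map_algebraMap_iff m.primeCompl L KR r.1).1
      (hKL (Ideal.mem_map_of_mem _ (ht.le (Submodule.subset_span r.2))))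
  choose u hum hur using hex
  refine ⟨∏ r, u r, fun h => ?_, fun r hr => ?_⟩
  · obtain ⟨i, -, hi⟩ := Ideal.IsPrime.prod_mem_iff.1 ((hxm _).2 h)
    exact hum i hi
  · change r ∈ (K : Submodule R R) at hr
    rw [← ht] at hr
    induction hr using Submodule.span_induction with
    | mem v hv =>
      rw [← Finset.prod_erase_mul _ _ (Finset.mem_univ (⟨v, hv⟩ : t)), mul_assoc]
      exact KR.mul_mem_left _ (hur ⟨v, hv⟩)
    | zero => rw [mul_zero]; exact KR.zero_mem
    | add p q _ _ hp hq => rw [mul_add]; exact KR.add_mem hp hq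
    | smul c p _ hp => rw [smul_eq_mul, mul_left_comm]; exact KR.mul_mem_left _ hp

end Groth.L08.Luna

namespace Groth.L08.Luna

variable {k : Type u} [Field k] {S : Type u} [CommRing S] [Algebra k S]
  {R : Type u} [CommRing R] [Algebra k R] [Algebra.FiniteType k R] [Algebra S R] [IsScalarTower k S R]

/-- The integral closure agrees with the ring near an unramified point. -/
theorem exists_integral_denominator (x : R →ₐ[k] k) (m : Ideal R) [m.IsMaximal] (hm : m = RingHom.ker x.toRingHom)
    (het : Algebra.IsEtaleAt S m) :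
    ∃ c : R, x c ≠ 0 ∧ _root_.IsIntegral S c ∧ ∀ z, ∃ n, _root_.IsIntegral S (c ^ n * z) := by
  haveI : Algebra.FiniteType S R := Algebra.FiniteType.of_restrictScalars_finiteType k S R
  haveI : Algebra.FormallyEtale S (Localization.AtPrime m) := het
  haveI : Algebra.IsUnramifiedAt S m := inferInstanceAs (Algebra.FormallyUnramified S (Localization.AtPrime m))
  obtain ⟨c, hc, hc1, hc2⟩ := Algebra.zariskisMainProperty_iff.1
    (Algebra.ZariskisMainProperty.of_finiteType (R := S) m)
  refine ⟨c, fun h => hc ?_, hc1, hc2⟩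
  rw [hm]
  exact h

/-- A subalgebra containing the base, over whose point the tangent space is covered, is the whole ring near it. -/
theorem exists_mem_forall_pow_mul_mem (x : R →ₐ[k] k) (T : Subalgebra k R) (hT : ∀ s, algebraMap S R s ∈ T)
    (f₁ : R) (hf₁ : f₁ ∈ T) (hx₁ : x f₁ = 1)
    (hcov : ∀ r, x r = 0 → f₁ * r ∈ (RingHom.ker (x.comp (IsScalarTower.toAlgHom k S R))).map (algebraMap S R))
    (f₂ : R) (hf₂ : f₂ ∈ T) (hx₂ : x f₂ = 1) (hint : ∀ z, ∃ n, _root_.IsIntegral S (f₂ ^ n * z)) :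
    ∃ e ∈ T, x e ≠ 0 ∧ ∀ z, ∃ n : ℕ, e ^ n * z ∈ T := by
  classical
  obtain ⟨gens, hgens⟩ := Algebra.FiniteType.out (R := k) (A := R)
  choose en hen using hint
  let G : Finset R := gens.image fun z => f₂ ^ en z * z
  let D : Subalgebra T R := Algebra.adjoin T (G : Set R)
  have hD : (Subalgebra.toSubmodule D).FG := fg_adjoin_of_finite G.finite_toSet fun v hv => by
    obtain ⟨z, -, rfl⟩ := Finset.mem_image.1 hv
    obtain ⟨p, hp, hp0⟩ := hen z
    let ιT : S →+* T := (algebraMap S R).codRestrict T hT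
    refine ⟨p.map ιT, hp.map _, ?_⟩
    rw [Polynomial.eval₂_map]
    exact hp0
  have hTD : ∀ t ∈ T, t ∈ D := fun t ht => D.algebraMap_mem ⟨t, ht⟩
  have hsat : ∀ z, ∃ n : ℕ, f₂ ^ n * z ∈ D := fun z => by
    have hz : z ∈ Algebra.adjoin k (gens : Set R) := hgens ▸ Algebra.mem_top
    induction hz using Algebra.adjoin_induction with
    | mem v hv => exact ⟨en v, Algebra.subset_adjoin (Finset.mem_image_of_mem _ hv)⟩
    | algebraMap c => exact ⟨0, by rw [pow_zero, one_mul]; exact hTD _ (T.algebraMap_mem c)⟩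
    | add a b _ _ ha hb =>
      obtain ⟨n, hn⟩ := ha; obtain ⟨n', hn'⟩ := hb
      refine ⟨n + n', ?_⟩
      rw [show f₂ ^ (n + n') * (a + b) = f₂ ^ n' * (f₂ ^ n * a) + f₂ ^ n * (f₂ ^ n' * b) by ring]
      exact D.add_mem (D.mul_mem (hTD _ (pow_mem hf₂ _)) hn) (D.mul_mem (hTD _ (pow_mem hf₂ _)) hn')
    | mul a b _ _ ha hb =>
      obtain ⟨n, hn⟩ := ha; obtain ⟨n', hn'⟩ := hb
      refine ⟨n + n', ?_⟩
      rw [show f₂ ^ (n + n') * (a * b) = (f₂ ^ n * a) * (f₂ ^ n' * b) by ring]
      exact D.mul_mem hn hn'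
  let P : Ideal T := RingHom.ker (x.comp T.val)
  let N₀ : Submodule T R := Subalgebra.toSubmodule (⊥ : Subalgebra T R)
  let M : Submodule T R := P • Subalgebra.toSubmodule D
  have hMD : ∀ t ∈ D, ∀ v ∈ M, t * v ∈ M := fun t ht v hv => by
    exact Submodule.smul_induction_on hv (fun a ha w hw => by
      rw [mul_smul_comm]
      exact Submodule.smul_mem_smul ha (D.mul_mem ht hw)) fun p q hp hq => by
      rw [mul_add]; exact M.add_mem hp hq
  have hcovM : ∀ v ∈ (RingHom.ker (x.comp (IsScalarTower.toAlgHom k S R))).map (algebraMap S R),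
      ∃ n : ℕ, f₂ ^ n * v ∈ M := fun v hv => by
    change v ∈ Ideal.span _ at hv
    induction hv using Submodule.span_induction with
    | mem w hw =>
      obtain ⟨s, hs, rfl⟩ := hw
      refine ⟨0, ?_⟩
      rw [pow_zero, one_mul, show algebraMap S R s = (⟨_, hT s⟩ : T) • (1 : R) from (mul_one _).symm]
      exact Submodule.smul_mem_smul (RingHom.mem_ker.2 hs) D.one_mem
    | zero => exact ⟨0, by rw [mul_zero]; exact M.zero_mem⟩
    | add p q _ _ hp hq =>
      obtain ⟨n, hn⟩ := hp; obtain ⟨n', hn'⟩ := hq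
      refine ⟨n + n', ?_⟩
      rw [show f₂ ^ (n + n') * (p + q) = f₂ ^ n' * (f₂ ^ n * p) + f₂ ^ n * (f₂ ^ n' * q) by ring]
      exact M.add_mem (hMD _ (hTD _ (pow_mem hf₂ _)) _ hn) (hMD _ (hTD _ (pow_mem hf₂ _)) _ hn')
    | smul c p _ hp =>
      obtain ⟨n, hn⟩ := hp; obtain ⟨n', hn'⟩ := hsat c
      refine ⟨n + n', ?_⟩
      rw [smul_eq_mul, show f₂ ^ (n + n') * (c * p) = (f₂ ^ n' * c) * (f₂ ^ n * p) by ring]
      exact hMD _ hn' _ hn
  have hle : Subalgebra.toSubmodule D ≤ N₀ ⊔ M := fun d hd => by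
    let c : R := algebraMap k R (x d)
    have hc : c ∈ N₀ := Algebra.mem_bot.2 ⟨⟨c, T.algebraMap_mem _⟩, rfl⟩
    obtain ⟨n, hn⟩ := hcovM _ (hcov (d - c) (by simp [c]))
    let τ : T := ⟨f₂ ^ n * f₁, T.mul_mem (pow_mem hf₂ _) hf₁⟩
    have hτ : (1 - τ : T) ∈ P := by simp [P, τ, RingHom.mem_ker, hx₁, hx₂]
    have h1 : d - c ∈ M := by
      rw [show d - c = (1 - τ) • (d - c) + f₂ ^ n * (f₁ * (d - c)) by
        rw [Subalgebra.smul_def, Subalgebra.coe_sub, Subalgebra.coe_one, smul_eq_mul]; simp [τ]; ring]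
      exact M.add_mem (Submodule.smul_mem_smul hτ (D.sub_mem hd (hTD _ (T.algebraMap_mem _)))) hn
    rw [show d = c + (d - c) by ring]
    exact Submodule.add_mem_sup hc h1
  obtain ⟨e, he, hekill⟩ := Submodule.exists_sub_one_mem_and_smul_eq_zero_of_fg_of_le_smul P
    ((Subalgebra.toSubmodule D).map N₀.mkQ) (hD.map _) (by
      rintro _ ⟨d, hd, rfl⟩
      obtain ⟨u, hu, v, hv, huv⟩ := Submodule.mem_sup.1 (hle hd)
      rw [← Submodule.map_smul'']
      exact ⟨v, hv, by rw [← huv, map_add, show N₀.mkQ u = 0 from (Submodule.Quotient.mk_eq_zero _).2 hu, zero_add]⟩)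
  have hxe : x e = 1 := by
    have : x ((e - 1 : T) : R) = 0 := he
    rw [Subalgebra.coe_sub, Subalgebra.coe_one, map_sub, map_one, sub_eq_zero] at this
    exact this
  refine ⟨e * f₂, T.mul_mem e.2 hf₂, by rw [map_mul, hxe, hx₂, mul_one]; exact one_ne_zero, fun z => ?_⟩
  obtain ⟨n, hn⟩ := hsat z
  refine ⟨n + 1, ?_⟩
  have h2 : (e : R) * (f₂ ^ n * z) ∈ T := by
    have := hekill _ ⟨_, hn, rfl⟩
    rw [← map_smul, Submodule.mkQ_apply, Submodule.Quotient.mk_eq_zero] at this
    obtain ⟨t, ht⟩ := Algebra.mem_bot.1 this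
    rw [Subalgebra.smul_def, smul_eq_mul] at ht
    exact ht ▸ t.2
  rw [show (e * f₂ : R) ^ (n + 1) * z = (e : R) ^ n * f₂ * ((e : R) * (f₂ ^ n * z)) by ring]
  exact T.mul_mem (T.mul_mem (pow_mem e.2 _) hf₂) h2

end Groth.L08.Luna
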