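import Groth.Agent.L08.Luna.FundStep
import Mathlib.RingTheory.Unramified.LocalStructure
import Mathlib.RingTheory.Unramified.LocalRing
import Mathlib.RingTheory.Etale.Locus
import Mathlib.RingTheory.Localization.BaseChange
import Mathlib.RingTheory.Spectrum.Prime.RingHom
import Mathlib.RingTheory.Spectrum.Prime.Chevalley
import Mathlib.RingTheory.Flat.FaithfullyFlat.Basic
import Mathlib.RingTheory.Smooth.Flat
import Mathlib.RingTheory.LocalRing.ResidueField.Fiber
import Mathlib.RingTheory.RingHom.FiniteType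

/-!
# The fundamental lemma of Luna
-/

set_option autoImplicit false
set_option linter.style.haveILetI false
set_option linter.unusedSectionVars false
set_option maxSynthPendingDepth 3

universe u

open TensorProduct

noncomputable section

namespace Groth.L08.Luna

section Sat

variable {k : Type u} [CommRing k] {R : Type u} [CommRing R] [Algebra k R]

/-- The elements of a subalgebra whose powers move the whole ring into it. -/
def satSub (T : Subalgebra k R) : Submodule k R where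
  carrier := {c | c ∈ T ∧ ∀ z, ∃ n : ℕ, c ^ n * z ∈ T}
  zero_mem' := ⟨T.zero_mem, fun z => ⟨1, by simp⟩⟩
  add_mem' := by
    rintro c d ⟨hc, hc'⟩ ⟨hd, hd'⟩
    refine ⟨T.add_mem hc hd, fun z => ?_⟩
    obtain ⟨n, hn⟩ := hc' z
    obtain ⟨m, hm⟩ := hd' z
    refine ⟨n + m, ?_⟩
    rw [add_pow, Finset.sum_mul]
    refine sum_mem fun i hi => ?_
    by_cases h : n ≤ i
    · rw [show c ^ i * d ^ (n + m - i) * ((n + m).choose i : R) * z =
        c ^ (i - n) * d ^ (n + m - i) * ((n + m).choose i : R) * (c ^ n * z) by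
          conv_lhs => rw [← Nat.sub_add_cancel h, pow_add]
          rw [Nat.sub_add_cancel h]; ring]
      exact T.mul_mem (T.mul_mem (T.mul_mem (pow_mem hc _) (pow_mem hd _)) (natCast_mem T _)) hn
    · have h' : m ≤ n + m - i := by omega
      rw [show c ^ i * d ^ (n + m - i) * ((n + m).choose i : R) * z =
        c ^ i * d ^ (n + m - i - m) * ((n + m).choose i : R) * (d ^ m * z) by
          conv_lhs => rw [← Nat.sub_add_cancel h', pow_add]
          ring]
      exact T.mul_mem (T.mul_mem (T.mul_mem (pow_mem hc _) (pow_mem hd _)) (natCast_mem T _)) hm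
  smul_mem' := by
    rintro a c ⟨hc, hc'⟩
    refine ⟨T.smul_mem hc a, fun z => ?_⟩
    obtain ⟨n, hn⟩ := hc' z
    exact ⟨n, by rw [smul_pow, smul_mul_assoc]; exact T.smul_mem hn _⟩

theorem mul_mem_satSub (T : Subalgebra k R) {t c : R} (ht : t ∈ T) (hc : c ∈ satSub T) : t * c ∈ satSub T :=
  ⟨T.mul_mem ht hc.1, fun z => by
    obtain ⟨n, hn⟩ := hc.2 z
    exact ⟨n, by rw [mul_pow, mul_assoc]; exact T.mul_mem (pow_mem ht _) hn⟩⟩

end Sat

variable {k : Type u} [Field k] [IsAlgClosed k] [CharZero k]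
  {A : Type u} [CommRing A] [IsDomain A] [HopfAlgebra k A] [Algebra.FiniteType k A]
  {S : Type u} [CommRing S] [Algebra k S] [Algebra.FiniteType k S] [HopfRep.Comod k A S] [GLin.IsCoactAlg k A S]
  {R : Type u} [CommRing R] [Algebra k R] [Algebra.FiniteType k R] [HopfRep.Comod k A R] [GLin.IsCoactAlg k A R]
  [Algebra S R] [IsScalarTower k S R]

/-- A subalgebra stable under the points gives stable saturating elements. -/
theorem σ_mem_satSub (T : Subalgebra k R) (hT : ∀ g : A →ₐ[k] k, ∀ t ∈ T, σ R g t ∈ T) (g : A →ₐ[k] k) {c : R}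
    (hc : c ∈ satSub T) : σ R g c ∈ satSub T :=
  ⟨hT g c hc.1, fun z => by
    obtain ⟨n, hn⟩ := hc.2 (σ R ((WithConv.toConv g)⁻¹).ofConv z)
    refine ⟨n, ?_⟩
    have := hT g _ hn
    rwa [map_mul, map_pow, σ_inv_right] at this⟩

variable (hequiv : ∀ s : S, HopfRep.Comod.coact (k := k) (A := A) (algebraMap S R s) =
  Algebra.TensorProduct.map (IsScalarTower.toAlgHom k S R) (AlgHom.id k A) (HopfRep.Comod.coact (k := k) (A := A) s))

include hequiv

/-- **Luna's fundamental lemma.** -/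
theorem fundamental (hG : HopfRep.IsLinearlyReductive k A)
    (S₀ : Type u) [CommRing S₀] [Algebra k S₀] [Algebra S₀ S] [IsScalarTower k S₀ S]
    (hS₀i : Function.Injective (algebraMap S₀ S)) (hS₀ : (IsScalarTower.toAlgHom k S₀ S).range = GLin.invariants k A S)
    (R₀ : Type u) [CommRing R₀] [Algebra k R₀] [Algebra R₀ R] [IsScalarTower k R₀ R]
    (hR₀i : Function.Injective (algebraMap R₀ R)) (hR₀ : (IsScalarTower.toAlgHom k R₀ R).range = GLin.invariants k A R)
    [Algebra S₀ R₀] [Algebra S₀ R] [IsScalarTower S₀ S R] [IsScalarTower S₀ R₀ R]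
    (x : R →ₐ[k] k) (m : Ideal R) [m.IsMaximal] (hm : m = RingHom.ker x.toRingHom)
    (het : Algebra.IsEtaleAt S m)
    (hy : GLin.IsClosedOrbit k A (x.comp (IsScalarTower.toAlgHom k S R)))
    (hinj : ∀ g : A →ₐ[k] k, GLin.actPt k g (x.comp (IsScalarTower.toAlgHom k S R)) = x.comp (IsScalarTower.toAlgHom k S R) →
      GLin.actPt k g x = x) :
    ∃ (f : R₀) (g : S₀), x (algebraMap R₀ R (f * algebraMap S₀ R₀ g)) ≠ 0 ∧
      (∀ P : Ideal S, P.IsPrime → algebraMap S₀ S g ∉ P →
        ∃ Q : Ideal R, Q.IsPrime ∧ algebraMap R₀ R (f * algebraMap S₀ R₀ g) ∉ Q ∧ Q.comap (algebraMap S R) = P) ∧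
      (∀ (Q : Ideal R) [Q.IsPrime], algebraMap R₀ R (f * algebraMap S₀ R₀ g) ∉ Q → Algebra.IsEtaleAt S Q) ∧
      (∀ x' : R →ₐ[k] k, x' (algebraMap R₀ R (f * algebraMap S₀ R₀ g)) ≠ 0 → GLin.IsClosedOrbit k A x' →
        GLin.IsClosedOrbit k A (x'.comp (IsScalarTower.toAlgHom k S R))) ∧
      (∀ (q : Ideal R₀) [q.IsPrime], f * algebraMap S₀ R₀ g ∉ q → Algebra.IsEtaleAt S₀ q) ∧
      (∀ z : S ⊗[S₀] R₀, Algebra.TensorProduct.productMap (IsScalarTower.toAlgHom S₀ S R) (IsScalarTower.toAlgHom S₀ R₀ R) z = 0 →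
        ∃ n : ℕ, ((1 : S) ⊗ₜ[S₀] (f * algebraMap S₀ R₀ g)) ^ n * z = 0) ∧
      (∀ r : R, ∃ (n : ℕ) (z : S ⊗[S₀] R₀),
        Algebra.TensorProduct.productMap (IsScalarTower.toAlgHom S₀ S R) (IsScalarTower.toAlgHom S₀ R₀ R) z =
          algebraMap R₀ R (f * algebraMap S₀ R₀ g) ^ n * r) := by
  classical
  let ι := IsScalarTower.toAlgHom k S R
  let y := x.comp ι
  obtain ⟨α, hα⟩ := exists_isIntegral hG
  have hfS : ∀ c : S₀, algebraMap S₀ S c ∈ HopfRep.fixedPts k A S := fun c => by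
    have h : algebraMap S₀ S c ∈ (IsScalarTower.toAlgHom k S₀ S).range := ⟨c, rfl⟩
    rw [hS₀] at h
    exact h
  have hfR : ∀ c : R₀, algebraMap R₀ R c ∈ HopfRep.fixedPts k A R := fun c => by
    have h : algebraMap R₀ R c ∈ (IsScalarTower.toAlgHom k R₀ R).range := ⟨c, rfl⟩
    rw [hR₀] at h
    exact h
  have hgS : ∀ {s : S}, s ∈ HopfRep.fixedPts k A S → ∃ c : S₀, algebraMap S₀ S c = s := fun {s} hs => by
    have h : s ∈ (IsScalarTower.toAlgHom k S₀ S).range := hS₀.symm ▸ hs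
    exact h
  have hgR : ∀ {r : R}, r ∈ HopfRep.fixedPts k A R → ∃ c : R₀, algebraMap R₀ R c = r := fun {r} hr => by
    have h : r ∈ (IsScalarTower.toAlgHom k R₀ R).range := hR₀.symm ▸ hr
    exact h
  haveI : IsScalarTower k S₀ R₀ := IsScalarTower.of_algebraMap_eq fun c => hR₀i (by
    rw [← IsScalarTower.algebraMap_apply k R₀ R, ← IsScalarTower.algebraMap_apply S₀ R₀ R,
      IsScalarTower.algebraMap_apply S₀ S R, ← IsScalarTower.algebraMap_apply k S₀ S,
      ← IsScalarTower.algebraMap_apply k S R])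
  have hS₀R : ∀ c : S₀, x (algebraMap S₀ R c) = y (algebraMap S₀ S c) := fun c => by
    rw [IsScalarTower.algebraMap_apply S₀ S R]; rfl
  haveI := finiteType_of_range_eq_invariants hG S₀ hS₀i hS₀
  haveI := finiteType_of_range_eq_invariants hG R₀ hR₀i hR₀
  haveI : IsNoetherianRing S₀ := Algebra.FiniteType.isNoetherianRing k S₀
  haveI : IsNoetherianRing S := Algebra.FiniteType.isNoetherianRing k S
  haveI : IsNoetherianRing R := Algebra.FiniteType.isNoetherianRing k R
  haveI : Algebra.FiniteType S₀ R₀ := Algebra.FiniteType.of_restrictScalars_finiteType k S₀ R₀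
  haveI : Algebra.FinitePresentation S₀ R₀ := Algebra.FinitePresentation.of_finiteType.1 inferInstance
  -- the orbit of `x`
  have hx : GLin.IsClosedOrbit k A x := isClosedOrbit_of_stab (φ := ι) hequiv x hy hinj
  let K := RingHom.ker (GLin.orbitHom k A x)
  have hsurj : ∀ r : R, ∃ s : S, r - algebraMap S R s ∈ K := fun r => by
    obtain ⟨s, hs⟩ := exists_orbitHom_eq (φ := ι) hequiv x hy hinj r
    exact ⟨s, by rw [RingHom.mem_ker, map_sub, sub_eq_zero]; exact hs.symm⟩
  have hKx : ∀ r ∈ K, x r = 0 := fun r hr => by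
    have := congrArg (Coalgebra.counit (R := k)) (RingHom.mem_ker.1 hr)
    rwa [ClosedOrbit.counit_orbitHom, map_zero] at this
  have hinv : ∀ I : Submodule k R, (∀ g : A →ₐ[k] k, ∀ v ∈ I, σ R g v ∈ I) →
      (∀ s : S, ∀ v ∈ I, algebraMap S R s * v ∈ I) → ∀ v ∈ I, x v ≠ 0 →
      ∃ c : R₀, algebraMap R₀ R c ∈ I ∧ x (algebraMap R₀ R c) = 1 := by
    intro I hI hmul v hv hxv
    obtain ⟨c, hcI, hc, hc1⟩ := exists_fixed_mem hα hx I hI (fun r w hw => by
      obtain ⟨s, hs⟩ := hsurj r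
      exact ⟨_, hmul s w hw, by rw [← sub_mul]; exact K.mul_mem_right _ hs⟩) hv hxv
    obtain ⟨c', rfl⟩ := hgR hc
    exact ⟨c', hcI, hc1⟩
  -- the orbit is the preimage of its image
  let KR := (RingHom.ker (GLin.orbitHom k A y)).map (algebraMap S R)
  obtain ⟨u₁, hu₁, hu₁K⟩ := exists_orbit_preimage hequiv x m hm het hsurj
  let I₁ : Submodule k R :=
    { carrier := {u | ∀ r ∈ K, u * r ∈ KR}
      zero_mem' := fun r _ => by rw [zero_mul]; exact KR.zero_mem
      add_mem' := fun {a b} ha hb r hr => by rw [add_mul]; exact KR.add_mem (ha r hr) (hb r hr)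
      smul_mem' := fun c a ha r hr => by rw [smul_mul_assoc, Algebra.smul_def]; exact KR.mul_mem_left _ (ha r hr) }
  obtain ⟨a₁, ha₁, hxa₁⟩ := hinv I₁ (fun g u hu r hr => by
    have h := σ_mem_map_ker hequiv g (hu _ (σ_mem_ker_orbitHom hr ((WithConv.toConv g)⁻¹).ofConv))
    rwa [map_mul, σ_inv_right] at h)
    (fun s u hu r hr => by rw [mul_assoc]; exact KR.mul_mem_left _ (hu r hr)) u₁ hu₁K hu₁
  have hcov : ∀ r, x r = 0 → algebraMap R₀ R a₁ * r ∈ (RingHom.ker y).map (algebraMap S R) := fun r hr => by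
    obtain ⟨s, hs⟩ := hsurj r
    have hys : y s = 0 := by
      have := hKx _ hs
      rw [map_sub, hr, zero_sub, neg_eq_zero] at this
      exact this
    rw [show algebraMap R₀ R a₁ * r =
      algebraMap R₀ R a₁ * (r - algebraMap S R s) + algebraMap R₀ R a₁ * algebraMap S R s by ring]
    refine Ideal.add_mem _ (Ideal.map_mono ?_ (ha₁ _ hs)) (Ideal.mul_mem_left _ _ (Ideal.mem_map_of_mem _ hys))
    intro s' hs'
    have := congrArg (Coalgebra.counit (R := k)) (RingHom.mem_ker.1 hs')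
    rw [ClosedOrbit.counit_orbitHom, map_zero] at this
    exact this
  -- Zariski's main theorem
  let C : Subalgebra k R := (integralClosure S R).restrictScalars k
  have hC : ∀ g : A →ₐ[k] k, ∀ t ∈ C, σ R g t ∈ C := by
    rintro g t ⟨p, hp, hp0⟩
    refine ⟨p.map (σ S g).toRingHom, hp.map _, ?_⟩
    have := congrArg (σ R g).toRingHom hp0
    rw [Polynomial.hom_eval₂, map_zero] at this
    rw [Polynomial.eval₂_map, ← this]
    congr 1
    exact RingHom.ext fun s => (σ_algebraMap' hequiv g s).symm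
  obtain ⟨u₂, hu₂, hu₂i, hu₂s⟩ := exists_integral_denominator (S := S) x m hm het
  obtain ⟨a₂, ha₂, hxa₂⟩ := hinv (satSub C) (fun g v hv => σ_mem_satSub C hC g hv)
    (fun s v hv => mul_mem_satSub C (isIntegral_algebraMap) hv) u₂ ⟨hu₂i, hu₂s⟩ hu₂
  -- the image of the fibre product
  let Ψ := Algebra.TensorProduct.productMap (IsScalarTower.toAlgHom S₀ S R) (IsScalarTower.toAlgHom S₀ R₀ R)
  have hΨ : ∀ s a, Ψ (s ⊗ₜ[S₀] a) = algebraMap S R s * algebraMap R₀ R a := fun s a => by simp [Ψ]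
  let T : Subalgebra k R :=
    { carrier := Set.range Ψ
      mul_mem' := by rintro _ _ ⟨z, rfl⟩ ⟨w, rfl⟩; exact ⟨z * w, map_mul _ _ _⟩
      add_mem' := by rintro _ _ ⟨z, rfl⟩ ⟨w, rfl⟩; exact ⟨z + w, map_add _ _ _⟩
      algebraMap_mem' := fun c => ⟨algebraMap k S c ⊗ₜ[S₀] 1, by
        rw [hΨ, map_one, mul_one, ← IsScalarTower.algebraMap_apply]⟩ }
  have hTS : ∀ s, algebraMap S R s ∈ T := fun s => ⟨s ⊗ₜ[S₀] 1, by rw [hΨ, map_one, mul_one]⟩
  have hTR₀ : ∀ a, algebraMap R₀ R a ∈ T := fun a => ⟨1 ⊗ₜ[S₀] a, by rw [hΨ, map_one, one_mul]⟩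
  have hT : ∀ g : A →ₐ[k] k, ∀ t ∈ T, σ R g t ∈ T := by
    rintro g _ ⟨z, rfl⟩
    induction z using TensorProduct.induction_on with
    | zero => rw [map_zero, map_zero]; exact T.zero_mem
    | add p q hp hq => rw [map_add, map_add]; exact T.add_mem hp hq
    | tmul s a =>
      rw [hΨ, map_mul, σ_algebraMap' hequiv, σ_fixed (hfR a)]
      exact T.mul_mem (hTS _) (hTR₀ _)
  obtain ⟨u₃, hu₃T, hu₃, hu₃s⟩ := exists_mem_forall_pow_mul_mem x T hTS (algebraMap R₀ R a₁) (hTR₀ _) hxa₁ hcov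
    (algebraMap R₀ R a₂) (hTR₀ _) hxa₂ ha₂.2
  obtain ⟨a₃, ha₃, hxa₃⟩ := hinv (satSub T) (fun g v hv => σ_mem_satSub T hT g hv)
    (fun s v hv => mul_mem_satSub T (hTS s) hv) u₃ ⟨hu₃T, hu₃s⟩ hu₃
  -- the quotients at the point
  let xq : R₀ →ₐ[k] k := x.comp (IsScalarTower.toAlgHom k R₀ R)
  have hxq : ∀ a, xq a = x (algebraMap R₀ R a) := fun a => rfl
  let q : Ideal R₀ := RingHom.ker xq
  haveI hqmax : q.IsMaximal := RingHom.ker_isMaximal_of_surjective xq fun c => ⟨algebraMap k R₀ c, xq.commutes c⟩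
  let n : Ideal S₀ := q.under S₀
  have hn : ∀ c : S₀, c ∈ n ↔ y (algebraMap S₀ S c) = 0 := fun c => by
    show x (algebraMap R₀ R (algebraMap S₀ R₀ c)) = 0 ↔ _
    rw [← IsScalarTower.algebraMap_apply, hS₀R]
  have hS₀R' : ∀ c : S₀, algebraMap S₀ R c ∈ HopfRep.fixedPts k A R := fun c => by
    rw [IsScalarTower.algebraMap_apply S₀ R₀ R]; exact hfR _
  have hqn : ∀ a ∈ q, ∃ u : R₀, u ∉ q ∧ u * a ∈ n.map (algebraMap S₀ R₀) := by
    intro a ha
    have haK : algebraMap R₀ R a ∈ K := mem_ker_orbitHom fun g => by rw [σ_fixed (hfR a)]; exact ha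
    let Z : Submodule R₀ R :=
      { carrier := {v | ∀ w ∈ T, ∃ b ∈ n.map (algebraMap S₀ R₀), rey R α (w * v) = algebraMap R₀ R b}
        zero_mem' := fun w _ => ⟨0, zero_mem _, by simp⟩
        add_mem' := fun {v v'} hv hv' w hw => by
          obtain ⟨b, hb, e⟩ := hv w hw
          obtain ⟨b', hb', e'⟩ := hv' w hw
          exact ⟨b + b', add_mem hb hb', by rw [mul_add, map_add, e, e', map_add]⟩
        smul_mem' := fun c v hv w hw => by
          obtain ⟨b, hb, e⟩ := hv (w * algebraMap R₀ R c) (T.mul_mem hw (hTR₀ c))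
          exact ⟨b, hb, by rw [Algebra.smul_def, ← mul_assoc, e]⟩ }
    have key : ∀ v ∈ KR, ∃ N : ℕ, algebraMap R₀ R a₃ ^ N * v ∈ Z := by
      intro v hv
      change v ∈ Ideal.span _ at hv
      induction hv using Submodule.span_induction with
      | mem v hv =>
        obtain ⟨s, hs, rfl⟩ := hv
        refine ⟨0, fun w hw => ?_⟩
        rw [pow_zero, one_mul]
        obtain ⟨z, rfl⟩ := hw
        induction z using TensorProduct.induction_on with
        | zero => exact ⟨0, zero_mem _, by simp⟩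
        | add p q hp hq =>
          obtain ⟨b, hb, e⟩ := hp
          obtain ⟨b', hb', e'⟩ := hq
          exact ⟨b + b', add_mem hb hb', by rw [map_add, add_mul, map_add, e, e', map_add]⟩
        | tmul t c =>
          obtain ⟨c₀, hc₀⟩ := hgS (hα.rey_mem (t * s))
          have hts : t * s ∈ RingHom.ker (GLin.orbitHom k A y) := Ideal.mul_mem_left _ _ hs
          have hc₀n : c₀ ∈ n := by
            rw [hn, hc₀]
            have h : rey S α (t * s) ∈ RingHom.ker (GLin.orbitHom k A y) :=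
              rey_mem_of_forall_point ((RingHom.ker (GLin.orbitHom k A y)).restrictScalars k) _
                (fun g => σ_mem_ker_orbitHom hts g) α
            have := congrArg (Coalgebra.counit (R := k)) (RingHom.mem_ker.1 h)
            rwa [ClosedOrbit.counit_orbitHom, map_zero] at this
          have hι : Hoch.IsComodHom A ι.toLinearMap := by
            refine LinearMap.ext fun s => ?_
            show HopfRep.Comod.coact (k := k) (A := A) (algebraMap S R s) = _
            rw [hequiv]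
            show _ = LinearMap.rTensor A _ (HopfRep.Comod.coact (k := k) (A := A) s)
            induction HopfRep.Comod.coact (k := k) (A := A) s using TensorProduct.induction_on with
            | zero => simp
            | add p q hp hq => simp only [map_add, hp, hq]
            | tmul p q => simp [ι]
          refine ⟨c * algebraMap S₀ R₀ c₀, Ideal.mul_mem_left _ _ (Ideal.mem_map_of_mem _ hc₀n), ?_⟩
          rw [hΨ, show algebraMap S R t * algebraMap R₀ R c * algebraMap S R s =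
            algebraMap S R (t * s) * algebraMap R₀ R c by rw [map_mul]; ring, rey_mul_fixed α _ (hfR c), map_mul (algebraMap R₀ R),
            ← IsScalarTower.algebraMap_apply, IsScalarTower.algebraMap_apply S₀ S R, hc₀,
            show rey R α (algebraMap S R (t * s)) = algebraMap S R (rey S α (t * s)) from (rey_natural hι α _).symm,
            mul_comm]
      | zero => exact ⟨0, by rw [mul_zero]; exact Z.zero_mem⟩
      | add p p' _ _ hp hp' =>
        obtain ⟨N, hN⟩ := hp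
        obtain ⟨N', hN'⟩ := hp'
        refine ⟨N + N', ?_⟩
        rw [show algebraMap R₀ R a₃ ^ (N + N') * (p + p') =
          (a₃ ^ N') • (algebraMap R₀ R a₃ ^ N * p) + (a₃ ^ N) • (algebraMap R₀ R a₃ ^ N' * p') by
            rw [Algebra.smul_def, Algebra.smul_def, map_pow, map_pow]; ring]
        exact Z.add_mem (Z.smul_mem _ hN) (Z.smul_mem _ hN')
      | smul r p _ hp =>
        obtain ⟨N, hN⟩ := hp
        obtain ⟨N', hN'⟩ := ha₃.2 r
        refine ⟨N' + N, fun w hw => ?_⟩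
        obtain ⟨b, hb, e⟩ := hN (w * (algebraMap R₀ R a₃ ^ N' * r)) (T.mul_mem hw hN')
        refine ⟨b, hb, ?_⟩
        rw [smul_eq_mul, ← e, pow_add]
        congr 1
        ring
    obtain ⟨N, hN⟩ := key _ (ha₁ _ haK)
    obtain ⟨b, hb, e⟩ := hN 1 T.one_mem
    refine ⟨a₃ ^ N * a₁, fun h => ?_, ?_⟩
    · have h' : xq (a₃ ^ N * a₁) = 0 := h
      rw [map_mul, map_pow, hxq, hxq, hxa₁, hxa₃, one_pow, mul_one] at h'
      exact one_ne_zero h'
    · rw [show a₃ ^ N * a₁ * a = b from hR₀i (by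
        rw [← e, one_mul, hα.rey_eq, map_mul, map_mul, map_pow, mul_assoc]
        rw [← map_pow, ← map_mul, ← map_mul]
        exact hfR _)]
      exact hb
  haveI : q.LiesOver n := ⟨rfl⟩
  letI := Localization.AtPrime.algebraOfLiesOver n q
  haveI : Algebra.IsUnramifiedAt S₀ q := by
    refine (Algebra.isUnramifiedAt_iff_map_eq S₀ n q).2 ⟨⟨fun z => ?_⟩, ?_⟩
    · obtain ⟨z', rfl⟩ := (Ideal.bijective_algebraMap_quotient_residueField q).2 z
      obtain ⟨z', rfl⟩ := Ideal.Quotient.mk_surjective z'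
      have hz : algebraMap R₀ q.ResidueField z' = algebraMap S₀ q.ResidueField (algebraMap k S₀ (xq z')) := by
        rw [IsScalarTower.algebraMap_apply S₀ R₀ q.ResidueField, ← IsScalarTower.algebraMap_apply k S₀ R₀,
          ← sub_eq_zero, ← map_sub, Ideal.algebraMap_residueField_eq_zero, RingHom.mem_ker, map_sub, AlgHom.commutes]
        exact sub_self _
      show IsSeparable n.ResidueField (algebraMap R₀ q.ResidueField z')
      rw [hz, IsScalarTower.algebraMap_apply S₀ n.ResidueField q.ResidueField]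
      exact isSeparable_algebraMap _
    · refine le_antisymm ?_ ?_
      · rw [Ideal.map_le_iff_le_comap]
        intro c hc
        rw [Ideal.mem_comap, IsScalarTower.algebraMap_apply S₀ R₀ (Localization.AtPrime q)]
        exact (IsLocalization.AtPrime.to_map_mem_maximal_iff _ q _).2 hc
      · rw [← Localization.AtPrime.map_eq_maximalIdeal, Ideal.map_le_iff_le_comap]
        intro a ha
        obtain ⟨u, hu, hua⟩ := hqn a ha
        rw [Ideal.mem_comap, IsScalarTower.algebraMap_eq S₀ R₀ (Localization.AtPrime q), ← Ideal.map_map]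
        exact (IsLocalization.algebraMap_mem_map_algebraMap_iff q.primeCompl _ _ _).2 ⟨u, hu, hua⟩
  -- a standard étale algebra over the invariants below
  obtain ⟨f₀, hf₀, hf₀E⟩ := Algebra.IsUnramifiedAt.exists_hasStandardEtaleSurjectionOn (R := S₀) (Q := q)
  obtain ⟨G₀, hG₀def⟩ : ∃ G₀, G₀ = f₀ * a₃ := ⟨_, rfl⟩
  obtain ⟨P, φ, hφ⟩ := hf₀E.of_dvd (g := G₀) ⟨a₃, hG₀def⟩
  have hxG₀ : x (algebraMap R₀ R G₀) ≠ 0 := by
    rw [hG₀def, map_mul, map_mul, hxa₃, mul_one]
    exact hf₀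
  let R₀' := Localization.Away G₀
  let R' := Localization.Away (algebraMap R₀ R G₀)
  let μ : R₀' →ₐ[S₀] R' := IsLocalization.liftAlgHom (M := Submonoid.powers G₀) (S := R₀')
    (f := (IsScalarTower.toAlgHom S₀ R R').comp (IsScalarTower.toAlgHom S₀ R₀ R)) (by
      rintro ⟨_, N, rfl⟩
      simpa using (IsLocalization.Away.algebraMap_isUnit (S := R') (algebraMap R₀ R G₀)).pow N)
  have hμ : ∀ a, μ (algebraMap R₀ R₀' a) = algebraMap R R' (algebraMap R₀ R a) := fun a => by simp [μ]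
  haveI : IsScalarTower S₀ S R' := IsScalarTower.of_algebraMap_eq fun c => by
    rw [IsScalarTower.algebraMap_apply S₀ R R', IsScalarTower.algebraMap_apply S₀ S R,
      ← IsScalarTower.algebraMap_apply S R R']
  let Ψ' : S ⊗[S₀] R₀' →ₐ[S] R' := Algebra.TensorProduct.lift (Algebra.ofId S R') μ fun _ _ => .all _ _
  let mφ : S ⊗[S₀] P.Ring →ₐ[S] S ⊗[S₀] R₀' := Algebra.TensorProduct.map (AlgHom.id S S) φ
  let ψ : S ⊗[S₀] P.Ring →ₐ[S] R' := Ψ'.comp mφ
  have hψ : ∀ s e, ψ (s ⊗ₜ[S₀] e) = algebraMap S R' s * μ (φ e) := fun s e => by simp [ψ, Ψ', mφ, Algebra.ofId_apply]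
  have hunit : IsUnit (algebraMap R R' (algebraMap R₀ R G₀)) := IsLocalization.Away.algebraMap_isUnit _
  have hψΨ : ∀ z : S ⊗[S₀] R₀, Ψ' (Algebra.TensorProduct.map (AlgHom.id S S) (IsScalarTower.toAlgHom S₀ R₀ R₀') z) =
      algebraMap R R' (Ψ z) := fun z => by
    induction z using TensorProduct.induction_on with
    | zero => simp
    | add p q hp hq => simp only [map_add, hp, hq]
    | tmul s a => simp [Ψ', hΨ, hμ, Algebra.ofId_apply, ← IsScalarTower.algebraMap_apply S R R']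
  have hmφ : Function.Surjective mφ := fun z => by
    induction z using TensorProduct.induction_on with
    | zero => exact ⟨0, map_zero _⟩
    | add p q hp hq =>
      obtain ⟨a, ha⟩ := hp; obtain ⟨b, hb⟩ := hq
      exact ⟨a + b, by rw [map_add, ha, hb]⟩
    | tmul s a =>
      obtain ⟨e, rfl⟩ := hφ a
      exact ⟨s ⊗ₜ[S₀] e, by simp [mφ]⟩
  have hψs : Function.Surjective ψ := fun z => by
    obtain ⟨N, r, hr⟩ := IsLocalization.Away.surj (algebraMap R₀ R G₀) z
    obtain ⟨N', w, hw⟩ := ha₃.2 r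
    obtain ⟨τ, hτ⟩ := hmφ (Algebra.TensorProduct.map (AlgHom.id S S) (IsScalarTower.toAlgHom S₀ R₀ R₀')
      (w * (1 ⊗ₜ[S₀] (f₀ ^ N'))) * (1 ⊗ₜ[S₀] (IsLocalization.Away.invSelf G₀ ^ (N + N'))))
    refine ⟨τ, ?_⟩
    show Ψ' (mφ τ) = z
    have hinvSelf : algebraMap R R' (algebraMap R₀ R G₀) * μ (IsLocalization.Away.invSelf G₀) = 1 := by
      rw [← hμ, ← map_mul, IsLocalization.Away.mul_invSelf, map_one]
    rw [hτ, map_mul Ψ', hψΨ, map_mul Ψ, map_mul (algebraMap R R')]
    change algebraMap R R' (Ψ w) * algebraMap R R' (Ψ (1 ⊗ₜ[S₀] (f₀ ^ N'))) * Ψ' (1 ⊗ₜ[S₀] _) = z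
    rw [hw, hΨ, map_one, one_mul, map_mul, map_pow, map_pow, map_pow]
    simp only [Ψ', Algebra.TensorProduct.lift_tmul, map_one, one_mul, map_pow]
    calc algebraMap R R' (algebraMap R₀ R a₃) ^ N' * algebraMap R R' r * algebraMap R R' (algebraMap R₀ R f₀) ^ N' *
          μ (IsLocalization.Away.invSelf G₀) ^ (N + N')
        = z * (algebraMap R R' (algebraMap R₀ R G₀) * μ (IsLocalization.Away.invSelf G₀)) ^ (N + N') := by
          rw [← hr, show algebraMap R R' (algebraMap R₀ R G₀) =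
            algebraMap R R' (algebraMap R₀ R f₀) * algebraMap R R' (algebraMap R₀ R a₃) by
              rw [← map_mul, ← map_mul, ← hG₀def],
            mul_pow, mul_pow, pow_add, pow_add]
          ring
      _ = z := by rw [hinvSelf, one_pow, mul_one]
  -- the point upstairs
  let x' : R' →+* k := IsLocalization.Away.lift (algebraMap R₀ R G₀) (g := x.toRingHom) (isUnit_iff_ne_zero.2 hxG₀)
  have hx' : ∀ r, x' (algebraMap R R' r) = x r := fun r => IsLocalization.Away.lift_eq _ _ r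
  let xT : S ⊗[S₀] P.Ring →+* k := x'.comp ψ.toRingHom
  let xE : P.Ring →+* k := xT.comp (Algebra.TensorProduct.includeRight : P.Ring →ₐ[S₀] S ⊗[S₀] P.Ring).toRingHom
  let t : Ideal (S ⊗[S₀] P.Ring) := RingHom.ker xT
  haveI : t.IsPrime := RingHom.ker_isPrime _
  let Rm := Localization.AtPrime m
  let toRm : R' →ₐ[S] Rm := IsLocalization.liftAlgHom (M := Submonoid.powers (algebraMap R₀ R G₀)) (S := R')
    (f := IsScalarTower.toAlgHom S R Rm) (by
      rintro ⟨_, N, rfl⟩
      refine IsLocalization.map_units Rm (⟨algebraMap R₀ R G₀ ^ N, fun h => ?_⟩ : m.primeCompl)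
      rw [hm] at h
      exact hxG₀ (eq_zero_of_pow_eq_zero ((map_pow x _ _).symm.trans (RingHom.mem_ker.1 h))))
  have htoRm : ∀ r, toRm (algebraMap R R' r) = algebraMap R Rm r := fun r => by simp [toRm]
  let χ : S ⊗[S₀] P.Ring →ₐ[S] Rm := toRm.comp ψ
  have hχ : ∀ τ : t.primeCompl, IsUnit (χ τ.1) := by
    rintro ⟨τ, hτ⟩
    obtain ⟨N, r, hr⟩ := IsLocalization.Away.surj (algebraMap R₀ R G₀) (ψ τ)
    have hu : IsUnit (algebraMap R Rm r) := IsLocalization.map_units Rm (⟨r, fun h => hτ ?_⟩ : m.primeCompl)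
    · have h2 := congrArg toRm hr
      rw [map_mul, map_pow, htoRm, htoRm] at h2
      rw [← h2] at hu
      exact isUnit_of_mul_isUnit_left hu
    · rw [hm] at h
      show x' (ψ τ) = 0
      have h2 := congrArg x' hr
      rw [map_mul, map_pow, hx', hx', show x r = 0 from h] at h2
      exact (mul_eq_zero.1 h2).resolve_right (pow_ne_zero _ hxG₀)
  let LT := Localization.AtPrime t
  let χ' : LT →ₐ[S] Rm := IsLocalization.liftAlgHom (M := t.primeCompl) (S := LT) (f := χ) hχ
  have hχ' : ∀ τ, χ' (algebraMap _ LT τ) = toRm (ψ τ) := fun τ => by simp [χ', χ]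
  have hχ's : Function.Surjective χ' := fun z => by
    obtain ⟨r, ⟨u, hu⟩, rfl⟩ := IsLocalization.exists_mk'_eq m.primeCompl z
    obtain ⟨τ, hτ⟩ := hψs (algebraMap R R' r)
    obtain ⟨τ', hτ'⟩ := hψs (algebraMap R R' u)
    have hτ't : τ' ∉ t := fun h => hu (by
      have : x' (ψ τ') = 0 := h
      rw [hτ', hx'] at this
      rw [hm]; exact this)
    refine ⟨IsLocalization.mk' LT τ (⟨τ', hτ't⟩ : t.primeCompl), IsLocalization.eq_mk'_iff_mul_eq.2 ?_⟩
    show χ' _ * algebraMap R Rm u = algebraMap R Rm r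
    rw [← htoRm, ← htoRm, ← hτ, ← hτ', ← hχ', ← hχ', ← map_mul, IsLocalization.mk'_spec]
  haveI : Algebra.FormallyEtale S Rm := het
  haveI : IsNoetherianRing (S ⊗[S₀] P.Ring) := Algebra.FiniteType.isNoetherianRing S _
  haveI : IsNoetherianRing LT := IsLocalization.isNoetherianRing t.primeCompl LT inferInstance
  haveI : Algebra.FormallyUnramified (S ⊗[S₀] P.Ring) LT := Algebra.FormallyUnramified.of_isLocalization t.primeCompl
  haveI : Algebra.FormallyUnramified S LT := Algebra.FormallyUnramified.comp S (S ⊗[S₀] P.Ring) LT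
  have hχ'i : Function.Injective χ' := injective_of_surjective_of_formallyEtale χ' hχ's
  obtain ⟨gens, hgens⟩ := IsNoetherian.noetherian (R := S ⊗[S₀] P.Ring) (RingHom.ker ψ)
  have hex : ∀ z : gens, ∃ u : t.primeCompl, u.1 * z.1 = 0 := fun z =>
    (IsLocalization.map_eq_zero_iff t.primeCompl LT _).1 (hχ'i (by
      rw [hχ', map_zero, RingHom.mem_ker.1 (hgens.le (Submodule.subset_span z.2)), map_zero]))
  choose u hu using hex
  let Ann : Ideal (S ⊗[S₀] P.Ring) :=
    { carrier := {τ | ∀ z, ψ z = 0 → τ * z = 0}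
      zero_mem' := fun z _ => zero_mul z
      add_mem' := fun {a b} ha hb z hz => by rw [add_mul, ha z hz, hb z hz, add_zero]
      smul_mem' := fun c a ha z hz => by rw [smul_eq_mul, mul_assoc, ha z hz, mul_zero] }
  have huAnn : (∏ z, (u z).1) ∈ Ann := fun z hz => by
    have hz' : z ∈ (RingHom.ker ψ : Submodule _ _) := RingHom.mem_ker.2 hz
    rw [← hgens] at hz'
    clear hz
    induction hz' using Submodule.span_induction with
    | mem v hv => rw [← Finset.prod_erase_mul _ _ (Finset.mem_univ (⟨v, hv⟩ : gens)), mul_assoc, hu ⟨v, hv⟩, mul_zero]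
    | zero => rw [mul_zero]
    | add p q _ _ hp hq => rw [mul_add, hp, hq, add_zero]
    | smul c p _ hp => rw [smul_eq_mul, mul_left_comm, hp, mul_zero]
  have huT : xT (∏ z, (u z).1) ≠ 0 := by
    rw [map_prod]
    exact Finset.prod_ne_zero_iff.2 fun z _ => (u z).2
  -- translations
  let σS : (A →ₐ[k] k) → (S →ₐ[S₀] S) := fun g => ⟨(σ S g).toRingHom, fun c => σ_fixed (hfS c) g⟩
  let σT : (A →ₐ[k] k) → (S ⊗[S₀] P.Ring →ₐ[S₀] S ⊗[S₀] P.Ring) := fun g =>
    Algebra.TensorProduct.map (σS g) (AlgHom.id S₀ P.Ring)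
  have hσTt : ∀ g s e, σT g (s ⊗ₜ[S₀] e) = σ S g s ⊗ₜ[S₀] e := fun g s e => rfl
  have hσT : ∀ g z, fActT hfS P.Ring g.toLinearMap z = σT g z := fActT_point hfS P.Ring
  have hσinv : ∀ g z, σT g (σT ((WithConv.toConv g)⁻¹).ofConv z) = z := fun g z => by
    induction z using TensorProduct.induction_on with
    | zero => simp
    | add p q hp hq => simp only [map_add, hp, hq]
    | tmul s e => rw [hσTt, hσTt, σ_inv_right]
  have hσker : ∀ g z, ψ z = 0 → ψ (σT g z) = 0 := by
    intro g z hz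
    let σ' : R' →+* R' := IsLocalization.Away.lift (algebraMap R₀ R G₀) (g := (algebraMap R R').comp (σ R g).toRingHom)
      (by rw [RingHom.comp_apply]; simpa [σ_fixed (hfR G₀)] using hunit)
    have hσ' : ∀ r, σ' (algebraMap R R' r) = algebraMap R R' (σ R g r) := fun r => IsLocalization.Away.lift_eq _ _ r
    have hσμ : σ'.comp μ.toRingHom = μ.toRingHom := IsLocalization.ringHom_ext (Submonoid.powers G₀) (RingHom.ext fun a => by
      show σ' (μ (algebraMap R₀ R₀' a)) = μ (algebraMap R₀ R₀' a)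
      rw [hμ, hσ', σ_fixed (hfR a)])
    suffices hcomm : ψ (σT g z) = σ' (ψ z) by rw [hcomm, hz, map_zero]
    clear hz
    induction z using TensorProduct.induction_on with
    | zero => simp
    | add p q hp hq => simp only [map_add, hp, hq]
    | tmul s e =>
      rw [hσTt, hψ, hψ, map_mul, IsScalarTower.algebraMap_apply S R R', IsScalarTower.algebraMap_apply S R R', hσ',
        σ_algebraMap' hequiv, show σ' (μ (φ e)) = μ (φ e) from RingHom.congr_fun hσμ _]
  have hσAnn : ∀ g τ, τ ∈ Ann → σT g τ ∈ Ann := fun g τ hτ z hz => by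
    rw [← hσinv g z, ← map_mul, hτ _ (hσker _ _ hz), map_zero]
  let QT : Ideal (S ⊗[S₀] P.Ring) := (RingHom.ker xE).map
    (Algebra.TensorProduct.includeRight : P.Ring →ₐ[S₀] S ⊗[S₀] P.Ring)
  have hQTx : ∀ z ∈ QT, xT z = 0 := fun z hz => by
    have hle : QT ≤ t := Ideal.map_le_iff_le_comap.2 fun e he => he
    exact hle hz
  have hσQT : ∀ g z, z ∈ QT → σT g z ∈ QT := fun g z hz => by
    have hle : QT ≤ QT.comap (σT g) := Ideal.map_le_iff_le_comap.2 fun e he => by
      rw [Ideal.mem_comap, Ideal.mem_comap, Algebra.TensorProduct.includeRight_apply, hσTt, map_one]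
      exact Ideal.mem_map_of_mem _ he
    exact hle hz
  have hxTs : ∀ s : S, xT (s ⊗ₜ[S₀] 1) = y s := fun s => by
    show x' (ψ _) = _
    rw [hψ, map_one, map_one, mul_one, IsScalarTower.algebraMap_apply S R R', hx']
    rfl
  have hred : ∀ τ : S ⊗[S₀] P.Ring, ∃ s : S, τ - s ⊗ₜ[S₀] 1 ∈ QT := fun τ => by
    induction τ using TensorProduct.induction_on with
    | zero => exact ⟨0, by simp⟩
    | add p q hp hq =>
      obtain ⟨s, hs⟩ := hp; obtain ⟨s', hs'⟩ := hq
      exact ⟨s + s', by rw [add_tmul, add_sub_add_comm]; exact QT.add_mem hs hs'⟩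
    | tmul s e =>
      refine ⟨algebraMap k S (xE e) * s, ?_⟩
      have hmem : e - algebraMap S₀ P.Ring (algebraMap k S₀ (xE e)) ∈ RingHom.ker xE := by
        rw [RingHom.mem_ker, map_sub, sub_eq_zero]
        show xE e = xT ((1 : S) ⊗ₜ[S₀] algebraMap S₀ P.Ring (algebraMap k S₀ (xE e)))
        rw [← Algebra.TensorProduct.algebraMap_apply', Algebra.TensorProduct.algebraMap_apply, hxTs,
          ← IsScalarTower.algebraMap_apply k S₀ S, AlgHom.commutes]
        rfl
      have h1 := QT.mul_mem_left (s ⊗ₜ[S₀] 1) (Ideal.mem_map_of_mem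
        (Algebra.TensorProduct.includeRight : P.Ring →ₐ[S₀] S ⊗[S₀] P.Ring) hmem)
      rw [Algebra.TensorProduct.includeRight_apply, Algebra.TensorProduct.tmul_mul_tmul, mul_one, one_mul,
        tmul_sub, Algebra.algebraMap_eq_smul_one (A := P.Ring), ← smul_tmul, Algebra.smul_def,
        ← IsScalarTower.algebraMap_apply k S₀ S] at h1
      exact h1
  let 𝔰 : Submodule k S :=
    { carrier := {s | ∃ τ ∈ Ann, τ - s ⊗ₜ[S₀] 1 ∈ QT}
      zero_mem' := ⟨0, Ann.zero_mem, by simp⟩
      add_mem' := by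
        rintro s s' ⟨τ, hτ, h⟩ ⟨τ', hτ', h'⟩
        exact ⟨τ + τ', Ann.add_mem hτ hτ', by rw [add_tmul, add_sub_add_comm]; exact QT.add_mem h h'⟩
      smul_mem' := by
        rintro c s ⟨τ, hτ, h⟩
        refine ⟨(algebraMap k S c ⊗ₜ[S₀] 1) * τ, Ann.mul_mem_left _ hτ, ?_⟩
        rw [show (c • s) ⊗ₜ[S₀] (1 : P.Ring) = (algebraMap k S c ⊗ₜ[S₀] (1 : P.Ring)) * (s ⊗ₜ[S₀] 1) by
          rw [Algebra.TensorProduct.tmul_mul_tmul, one_mul, Algebra.smul_def], ← mul_sub]
        exact QT.mul_mem_left _ h }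
  obtain ⟨s₀, hs₀⟩ := hred (∏ z, (u z).1)
  have hs₀y : y s₀ ≠ 0 := by
    intro h
    refine huT ?_
    have := hQTx _ hs₀
    rwa [map_sub, hxTs, h, sub_zero] at this
  obtain ⟨c, ⟨τ, hτA, hτQ⟩, hcfix, hyc⟩ := exists_fixed_mem hα hy 𝔰
    (fun g s hs => by
      obtain ⟨τ, hτ, h⟩ := hs
      refine ⟨σT g τ, hσAnn g τ hτ, ?_⟩
      rw [← hσTt, ← map_sub]
      exact hσQT g _ h)
    (fun r s hs => ⟨r * s, by
      obtain ⟨τ, hτ, h⟩ := hs
      refine ⟨(r ⊗ₜ[S₀] 1) * τ, Ann.mul_mem_left _ hτ, ?_⟩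
      rw [show (r * s) ⊗ₜ[S₀] (1 : P.Ring) = (r ⊗ₜ[S₀] (1 : P.Ring)) * (s ⊗ₜ[S₀] 1) by
        rw [Algebra.TensorProduct.tmul_mul_tmul, one_mul], ← mul_sub]
      exact QT.mul_mem_left _ h, by rw [sub_self]; exact zero_mem _⟩)
    (show s₀ ∈ 𝔰 from ⟨_, huAnn, hs₀⟩) hs₀y
  let φα := α ∘ₗ HopfAlgebraStruct.antipode (R := k) (A := A)
  have hrey : ∀ s, fAct S φα s = rey S α s := fun s => (rey_apply α s).symm
  let τ₂ := fActT hfS P.Ring φα τ
  have hτ₂A : τ₂ ∈ Ann := fActT_mem_of_forall_point hfS P.Ring (Ann.restrictScalars k) τ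
    (fun g => by rw [hσT]; exact hσAnn g τ hτA) φα
  have hτ₂Q : τ₂ - c ⊗ₜ[S₀] 1 ∈ QT := by
    have h := fActT_mem_of_forall_point hfS P.Ring (QT.restrictScalars k) _
      (fun g => by rw [hσT]; exact hσQT g _ hτQ) φα
    rw [Submodule.restrictScalars_mem, map_sub, fActT_tmul, hrey, hα.rey_eq hcfix] at h
    exact h
  obtain ⟨a, ha⟩ : ∃ a : P.Ring, (1 : S) ⊗ₜ[S₀] a = τ₂ := by
    have : ∀ z, ∃ a : P.Ring, (1 : S) ⊗ₜ[S₀] a = fActT hfS P.Ring φα z := fun z => by
      induction z using TensorProduct.induction_on with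
      | zero => exact ⟨0, by simp⟩
      | add p q hp hq =>
        obtain ⟨a, ha⟩ := hp; obtain ⟨b, hb⟩ := hq
        exact ⟨a + b, by rw [tmul_add, map_add, ha, hb]⟩
      | tmul s e =>
        obtain ⟨d, hd⟩ := hgS (hα.rey_mem s)
        refine ⟨d • e, ?_⟩
        rw [fActT_tmul, hrey, ← hd, ← smul_tmul, Algebra.algebraMap_eq_smul_one]
    exact this τ
  have hxa : x' (μ (φ a)) = 1 := by
    have h := hQTx _ hτ₂Q
    rw [map_sub, hxTs, hyc, sub_eq_zero, ← ha] at h
    rw [show x' (μ (φ a)) = xT ((1 : S) ⊗ₜ[S₀] a) from by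
      show _ = x' (ψ _)
      rw [hψ, map_one, one_mul]]
    exact h
  have hkill : ∀ z, ψ z = 0 → ((1 : S) ⊗ₜ[S₀] a) * z = 0 := fun z hz => ha ▸ hτ₂A z hz
  have hkillE : ∀ e, φ e = 0 → a * e = 0 := by
    intro e he
    have h := hkill (1 ⊗ₜ[S₀] e) (by rw [hψ, he, map_zero, mul_zero])
    rw [Algebra.TensorProduct.tmul_mul_tmul, one_mul] at h
    have hr : ∀ s, ∃ d : S₀, algebraMap S₀ S d = rey S α s := fun s => hgS (hα.rey_mem s)
    choose d hd using hr
    let ρ : S →ₗ[S₀] S₀ :=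
      { toFun := d
        map_add' := fun s s' => hS₀i (by rw [map_add, hd, hd, hd, map_add])
        map_smul' := fun b s => hS₀i (by
          rw [RingHom.id_apply, smul_eq_mul, map_mul, hd, hd, Algebra.smul_def, mul_comm,
            rey_mul_fixed α s (hfS b), mul_comm]) }
    have h1 : d (1 : S) = 1 := hS₀i (by
      rw [hd]
      exact (hα.rey_eq (by simpa using hfS 1)).trans (map_one _).symm)
    have := congrArg (fun z => TensorProduct.lid S₀ P.Ring (ρ.rTensor P.Ring z)) h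
    simp only [LinearMap.rTensor_tmul, TensorProduct.lid_tmul, map_zero] at this
    rw [show ρ (1 : S) = 1 from h1, one_smul] at this
    exact this
  -- the neighbourhood
  obtain ⟨j, a₀, ha₀⟩ := IsLocalization.Away.surj G₀ (φ a)
  have hxa₀ : x (algebraMap R₀ R a₀) ≠ 0 := by
    have h : x' (μ (φ a * algebraMap R₀ R₀' G₀ ^ j)) = x' (μ (algebraMap R₀ R₀' a₀)) :=
      congrArg (fun z => x' (μ z)) ha₀
    rw [map_mul μ, map_pow μ, map_mul x', map_pow x', hμ, hμ, hx', hx', hxa, one_mul] at h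
    rw [← h]
    exact pow_ne_zero _ hxG₀
  obtain ⟨G, hGdef⟩ : ∃ G, G = G₀ * a₀ := ⟨_, rfl⟩
  have hxG : x (algebraMap R₀ R G) ≠ 0 := by
    rw [hGdef, map_mul, map_mul]
    exact mul_ne_zero hxG₀ hxa₀
  let R₀G := Localization.Away G
  have hG₀u : IsUnit (algebraMap R₀ R₀G G₀) :=
    isUnit_of_dvd_unit (map_dvd _ ⟨a₀, hGdef⟩) (IsLocalization.Away.algebraMap_isUnit G)
  have ha₀u : IsUnit (algebraMap R₀ R₀G a₀) :=
    isUnit_of_dvd_unit (map_dvd _ ⟨G₀, hGdef.trans (mul_comm _ _)⟩) (IsLocalization.Away.algebraMap_isUnit G)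
  let ν : R₀' →ₐ[S₀] R₀G := IsLocalization.liftAlgHom (M := Submonoid.powers G₀) (S := R₀')
    (f := IsScalarTower.toAlgHom S₀ R₀ R₀G) (by rintro ⟨_, N, rfl⟩; simpa using hG₀u.pow N)
  have hν : ∀ b, ν (algebraMap R₀ R₀' b) = algebraMap R₀ R₀G b := fun b => by simp [ν]
  letI : Algebra P.Ring R₀G := (ν.comp φ).toRingHom.toAlgebra
  haveI : IsScalarTower S₀ P.Ring R₀G := IsScalarTower.of_algebraMap_eq fun c => ((ν.comp φ).commutes c).symm
  have hνa : ν (φ a) * algebraMap R₀ R₀G G₀ ^ j = algebraMap R₀ R₀G a₀ := by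
    rw [← hν, ← hν, ← map_pow, ← map_mul, ha₀]
  haveI : IsLocalization.Away a R₀G := by
    refine IsLocalization.Away.mk a ?_ (fun z => ?_) fun e e' hee => ?_
    · show IsUnit (ν (φ a))
      exact isUnit_of_mul_isUnit_left (hνa.symm ▸ ha₀u)
    · obtain ⟨N, b, hb⟩ := IsLocalization.Away.surj G z
      obtain ⟨e, he⟩ := hφ (algebraMap R₀ R₀' b * IsLocalization.Away.invSelf G₀ ^ (j * N + N))
      refine ⟨N, e, ?_⟩
      show z * ν (φ a) ^ N = ν (φ e)
      refine (hG₀u.pow (j * N + N)).mul_right_cancel ?_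
      rw [he, map_mul, hν, map_pow, ← hν G₀, mul_assoc (algebraMap R₀ R₀G b), ← mul_pow, ← map_mul,
        mul_comm (IsLocalization.Away.invSelf G₀), IsLocalization.Away.mul_invSelf, map_one, one_pow, mul_one, hν,
        ← hb, show algebraMap R₀ R₀G G = algebraMap R₀ R₀G G₀ * (ν (φ a) * algebraMap R₀ R₀G G₀ ^ j) by
          rw [hνa, ← map_mul, ← hGdef]]
      rw [mul_pow, mul_pow, ← pow_mul, pow_add]
      ring
    · have h0 : ν (φ (e - e')) = 0 := by
        rw [map_sub, map_sub, sub_eq_zero]; exact hee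
      obtain ⟨N, b, hb⟩ := IsLocalization.Away.surj G₀ (φ (e - e'))
      have hb0 : algebraMap R₀ R₀G b = 0 := by
        rw [← hν, ← hb, map_mul, h0, zero_mul]
      obtain ⟨M, hM⟩ := IsLocalization.Away.exists_of_eq (S := R₀G) G (hb0.trans (map_zero _).symm)
      rw [mul_zero] at hM
      have h3 := congrArg (algebraMap R₀ R₀') hM
      rw [hGdef, map_mul, map_pow, map_mul, map_zero, ← hb, mul_pow] at h3
      have hu' : IsUnit (algebraMap R₀ R₀' G₀) := IsLocalization.Away.algebraMap_isUnit G₀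
      rw [← ha₀, mul_pow] at h3
      have h4 : φ (a ^ M * (e - e')) = 0 := by
        refine ((hu'.pow N).mul ((hu'.pow M).mul ((hu'.pow j).pow M))).mul_right_cancel ?_
        rw [zero_mul, map_mul, map_pow, ← h3]
        ring
      refine ⟨M + 1, sub_eq_zero.1 ?_⟩
      rw [← mul_sub, pow_succ, mul_comm (a ^ M), mul_assoc]
      exact hkillE _ h4
  haveI : Algebra.Etale P.Ring R₀G := Algebra.Etale.of_isLocalizationAway a
  haveI hetG : Algebra.Etale S₀ R₀G := Algebra.Etale.comp S₀ P.Ring R₀G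
  have hker : ∀ z : S ⊗[S₀] R₀, Ψ z = 0 → ∃ N : ℕ, ((1 : S) ⊗ₜ[S₀] G) ^ N * z = 0 := by
    intro z hz
    obtain ⟨τ, hτ⟩ := hmφ (Algebra.TensorProduct.map (AlgHom.id S S) (IsScalarTower.toAlgHom S₀ R₀ R₀') z)
    have h1 := congrArg mφ (hkill τ (by show Ψ' (mφ τ) = 0; rw [hτ, hψΨ, hz, map_zero]))
    rw [map_mul, map_zero, hτ] at h1
    simp only [mφ, Algebra.TensorProduct.map_tmul, map_one] at h1
    have h2 := congrArg (fun w => ((1 : S) ⊗ₜ[S₀] (algebraMap R₀ R₀' G₀ ^ j)) * w) h1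
    simp only [mul_zero] at h2
    rw [← mul_assoc, Algebra.TensorProduct.tmul_mul_tmul, one_mul, mul_comm (algebraMap R₀ R₀' G₀ ^ j), ha₀] at h2
    rw [show (1 : S) ⊗ₜ[S₀] algebraMap R₀ R₀' a₀ = Algebra.TensorProduct.map (AlgHom.id S S)
      (IsScalarTower.toAlgHom S₀ R₀ R₀') ((1 : S) ⊗ₜ[S₀] a₀) by simp, ← map_mul] at h2
    have hcomp : ∀ w : S ⊗[S₀] R₀, IsLocalization.Away.tensorProductEquivTMulRight S₀ S G₀ R₀'
        (Algebra.TensorProduct.map (AlgHom.id S S) (IsScalarTower.toAlgHom S₀ R₀ R₀') w) = algebraMap _ _ w := fun w => by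
      induction w using TensorProduct.induction_on with
      | zero => simp
      | add p q hp hq => simp only [map_add, hp, hq]
      | tmul p q => simp
    have h3 := congrArg (IsLocalization.Away.tensorProductEquivTMulRight S₀ S G₀ R₀') h2
    rw [hcomp, map_zero] at h3
    obtain ⟨N, hN⟩ := IsLocalization.Away.exists_of_eq (S := Localization.Away ((1 : S) ⊗ₜ[S₀] G₀))
      ((1 : S) ⊗ₜ[S₀] G₀) (h3.trans (map_zero _).symm)
    rw [mul_zero] at hN
    refine ⟨N + 1, ?_⟩
    rw [show (1 : S) ⊗ₜ[S₀] G = ((1 : S) ⊗ₜ[S₀] G₀) * ((1 : S) ⊗ₜ[S₀] a₀) by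
      rw [Algebra.TensorProduct.tmul_mul_tmul, one_mul, ← hGdef]]
    calc ((1 : S) ⊗ₜ[S₀] G₀ * (1 : S) ⊗ₜ[S₀] a₀) ^ (N + 1) * z
        = ((1 : S) ⊗ₜ[S₀] G₀) * ((1 : S) ⊗ₜ[S₀] a₀) ^ N * (((1 : S) ⊗ₜ[S₀] G₀) ^ N * ((1 : S) ⊗ₜ[S₀] a₀ * z)) := by ring
      _ = 0 := by rw [hN, mul_zero]
  have hsatG : ∀ (b : R₀) (r : R), ∃ (N : ℕ) (z : S ⊗[S₀] R₀), Ψ z = algebraMap R₀ R (G * b) ^ N * r := by
    intro b r
    obtain ⟨N, z, hz⟩ := ha₃.2 r
    refine ⟨N, z * (1 ⊗ₜ[S₀] ((f₀ * a₀ * b) ^ N)), ?_⟩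
    rw [map_mul, hz, hΨ, map_one, one_mul]
    simp only [hGdef, hG₀def, map_mul, map_pow]
    ring
  -- the base change
  let RG := Localization.Away (algebraMap R₀ R G)
  letI : Algebra (S ⊗[S₀] R₀) RG := ((algebraMap R RG).comp Ψ.toRingHom).toAlgebra
  haveI : IsScalarTower S (S ⊗[S₀] R₀) RG := IsScalarTower.of_algebraMap_eq fun s => by
    show _ = algebraMap R RG (Ψ _)
    rw [Algebra.TensorProduct.algebraMap_apply, Algebra.algebraMap_self, RingHom.id_apply, hΨ, map_one, mul_one,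
      ← IsScalarTower.algebraMap_apply]
  haveI : IsLocalization.Away ((1 : S) ⊗ₜ[S₀] G) RG := by
    have hg : ∀ w, algebraMap (S ⊗[S₀] R₀) RG w = algebraMap R RG (Ψ w) := fun w => rfl
    have hΨG : Ψ ((1 : S) ⊗ₜ[S₀] G) = algebraMap R₀ R G := by rw [hΨ, map_one, one_mul]
    refine IsLocalization.Away.mk _ ?_ (fun z => ?_) fun w w' hww => ?_
    · rw [hg, hΨG]; exact IsLocalization.Away.algebraMap_isUnit _
    · obtain ⟨N, r, hr⟩ := IsLocalization.Away.surj (algebraMap R₀ R G) z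
      obtain ⟨N', w, hw⟩ := hsatG 1 r
      refine ⟨N + N', w, ?_⟩
      rw [hg, hg, hw, hΨG, map_mul, ← hr, map_pow, mul_one, pow_add]
      ring
    · rw [hg, hg] at hww
      obtain ⟨N, hN⟩ := IsLocalization.Away.exists_of_eq (S := RG) (algebraMap R₀ R G) hww
      obtain ⟨N', hN'⟩ := hker (((1 : S) ⊗ₜ[S₀] G) ^ N * (w - w')) (by
        rw [map_mul, map_pow, hΨG, map_sub, mul_sub, hN, sub_self])
      exact ⟨N' + N, sub_eq_zero.1 (by rw [← mul_sub, pow_add, mul_assoc]; exact hN')⟩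
  let eG : S ⊗[S₀] R₀G ≃ₐ[S] RG := (IsLocalization.Away.tensorProductEquivTMulRight S₀ S G R₀G).trans
    ((IsLocalization.algEquiv (Submonoid.powers ((1 : S) ⊗ₜ[S₀] G))
      (Localization.Away ((1 : S) ⊗ₜ[S₀] G)) RG).restrictScalars S)
  haveI hetRG : Algebra.Etale S RG := Algebra.Etale.of_equiv eG
  -- the open set below
  haveI : Module.Flat S₀ R₀G := inferInstance
  have hopen : IsOpen (Set.range (PrimeSpectrum.comap (algebraMap S₀ R₀G))) :=
    (PrimeSpectrum.isOpenMap_comap_of_hasGoingDown_of_finitePresentation (R := S₀) (S := R₀G)).isOpen_range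
  haveI hnp : n.IsPrime := Ideal.IsPrime.comap _
  have hnmem : (⟨n, hnp⟩ : PrimeSpectrum S₀) ∈ Set.range (PrimeSpectrum.comap (algebraMap S₀ R₀G)) := by
    let xG : R₀G →+* k := IsLocalization.Away.lift G (g := xq.toRingHom) (isUnit_iff_ne_zero.2 hxG)
    refine ⟨⟨RingHom.ker xG, RingHom.ker_isPrime _⟩, PrimeSpectrum.ext (Ideal.ext fun c => ?_)⟩
    show xG (algebraMap S₀ R₀G c) = 0 ↔ c ∈ n
    rw [IsScalarTower.algebraMap_apply S₀ R₀ R₀G, IsLocalization.Away.lift_eq]
    rfl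
  obtain ⟨_, ⟨g, rfl⟩, hgn, hgsub⟩ :=
    PrimeSpectrum.isTopologicalBasis_basic_opens.exists_subset_of_mem_open hnmem hopen
  have hyg : y (algebraMap S₀ S g) ≠ 0 := fun h => hgn ((hn g).2 h)
  let F := G * algebraMap S₀ R₀ g
  have hxF : x (algebraMap R₀ R F) ≠ 0 := by
    rw [map_mul, map_mul, ← IsScalarTower.algebraMap_apply S₀ R₀ R, hS₀R]
    exact mul_ne_zero hxG hyg
  refine ⟨G, g, hxF, ?_, ?_, ?_, ?_, ?_, hsatG _⟩
  · intro Pr hPr hgP
    let p : PrimeSpectrum S₀ := ⟨Pr.comap (algebraMap S₀ S), hPr.comap _⟩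
    haveI h1 : Nontrivial (p.asIdeal.ResidueField ⊗[S₀] R₀G) :=
      (PrimeSpectrum.nontrivial_iff_mem_rangeComap p).2 (hgsub hgP)
    haveI := hPr
    let κp := p.asIdeal.ResidueField
    let fP : κp →ₐ[S₀] Pr.ResidueField := Ideal.ResidueField.mapₐ p.asIdeal Pr (Algebra.ofId S₀ S) rfl
    letI : Algebra κp Pr.ResidueField := fP.toRingHom.toAlgebra
    haveI : IsScalarTower S₀ κp Pr.ResidueField := IsScalarTower.of_algebraMap_eq fun c => (fP.commutes c).symm
    haveI h2 : Nontrivial (Pr.ResidueField ⊗[κp] (κp ⊗[S₀] R₀G)) :=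
      (Module.FaithfullyFlat.nontrivial_tensorProduct_iff_right κp Pr.ResidueField).2 h1
    haveI h3 : Nontrivial (Pr.ResidueField ⊗[S₀] R₀G) :=
      (TensorProduct.AlgebraTensorModule.cancelBaseChange S₀ κp κp Pr.ResidueField R₀G).toEquiv.symm.nontrivial
    obtain ⟨M, hM⟩ := Ideal.exists_maximal (Pr.ResidueField ⊗[S₀] R₀G)
    let φP : S ⊗[S₀] R₀G →ₐ[S₀] Pr.ResidueField ⊗[S₀] R₀G :=
      Algebra.TensorProduct.map (IsScalarTower.toAlgHom S₀ S Pr.ResidueField) (AlgHom.id S₀ R₀G)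
    let Qt : Ideal RG := ((M.comap φP).comap eG.symm)
    haveI : Qt.IsPrime := by
      haveI := hM.isPrime
      exact Ideal.IsPrime.comap _
    refine ⟨Qt.comap (algebraMap R RG), Ideal.IsPrime.comap _, fun h => ?_, Ideal.ext fun s => ?_⟩
    · rw [map_mul] at h
      rcases (Ideal.IsPrime.comap (algebraMap R RG) (K := Qt)).mem_or_mem h with h | h
      · exact Ideal.IsPrime.ne_top inferInstance (Qt.eq_top_of_isUnit_mem h (IsLocalization.Away.algebraMap_isUnit _))
      · rw [← IsScalarTower.algebraMap_apply, IsScalarTower.algebraMap_apply S₀ S R] at h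
        refine hgP ?_
        rw [Ideal.mem_comap, ← IsScalarTower.algebraMap_apply S R RG] at h
        change φP (eG.symm (algebraMap S RG _)) ∈ M at h
        rw [AlgEquiv.commutes] at h
        by_contra hne
        have hu : IsUnit (φP (algebraMap S (S ⊗[S₀] R₀G) (algebraMap S₀ S g))) := by
          rw [Algebra.TensorProduct.algebraMap_apply, Algebra.algebraMap_self, RingHom.id_apply,
            Algebra.TensorProduct.map_tmul, map_one]
          exact (isUnit_iff_ne_zero.2 fun h0 => hne (Ideal.algebraMap_residueField_eq_zero.1 h0)).map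
            (Algebra.TensorProduct.includeLeftRingHom (R := S₀) (B := R₀G))
        exact hM.ne_top (M.eq_top_of_isUnit_mem h hu)
    · show φP (eG.symm (algebraMap R RG (algebraMap S R s))) ∈ M ↔ s ∈ Pr
      rw [← IsScalarTower.algebraMap_apply S R RG, AlgEquiv.commutes, Algebra.TensorProduct.algebraMap_apply,
        Algebra.algebraMap_self, RingHom.id_apply, Algebra.TensorProduct.map_tmul, map_one]
      refine ⟨fun h => by_contra fun hne => ?_, fun h => ?_⟩
      · exact hM.ne_top (M.eq_top_of_isUnit_mem h ((isUnit_iff_ne_zero.2 fun h0 =>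
          hne (Ideal.algebraMap_residueField_eq_zero.1 h0)).map
            (Algebra.TensorProduct.includeLeftRingHom (R := S₀) (B := R₀G))))
      · rw [show IsScalarTower.toAlgHom S₀ S Pr.ResidueField s = 0 from Ideal.algebraMap_residueField_eq_zero.2 h,
          zero_tmul]
        exact M.zero_mem
  · intro Q _ hQ
    haveI : IsNoetherianRing S := inferInstance
    haveI : Algebra.FiniteType S R := Algebra.FiniteType.of_restrictScalars_finiteType k S R
    haveI : Algebra.FinitePresentation S R := Algebra.FinitePresentation.of_finiteType.1 inferInstance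
    have hsub := (Algebra.basicOpen_subset_etaleLocus_iff_etale (R := S) (A := R) (f := algebraMap R₀ R G)).2 hetRG
    exact hsub (show (⟨Q, inferInstance⟩ : PrimeSpectrum R) ∈ PrimeSpectrum.basicOpen (algebraMap R₀ R G) from
      fun h => hQ (by rw [map_mul]; exact Q.mul_mem_right _ h))
  · intro z hz hzc
    show IsClosed (Set.range (PrimeSpectrum.comap (GLin.orbitHom k A (z.comp ι)).toRingHom))
    have hr : (GLin.orbitHom k A z).toRingHom.range = (GLin.orbitHom k A (z.comp ι)).toRingHom.range := by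
      refine le_antisymm ?_ ?_
      · rintro _ ⟨r, rfl⟩
        obtain ⟨N, w, hw⟩ := hsatG (algebraMap S₀ R₀ g) r
        have hox : ∀ b, GLin.orbitHom k A z (algebraMap R₀ R b) = algebraMap k A (z (algebraMap R₀ R b)) := fun b => by
          rw [GLin.orbitHom, AlgHom.comp_apply, AlgHom.comp_apply, GLin.coactAlgHom_apply,
            show HopfRep.Comod.coact (k := k) (A := A) (algebraMap R₀ R b) = algebraMap R₀ R b ⊗ₜ[k] (1 : A) from hfR b]
          simp [Algebra.algebraMap_eq_smul_one]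
        have hwr : GLin.orbitHom k A z (Ψ w) ∈ (GLin.orbitHom k A (z.comp ι)).toRingHom.range := by
          clear hw
          induction w using TensorProduct.induction_on with
          | zero => rw [map_zero, map_zero]; exact zero_mem _
          | add p q hp hq => rw [map_add, map_add]; exact add_mem hp hq
          | tmul s b =>
            refine ⟨z (algebraMap R₀ R b) • s, ?_⟩
            rw [hΨ, map_mul, hox, orbitHom_algebraMap' hequiv]
            exact (map_smul (GLin.orbitHom k A (z.comp ι)) _ _).trans (by rw [Algebra.smul_def, mul_comm])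
        rw [hw, map_mul, map_pow, hox] at hwr
        obtain ⟨s, hs⟩ := hwr
        refine ⟨((z (algebraMap R₀ R (G * algebraMap S₀ R₀ g))) ^ N)⁻¹ • s, ?_⟩
        show GLin.orbitHom k A (z.comp ι) _ = _
        rw [map_smul, show GLin.orbitHom k A (z.comp ι) s = _ from hs, ← map_pow (algebraMap k A), ← Algebra.smul_def, smul_smul,
          inv_mul_cancel₀ (pow_ne_zero _ hz), one_smul]
        rfl
      · rintro _ ⟨s, rfl⟩
        exact ⟨algebraMap S R s, orbitHom_algebraMap' hequiv z s⟩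
    have hiff : ∀ {C : Type u} [CommRing C] (f : C →+* A), IsClosed (Set.range (PrimeSpectrum.comap f)) ↔
        Function.Surjective (PrimeSpectrum.comap f.range.subtype) := fun {C} _ f => isClosed_range_comap_iff f
    have hzc' : IsClosed (Set.range (PrimeSpectrum.comap (GLin.orbitHom k A z).toRingHom)) := hzc
    rw [hiff] at hzc' ⊢
    rwa [← hr]
  · intro q' _ hq'
    have hsub := (Algebra.basicOpen_subset_etaleLocus_iff_etale (R := S₀) (A := R₀) (f := G)).2 hetG
    exact hsub (show (⟨q', inferInstance⟩ : PrimeSpectrum R₀) ∈ PrimeSpectrum.basicOpen G from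
      fun h => hq' (q'.mul_mem_right _ h))
  · intro z hz
    obtain ⟨N, hN⟩ := hker z hz
    refine ⟨N, ?_⟩
    rw [show (1 : S) ⊗ₜ[S₀] (G * algebraMap S₀ R₀ g) = (1 : S) ⊗ₜ[S₀] G * (1 : S) ⊗ₜ[S₀] algebraMap S₀ R₀ g by
      rw [Algebra.TensorProduct.tmul_mul_tmul, one_mul], mul_pow, mul_right_comm, hN, zero_mul]

end Groth.L08.Luna
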