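import Groth.Agent.L08.Luna.OrbitEq
import Groth.Agent.L08.InvFinite
import Mathlib.RingTheory.TensorProduct.Maps
import Mathlib.RingTheory.Noetherian.Basic

/-!
# Invariants in stable ideals, invariant coefficients
-/

set_option autoImplicit false
set_option linter.style.haveILetI false
set_option linter.unusedSectionVars false

universe u

open TensorProduct

noncomputable section

namespace Groth.L08.Luna

variable {k : Type u} [Field k] [IsAlgClosed k] [CharZero k] {A : Type u} [CommRing A] [HopfAlgebra k A]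
  [Algebra.FiniteType k A] {R : Type u} [CommRing R] [Algebra k R] [HopfRep.Comod k A R] [GLin.IsCoactAlg k A R]

/-- A stable space of functions whose image on a closed orbit is an ideal and is nonzero at the point contains an
invariant function which is one at the point. -/
theorem exists_fixed_mem [Algebra.FiniteType k R] {α : A →ₗ[k] k} (hα : IsIntegral α) {x : R →ₐ[k] k}
    (hx : GLin.IsClosedOrbit k A x) (I : Submodule k R) (hI : ∀ g : A →ₐ[k] k, ∀ v ∈ I, σ R g v ∈ I)
    (hmul : ∀ r : R, ∀ v ∈ I, ∃ w ∈ I, r * v - w ∈ RingHom.ker (GLin.orbitHom k A x))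
    {v : R} (hv : v ∈ I) (hxv : x v ≠ 0) : ∃ c ∈ I, c ∈ HopfRep.fixedPts k A R ∧ x c = 1 := by
  let K := RingHom.ker (GLin.orbitHom k A x)
  let J : Ideal R :=
    { carrier := {r | ∃ w ∈ I, r - w ∈ K}
      zero_mem' := ⟨0, I.zero_mem, by simp⟩
      add_mem' := by
        rintro a b ⟨w, hw, ha⟩ ⟨w', hw', hb⟩
        exact ⟨w + w', I.add_mem hw hw', by rw [add_sub_add_comm]; exact K.add_mem ha hb⟩
      smul_mem' := by
        rintro c a ⟨w, hw, ha⟩
        obtain ⟨w', hw', h'⟩ := hmul c w hw
        refine ⟨w', hw', ?_⟩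
        rw [smul_eq_mul, show c * a - w' = c * (a - w) + (c * w - w') by ring]
        exact K.add_mem (K.mul_mem_left _ ha) h' }
  have hJ : J = ⊤ := by
    by_contra hne
    obtain ⟨w, hw⟩ := GITSep.exists_point (k := k) R J hne
    obtain ⟨g, rfl⟩ := exists_actPt_eq hx (w := w) fun r hr =>
      RingHom.mem_ker.2 (hw r ⟨0, I.zero_mem, by rw [sub_zero]; exact hr⟩)
    have h0 := hw (σ R ((WithConv.toConv g)⁻¹).ofConv v) ⟨_, hI _ v hv, by rw [sub_self]; exact zero_mem _⟩
    rw [actPt_apply, show g = (WithConv.toConv g).ofConv from rfl, σ_comp, mul_inv_cancel, σ_one] at h0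
    exact hxv h0
  obtain ⟨i, hi, hi1⟩ := (hJ ▸ Submodule.mem_top : (1 : R) ∈ J)
  have hK : rey R α (1 - i) ∈ K :=
    rey_mem_of_forall_point (K.restrictScalars k) _ (fun g => σ_mem_ker_orbitHom hi1 g) α
  refine ⟨rey R α i, rey_mem_of_forall_point I i (fun g => hI g i hi) α, hα.rey_mem i, ?_⟩
  have h1 : (1 : R) ∈ HopfRep.fixedPts k A R := by
    show HopfRep.Comod.coact (k := k) (A := A) (1 : R) = (1 : R) ⊗ₜ[k] (1 : A)
    rw [GLin.IsCoactAlg.coact_one]
    rfl
  rw [map_sub, hα.rey_eq h1, RingHom.mem_ker] at hK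
  have h2 := congrArg (Coalgebra.counit (R := k)) hK
  rw [ClosedOrbit.counit_orbitHom, map_zero, map_sub, map_one, sub_eq_zero] at h2
  exact h2.symm

/-- Invariants of a reductive action are of finite type. -/
theorem finiteType_of_range_eq_invariants [Algebra.FiniteType k R] (hG : HopfRep.IsLinearlyReductive k A)
    (R₀ : Type u) [CommRing R₀] [Algebra k R₀] [Algebra R₀ R] [IsScalarTower k R₀ R]
    (hi : Function.Injective (algebraMap R₀ R)) (h : (IsScalarTower.toAlgHom k R₀ R).range = GLin.invariants k A R) :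
    Algebra.FiniteType k R₀ := by
  obtain ⟨t, ht, hts⟩ := exists_finset_invariants (R := R) hG
  have : (IsScalarTower.toAlgHom k R₀ R).range = Algebra.adjoin k (t : Set R) := by
    rw [h]
    exact le_antisymm (fun s hs => hts s hs) (Algebra.adjoin_le fun s hs => ht s hs)
  haveI : Algebra.FiniteType k (IsScalarTower.toAlgHom k R₀ R).range :=
    this ▸ (Subalgebra.fg_iff_finiteType _).1 ⟨t, rfl⟩
  exact Algebra.FiniteType.equiv inferInstance (AlgEquiv.ofInjective (IsScalarTower.toAlgHom k R₀ R) hi).symm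

section Tensor

variable {S₀ : Type u} [CommRing S₀] [Algebra k S₀] [Algebra S₀ R] [IsScalarTower k S₀ R]
  (hfix : ∀ c : S₀, algebraMap S₀ R c ∈ HopfRep.fixedPts k A R)
  (E : Type u) [CommRing E] [Algebra S₀ E]

/-- The action of functionals is linear over invariants. -/
def fActLin (φ : A →ₗ[k] k) : R →ₗ[S₀] R where
  toFun := fAct R φ
  map_add' := map_add _
  map_smul' c r := by
    have hc : HopfRep.Comod.coact (k := k) (A := A) (algebraMap S₀ R c) = algebraMap S₀ R c ⊗ₜ[k] (1 : A) := hfix c
    rw [RingHom.id_apply, Algebra.smul_def, Algebra.smul_def, fAct_apply, fAct_apply, GLin.IsCoactAlg.coact_mul, hc]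
    induction HopfRep.Comod.coact (k := k) (A := A) r using TensorProduct.induction_on with
    | zero => simp
    | add p q hp hq => simp only [mul_add, map_add, hp, hq]
    | tmul p q => simp

/-- The action of functionals on the base change. -/
def fActT (φ : A →ₗ[k] k) : R ⊗[S₀] E →ₗ[S₀] R ⊗[S₀] E := (fActLin hfix φ).rTensor E

theorem fActT_tmul (φ : A →ₗ[k] k) (r : R) (e : E) : fActT hfix E φ (r ⊗ₜ[S₀] e) = fAct R φ r ⊗ₜ[S₀] e := rfl

/-- The action of functionals on the base change is linear over the new ring. -/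
theorem fActT_mul_one_tmul (φ : A →ₗ[k] k) (z : R ⊗[S₀] E) (e : E) :
    fActT hfix E φ (z * (1 ⊗ₜ[S₀] e)) = fActT hfix E φ z * (1 ⊗ₜ[S₀] e) := by
  induction z using TensorProduct.induction_on with
  | zero => simp
  | add p q hp hq => simp only [add_mul, map_add, hp, hq]
  | tmul p q => simp [fActT_tmul]

theorem fActT_point (g : A →ₐ[k] k) (z : R ⊗[S₀] E) :
    fActT hfix E g.toLinearMap z = Algebra.TensorProduct.map
      (⟨(σ R g).toRingHom, fun c => σ_fixed (hfix c) g⟩ : R →ₐ[S₀] R) (AlgHom.id S₀ E) z := by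
  induction z using TensorProduct.induction_on with
  | zero => simp
  | add p q hp hq => simp only [map_add, hp, hq]
  | tmul p q => rw [fActT_tmul, Algebra.TensorProduct.map_tmul, ← σ_apply]; rfl

/-- An additive subgroup containing all translates of an element contains its images under all functionals. -/
theorem fActT_mem_of_forall_point (W : Submodule k (R ⊗[S₀] E)) (z : R ⊗[S₀] E)
    (h : ∀ g : A →ₐ[k] k, fActT hfix E g.toLinearMap z ∈ W) (φ : A →ₗ[k] k) : fActT hfix E φ z ∈ W := by
  by_contra hne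
  obtain ⟨lam, hlam, hW⟩ := Submodule.exists_dual_map_eq_bot_of_notMem hne inferInstance
  have key : ∀ z : R ⊗[S₀] E, ∃ a : A, ∀ ψ : A →ₗ[k] k, lam (fActT hfix E ψ z) = ψ a := by
    intro z
    induction z using TensorProduct.induction_on with
    | zero => exact ⟨0, fun ψ => by simp⟩
    | add p q hp hq =>
      obtain ⟨a, ha⟩ := hp; obtain ⟨b, hb⟩ := hq
      exact ⟨a + b, fun ψ => by rw [map_add, map_add, map_add, ha, hb]⟩
    | tmul p q =>
      let l : R →ₗ[k] k :=
        { toFun := fun r => lam (r ⊗ₜ[S₀] q)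
          map_add' := fun a b => by rw [add_tmul, map_add]
          map_smul' := fun c a => by rw [← smul_tmul', map_smul]; rfl }
      exact ⟨cf (A := A) l p, fun ψ => by rw [fActT_tmul, apply_cf]; rfl⟩
  obtain ⟨a, ha⟩ := key z
  have hmap : ∀ w ∈ W, lam w = 0 := fun w hw => by
    have : lam w ∈ W.map lam := ⟨w, hw, rfl⟩
    rwa [hW, Submodule.mem_bot] at this
  have h0 : a = 0 := CartierRed.eq_zero_of_forall_point (k := k) fun g => by
    exact (ha g.toLinearMap).symm.trans (hmap _ (h g))
  exact hlam (by rw [ha, h0, map_zero])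

end Tensor

end Groth.L08.Luna
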