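import Groth.Agent.L08.Luna.Basic
import Groth.Agent.L08.Luna.EtaleUnram
import Groth.Agent.L08.InvFinite
import Mathlib.FieldTheory.Minpoly.IsIntegrallyClosed
import Mathlib.RingTheory.Unramified.LocalRing
import Mathlib.RingTheory.Nakayama

/-!
# Luna's lemma: étale morphisms of quotients
-/

set_option autoImplicit false
set_option linter.style.haveILetI false
set_option linter.unusedSectionVars false
set_option maxSynthPendingDepth 3

universe u

open TensorProduct Polynomial

noncomputable section

namespace Groth.L08.Luna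

variable {k : Type u} [Field k] [IsAlgClosed k] [CharZero k]
  {A : Type u} [CommRing A] [IsDomain A] [HopfAlgebra k A] [Algebra.FiniteType k A]
  {S : Type u} [CommRing S] [IsDomain S] [IsIntegrallyClosed S] [Algebra k S] [Algebra.FiniteType k S]
  [HopfRep.Comod k A S] [GLin.IsCoactAlg k A S]
  {R : Type u} [CommRing R] [IsDomain R] [Algebra k R] [Algebra.FiniteType k R]
  [HopfRep.Comod k A R] [GLin.IsCoactAlg k A R]
  [Algebra S R] [IsScalarTower k S R] [Module.Finite S R]

variable (hequiv : ∀ s : S, HopfRep.Comod.coact (k := k) (A := A) (algebraMap S R s) =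
  Algebra.TensorProduct.map (IsScalarTower.toAlgHom k S R) (AlgHom.id k A) (HopfRep.Comod.coact (k := k) (A := A) s))

include hequiv

theorem isComodHom_algebraMap : Hoch.IsComodHom A (IsScalarTower.toAlgHom k S R).toLinearMap := by
  refine LinearMap.ext fun s => ?_
  show HopfRep.Comod.coact (k := k) (A := A) (algebraMap S R s) = _
  rw [hequiv]
  show _ = LinearMap.rTensor A _ (HopfRep.Comod.coact (k := k) (A := A) s)
  induction HopfRep.Comod.coact (k := k) (A := A) s using TensorProduct.induction_on with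
  | zero => simp
  | add p q hp hq => simp only [map_add, hp, hq]
  | tmul p q => simp

theorem σ_algebraMap (g : A →ₐ[k] k) (s : S) : σ R g (algebraMap S R s) = algebraMap S R (σ S g s) := by
  rw [σ_apply, σ_apply]
  exact (fAct_comm_of_isComodHom (isComodHom_algebraMap hequiv) g.toLinearMap s).symm

theorem orbitHom_algebraMap (z : R →ₐ[k] k) (s : S) :
    GLin.orbitHom k A z (algebraMap S R s) = GLin.orbitHom k A (z.comp (IsScalarTower.toAlgHom k S R)) s := by
  refine sub_eq_zero.1 (CartierRed.eq_zero_of_forall_point (k := k) fun g => ?_)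
  rw [map_sub, apply_orbitHom, apply_orbitHom, σ_algebraMap hequiv, sub_eq_zero]
  rfl

/-- The image of a closed orbit is closed. -/
theorem isClosedOrbit_comp {x : R →ₐ[k] k} (hx : GLin.IsClosedOrbit k A x) :
    GLin.IsClosedOrbit k A (x.comp (IsScalarTower.toAlgHom k S R)) := by
  have hclosed := PrimeSpectrum.isClosedMap_comap_of_isIntegral (algebraMap S R)
    (Algebra.IsIntegral.isIntegral (R := S) (A := R)) _ hx
  rw [← Set.range_comp] at hclosed
  have e : (PrimeSpectrum.comap (algebraMap S R)) ∘ (PrimeSpectrum.comap (GLin.orbitHom k A x).toRingHom) =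
      PrimeSpectrum.comap (GLin.orbitHom k A (x.comp (IsScalarTower.toAlgHom k S R))).toRingHom := by
    funext P
    refine PrimeSpectrum.ext (Ideal.ext fun s => ?_)
    show GLin.orbitHom k A x (algebraMap S R s) ∈ P.asIdeal ↔ _
    rw [orbitHom_algebraMap hequiv]
    rfl
  rw [e] at hclosed
  exact hclosed

/-- Points over the image of a closed orbit whose orbits come close to it lie on it. -/
theorem eq_of_over {x z : R →ₐ[k] k} (hx : GLin.IsClosedOrbit k A x) (h : GLin.InOrbitClosure k A z x)
    (hinj : ∀ g : A →ₐ[k] k, GLin.actPt k g (x.comp (IsScalarTower.toAlgHom k S R)) = x.comp (IsScalarTower.toAlgHom k S R) →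
      GLin.actPt k g x = x)
    (hy : z.comp (IsScalarTower.toAlgHom k S R) = x.comp (IsScalarTower.toAlgHom k S R)) : z = x := by
  have hle := ker_orbitHom_le h
  haveI : (RingHom.ker (GLin.orbitHom k A z)).IsPrime := RingHom.ker_isPrime _
  haveI : (RingHom.ker (GLin.orbitHom k A x)).IsPrime := RingHom.ker_isPrime _
  have heq : RingHom.ker (GLin.orbitHom k A z) = RingHom.ker (GLin.orbitHom k A x) := by
    refine hle.antisymm (le_of_eq (Eq.symm ?_))
    by_contra hne
    have hlt : RingHom.ker (GLin.orbitHom k A z) < RingHom.ker (GLin.orbitHom k A x) :=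
      lt_of_le_of_ne hle hne
    refine (Ideal.IsIntegral.comap_lt_comap (R := S) hlt).ne (Ideal.ext fun s => ?_)
    simp only [Ideal.mem_comap, RingHom.mem_ker]
    rw [orbitHom_algebraMap hequiv, orbitHom_algebraMap hequiv, hy]
  have hzc : GLin.InOrbitClosure k A x z := by
    intro r hr
    rw [← heq] at hr
    have := congrArg (Coalgebra.counit (R := k)) (RingHom.mem_ker.1 hr)
    rw [ClosedOrbit.counit_orbitHom, map_zero] at this
    exact RingHom.mem_ker.2 this
  obtain ⟨g, hg⟩ := exists_actPt_eq hx hzc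
  rw [← hg]
  refine hinj g ?_
  refine AlgHom.ext fun s => ?_
  rw [actPt_apply]
  show x (algebraMap S R (σ S g s)) = x (algebraMap S R s)
  rw [← σ_algebraMap hequiv, ← actPt_apply, hg]
  exact DFunLike.congr_fun hy s

/-- **Luna's lemma**: the induced morphism of quotients is étale. -/
theorem isEtaleAt_invariants (hG : HopfRep.IsLinearlyReductive k A)
    (S₀ : Type u) [CommRing S₀] [Algebra k S₀] [Algebra S₀ S] [IsScalarTower k S₀ S]
    (hS₀i : Function.Injective (algebraMap S₀ S)) (hS₀ : (IsScalarTower.toAlgHom k S₀ S).range = GLin.invariants k A S)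
    (R₀ : Type u) [CommRing R₀] [Algebra k R₀] [Algebra R₀ R] [IsScalarTower k R₀ R]
    (hR₀i : Function.Injective (algebraMap R₀ R)) (hR₀ : (IsScalarTower.toAlgHom k R₀ R).range = GLin.invariants k A R)
    [Algebra S₀ R₀] [Algebra S₀ R] [IsScalarTower S₀ S R] [IsScalarTower S₀ R₀ R]
    (x : R →ₐ[k] k) (hx : GLin.IsClosedOrbit k A x) (m : Ideal R) [m.IsMaximal] (hm : m = RingHom.ker x.toRingHom)
    (het : Algebra.IsEtaleAt S m)
    (hinj : ∀ g : A →ₐ[k] k, GLin.actPt k g (x.comp (IsScalarTower.toAlgHom k S R)) = x.comp (IsScalarTower.toAlgHom k S R) →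
      GLin.actPt k g x = x) :
    Algebra.IsEtaleAt S₀ (Ideal.comap (algebraMap R₀ R) m) := by
  classical
  let y := x.comp (IsScalarTower.toAlgHom k S R)
  have hy : GLin.IsClosedOrbit k A y := isClosedOrbit_comp hequiv hx
  obtain ⟨α, hα⟩ := exists_isIntegral hG
  -- fixed points
  have hfS : ∀ c : S₀, algebraMap S₀ S c ∈ HopfRep.fixedPts k A S := fun c => by
    have h : algebraMap S₀ S c ∈ (IsScalarTower.toAlgHom k S₀ S).range := ⟨c, rfl⟩
    rw [hS₀] at h
    exact h
  have hfR : ∀ c : R₀, algebraMap R₀ R c ∈ HopfRep.fixedPts k A R := fun c => by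
    have h : algebraMap R₀ R c ∈ (IsScalarTower.toAlgHom k R₀ R).range := ⟨c, rfl⟩
    rw [hR₀] at h
    exact h
  have hgS : ∀ {s : S}, s ∈ HopfRep.fixedPts k A S → ∃ c : S₀, algebraMap S₀ S c = s := fun {s} hs => by
    have h : s ∈ (IsScalarTower.toAlgHom k S₀ S).range := hS₀.symm ▸ hs
    exact h
  have hgR : ∀ {r : R}, r ∈ HopfRep.fixedPts k A R → ∃ c : R₀, algebraMap R₀ R c = r := fun {r} hr => by
    have h : r ∈ (IsScalarTower.toAlgHom k R₀ R).range := hR₀.symm ▸ hr
    exact h
  have hS₀R : ∀ c : S₀, algebraMap S₀ R c ∈ HopfRep.fixedPts k A R := fun c => by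
    rw [IsScalarTower.algebraMap_apply S₀ R₀ R]
    exact hfR _
  have hkR₀ : ∀ c : k, algebraMap S₀ R₀ (algebraMap k S₀ c) = algebraMap k R₀ c := fun c => hR₀i (by
    rw [← IsScalarTower.algebraMap_apply S₀ R₀ R, IsScalarTower.algebraMap_apply S₀ S R,
      ← IsScalarTower.algebraMap_apply k S₀ S, ← IsScalarTower.algebraMap_apply k S R,
      ← IsScalarTower.algebraMap_apply k R₀ R])
  -- finite type
  have hftS : Algebra.FiniteType k S₀ := by
    obtain ⟨t, ht, hts⟩ := exists_finset_invariants (R := S) hG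
    have : (IsScalarTower.toAlgHom k S₀ S).range = Algebra.adjoin k (t : Set S) := by
      rw [hS₀]
      exact le_antisymm (fun s hs => hts s hs) (Algebra.adjoin_le fun s hs => ht s hs)
    haveI : Algebra.FiniteType k (IsScalarTower.toAlgHom k S₀ S).range :=
      this ▸ (Subalgebra.fg_iff_finiteType _).1 ⟨t, rfl⟩
    exact Algebra.FiniteType.equiv inferInstance (AlgEquiv.ofInjective (IsScalarTower.toAlgHom k S₀ S) hS₀i).symm
  have hftR : Algebra.FiniteType k R₀ := by
    obtain ⟨t, ht, hts⟩ := exists_finset_invariants (R := R) hG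
    have : (IsScalarTower.toAlgHom k R₀ R).range = Algebra.adjoin k (t : Set R) := by
      rw [hR₀]
      exact le_antisymm (fun s hs => hts s hs) (Algebra.adjoin_le fun s hs => ht s hs)
    haveI : Algebra.FiniteType k (IsScalarTower.toAlgHom k R₀ R).range :=
      this ▸ (Subalgebra.fg_iff_finiteType _).1 ⟨t, rfl⟩
    exact Algebra.FiniteType.equiv inferInstance (AlgEquiv.ofInjective (IsScalarTower.toAlgHom k R₀ R) hR₀i).symm
  haveI := hftS; haveI := hftR
  haveI : IsNoetherianRing S₀ := Algebra.FiniteType.isNoetherianRing k S₀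
  haveI : IsScalarTower k S₀ R₀ := IsScalarTower.of_algebraMap_eq fun c => (hkR₀ c).symm
  haveI : Algebra.FiniteType S₀ R₀ := Algebra.FiniteType.of_restrictScalars_finiteType k S₀ R₀
  haveI : IsDomain S₀ := hS₀i.isDomain
  haveI : IsDomain R₀ := hR₀i.isDomain
  -- the upstairs map is injective
  have hSR : Function.Injective (algebraMap S R) := by
    haveI : Module.Flat S (Localization.AtPrime m) := by
      haveI : Algebra.FormallyEtale S (Localization.AtPrime m) := het
      haveI : IsNoetherianRing S := Algebra.FiniteType.isNoetherianRing k S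
      haveI : Algebra.FinitePresentation S R := Algebra.FinitePresentation.of_finiteType.1 inferInstance
      obtain ⟨f, hf, hEt⟩ := Algebra.exists_etale_of_isEtaleAt (R := S) m
      let Rf := Localization.Away f
      let L := Localization.AtPrime m
      letI : Algebra Rf L := (IsLocalization.Away.lift f (g := algebraMap R L)
        (IsLocalization.map_units L (⟨f, hf⟩ : m.primeCompl))).toAlgebra
      haveI : IsScalarTower R Rf L := IsScalarTower.of_algebraMap_eq fun r =>
        (IsLocalization.Away.lift_eq f _ r).symm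
      haveI : IsScalarTower S Rf L := .to₁₃₄ S R Rf L
      haveI : IsLocalization (Algebra.algebraMapSubmonoid Rf m.primeCompl) L :=
        .isLocalization_of_submonoid_le Rf L (Submonoid.powers f) m.primeCompl
          (by rintro _ ⟨i, rfl⟩; exact fun h => hf (Ideal.IsPrime.mem_of_pow_mem inferInstance i h))
      haveI : Module.Flat Rf L := IsLocalization.flat L (Algebra.algebraMapSubmonoid Rf m.primeCompl)
      exact Module.Flat.trans S Rf L
    intro a b hab
    by_contra hne
    have h1 : Function.Injective (fun t : Localization.AtPrime m => (a - b) • t) :=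
      (Module.Flat.isTorsionFree : Module.IsTorsionFree S (Localization.AtPrime m)).isSMulRegular
        (isRegular_of_ne_zero (sub_ne_zero.2 hne))
    refine one_ne_zero (α := Localization.AtPrime m) (h1 ?_)
    show (a - b) • (1 : Localization.AtPrime m) = (a - b) • (0 : Localization.AtPrime m)
    rw [smul_zero, Algebra.smul_def, mul_one, IsScalarTower.algebraMap_apply S R (Localization.AtPrime m), map_sub,
      hab, sub_self, map_zero]
  have hS₀R₀ : Function.Injective (algebraMap S₀ R₀) := fun a b h => hS₀i (hSR (by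
    rw [← IsScalarTower.algebraMap_apply S₀ S R, ← IsScalarTower.algebraMap_apply S₀ S R,
      IsScalarTower.algebraMap_apply S₀ R₀ R, IsScalarTower.algebraMap_apply S₀ R₀ R, h]))
  -- integrality
  haveI : Algebra.IsIntegral S₀ R₀ := ⟨fun r => by
    have hint : _root_.IsIntegral S (algebraMap R₀ R r) := Algebra.IsIntegral.isIntegral _
    haveI : FaithfulSMul S R := (faithfulSMul_iff_algebraMap_injective S R).2 hSR
    haveI : Module.IsTorsionFree S R := Module.isTorsionFree_iff_faithfulSMul.2 inferInstance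
    let P := minpoly S (algebraMap R₀ R r)
    have hP : ∀ g : A →ₐ[k] k, P.map (σ S g).toRingHom = P := fun g => by
      refine minpoly.IsIntegrallyClosed.unique_of_degree_le_degree_minpoly ((minpoly.monic hint).map _) ?_
        degree_map_le
      have h := congrArg (σ R g) (minpoly.aeval S (algebraMap R₀ R r))
      rw [map_zero, aeval_def, ← AlgHom.coe_toRingHom, hom_eval₂] at h
      rw [aeval_def, eval₂_map, ← h]
      congr 1
      · exact RingHom.ext fun s => (σ_algebraMap hequiv g s).symm
      · exact (σ_fixed (hfR r) g).symm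
    have hlift : P ∈ Polynomial.lifts (algebraMap S₀ S) := (lifts_iff_coeff_lifts P).2 fun i =>
      hgS (mem_fixedPts_of_forall_point fun g => by
        conv_rhs => rw [← hP g]
        rw [coeff_map]
        rfl)
    obtain ⟨Q, hQ, -, hQm⟩ := lifts_and_degree_eq_and_monic hlift (minpoly.monic hint)
    refine ⟨Q, hQm, hR₀i ?_⟩
    rw [hom_eval₂, ← IsScalarTower.algebraMap_eq S₀ R₀ R, map_zero, IsScalarTower.algebraMap_eq S₀ S R, ← eval₂_map, hQ]
    exact minpoly.aeval S (algebraMap R₀ R r)⟩
  haveI : Module.Finite S₀ R₀ := Algebra.IsIntegral.finite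
  -- normality
  haveI : IsIntegrallyClosed S₀ := (isIntegrallyClosed_iff (FractionRing S₀)).2 fun {w} hw => by
    let K := FractionRing S
    let ι : FractionRing S₀ →+* K := IsFractionRing.lift (A := S₀) (g := (algebraMap S K).comp (algebraMap S₀ S))
      ((IsFractionRing.injective S K).comp hS₀i)
    have hι : ∀ c, ι (algebraMap S₀ _ c) = algebraMap S K (algebraMap S₀ S c) := fun c =>
      IsFractionRing.lift_algebraMap _ c
    obtain ⟨p, hp, hp0⟩ := hw
    have hwS : _root_.IsIntegral S (ι w) := ⟨p.map (algebraMap S₀ S), hp.map _, by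
      have := congrArg ι hp0
      rw [hom_eval₂, map_zero] at this
      rw [eval₂_map, ← this]
      congr 1
      exact RingHom.ext fun c => (hι c).symm⟩
    obtain ⟨s, hs⟩ := IsIntegrallyClosed.algebraMap_eq_of_integral hwS
    obtain ⟨a, b, hb, rfl⟩ := IsFractionRing.div_surjective S₀ w
    have hb0 : algebraMap S₀ S b ≠ 0 := fun h =>
      nonZeroDivisors.ne_zero hb (hS₀i (h.trans (map_zero _).symm))
    have hsb : s * algebraMap S₀ S b = algebraMap S₀ S a := IsFractionRing.injective S K (by
      rw [map_mul, hs, map_div₀, hι, hι, div_mul_cancel₀]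
      exact fun h => hb0 (IsFractionRing.injective S K (h.trans (map_zero _).symm)))
    obtain ⟨c, hc⟩ := hgS (mem_fixedPts_of_forall_point (v := s) fun g => by
      have := congrArg (σ S g) hsb
      rw [map_mul, σ_fixed (hfS b), σ_fixed (hfS a), ← hsb] at this
      exact mul_right_cancel₀ hb0 this)
    refine ⟨c, ?_⟩
    rw [eq_div_iff (fun h => nonZeroDivisors.ne_zero hb
      (IsFractionRing.injective S₀ (FractionRing S₀) (h.trans (map_zero _).symm))), ← map_mul]
    congr 1
    exact hS₀i (by rw [map_mul, hc, hsb])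
  -- the points
  let xq : R₀ →ₐ[k] k := x.comp (IsScalarTower.toAlgHom k R₀ R)
  let q : Ideal R₀ := Ideal.comap (algebraMap R₀ R) m
  have hqk : q = RingHom.ker xq := by ext a; simp [q, xq, hm, RingHom.mem_ker]
  let n : Ideal S₀ := q.under S₀
  have hn : ∀ c : S₀, c ∈ n ↔ x (algebraMap S₀ R c) = 0 := fun c => by
    show algebraMap S₀ R₀ c ∈ q ↔ _
    rw [hqk, RingHom.mem_ker]
    show x (algebraMap R₀ R (algebraMap S₀ R₀ c)) = 0 ↔ _
    rw [← IsScalarTower.algebraMap_apply]
  haveI hqmax : q.IsMaximal := by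
    rw [hqk]
    exact RingHom.ker_isMaximal_of_surjective xq fun c => ⟨algebraMap k R₀ c, xq.commutes c⟩
  let nR : Ideal R := n.map (algebraMap S₀ R)
  let J : Ideal R :=
    { carrier := {r | ∃ u : R₀, u ∉ q ∧ algebraMap R₀ R u * r ∈ nR}
      zero_mem' := ⟨1, fun h => hqmax.ne_top ((Ideal.eq_top_iff_one _).2 h), by simp⟩
      add_mem' := by
        rintro a b ⟨u, hu, hua⟩ ⟨v, hv, hvb⟩
        refine ⟨u * v, fun h => (hqmax.isPrime.mem_or_mem h).elim hu hv, ?_⟩
        rw [map_mul, mul_add]
        refine nR.add_mem ?_ ?_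
        · rw [mul_right_comm]; exact nR.mul_mem_right _ hua
        · rw [mul_assoc]; exact nR.mul_mem_left _ hvb
      smul_mem' := by
        rintro c a ⟨u, hu, hua⟩
        exact ⟨u, hu, by rw [smul_eq_mul, mul_left_comm]; exact nR.mul_mem_left _ hua⟩ }
  have hnJ : nR ≤ J := fun r hr =>
    ⟨1, fun h => hqmax.ne_top ((Ideal.eq_top_iff_one _).2 h), by rw [map_one, one_mul]; exact hr⟩
  have hnm : nR ≤ m := Ideal.map_le_iff_le_comap.2 fun c hc => by
    rw [Ideal.mem_comap, hm, RingHom.mem_ker]
    exact (hn c).1 hc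
  have hJm : J ≤ m := by
    rintro r ⟨u, hu, hur⟩
    exact ((inferInstance : m.IsPrime).mem_or_mem (hnm hur)).resolve_left hu
  have hσn : ∀ g : A →ₐ[k] k, ∀ r ∈ nR, σ R g r ∈ nR := fun g r hr => by
    suffices nR ≤ nR.comap (σ R g) from this hr
    exact Ideal.map_le_iff_le_comap.2 fun c hc => by
      rw [Ideal.mem_comap, Ideal.mem_comap, σ_fixed (hS₀R c)]
      exact Ideal.mem_map_of_mem _ hc
  have hσJ : ∀ g : A →ₐ[k] k, ∀ r ∈ J, σ R g r ∈ J := by
    rintro g r ⟨u, hu, hur⟩
    refine ⟨u, hu, ?_⟩
    have := hσn g _ hur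
    rwa [map_mul, σ_fixed (hfR u)] at this
  -- points of the fibre
  have hfib : ∀ z : R →ₐ[k] k, J ≤ RingHom.ker z → z.comp (IsScalarTower.toAlgHom k S R) = y → z = x := by
    intro z hz hzy
    have hq' : ∀ a ∈ q, z (algebraMap R₀ R a) = 0 := by
      intro a ha
      let Rq := Localization.AtPrime q
      have hrad : algebraMap R₀ Rq a ∈ ((n.map (algebraMap S₀ R₀)).map (algebraMap R₀ Rq)).radical := by
        rw [Ideal.radical_eq_sInf, Submodule.mem_sInf]
        rintro (P : Ideal Rq) ⟨hP, hPp⟩
        have hle : Ideal.comap (algebraMap R₀ Rq) P ≤ q := fun b hb => by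
          by_contra hbq
          exact hPp.ne_top (Ideal.eq_top_of_isUnit_mem _ hb (IsLocalization.map_units Rq (⟨b, hbq⟩ : q.primeCompl)))
        have heq : Ideal.comap (algebraMap R₀ Rq) P = q := by
          by_contra hne
          haveI : (Ideal.comap (algebraMap R₀ Rq) P).IsPrime := Ideal.IsPrime.comap _
          refine (Ideal.IsIntegral.comap_lt_comap (R := S₀) (lt_of_le_of_ne hle hne)).not_ge fun c hc => ?_
          exact hP (Ideal.mem_map_of_mem _ (Ideal.mem_map_of_mem _ hc))
        exact (heq.symm.le ha : a ∈ Ideal.comap (algebraMap R₀ Rq) P)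
      obtain ⟨N, hN⟩ := hrad
      rw [← map_pow] at hN
      obtain ⟨u, hu, hua⟩ : ∃ u : R₀, u ∉ q ∧ u * a ^ N ∈ n.map (algebraMap S₀ R₀) := by
        obtain ⟨u, hu, hua⟩ := (IsLocalization.algebraMap_mem_map_algebraMap_iff q.primeCompl Rq _ _).1 hN
        exact ⟨u, hu, hua⟩
      have hJ : algebraMap R₀ R (a ^ N) ∈ J := ⟨u, hu, by
        rw [← map_mul]
        have := Ideal.mem_map_of_mem (algebraMap R₀ R) hua
        rwa [Ideal.map_map, ← IsScalarTower.algebraMap_eq] at this⟩
      have := RingHom.mem_ker.1 (hz hJ)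
      rw [map_pow, map_pow] at this
      exact pow_eq_zero_iff'.1 this |>.1
    refine eq_of_over hequiv hx (inOrbitClosure_of_closed hG hx fun f hf => ?_) hinj hzy
    obtain ⟨a, rfl⟩ := hgR hf
    have h1 := hq' (a - algebraMap k R₀ (xq a)) (by rw [hqk, RingHom.mem_ker, map_sub, AlgHom.commutes, Algebra.algebraMap_self, RingHom.id_apply, sub_self])
    rw [map_sub, map_sub, ← IsScalarTower.algebraMap_apply, AlgHom.commutes, sub_eq_zero] at h1
    exact h1.symm
  -- the fibre at `x` is reduced
  let my : Ideal S := RingHom.ker y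
  have hmy : m.comap (algebraMap S R) = my := by ext s; simp [my, y, hm, RingHom.mem_ker]
  let K : Ideal R := J ⊔ my.map (algebraMap S R)
  have hKm : K ≤ m := sup_le hJm (Ideal.map_le_iff_le_comap.2 hmy.ge)
  have hmax : ∀ M : Ideal R, M.IsMaximal → K ≤ M → M = m := by
    intro M hM hKM
    obtain ⟨z, hz⟩ := GITSep.exists_point (k := k) R M hM.ne_top
    have hMz : M = RingHom.ker z := hM.eq_of_le (RingHom.ker_isPrime z).ne_top fun r hr => hz r hr
    have hzx : z = x := by
      refine hfib z ((le_sup_left.trans hKM).trans hMz.le) (AlgHom.ext fun s => ?_)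
      have h1 : s - algebraMap k S (y s) ∈ my := by simp [my, RingHom.mem_ker]
      have h2 := hz _ (le_trans le_sup_right hKM (Ideal.mem_map_of_mem (algebraMap S R) h1))
      rw [map_sub, map_sub, ← IsScalarTower.algebraMap_apply, AlgHom.commutes, sub_eq_zero] at h2
      exact h2
    rw [hMz, hzx, hm]
    rfl
  have hmK : m ≤ K := by
    intro a ha
    haveI : my.IsPrime := RingHom.ker_isPrime _
    haveI : m.LiesOver my := ⟨hmy.symm⟩
    letI := Localization.AtPrime.algebraOfLiesOver my m
    haveI : Algebra.IsUnramifiedAt S m := by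
      haveI : Algebra.FormallyEtale S (Localization.AtPrime m) := het
      infer_instance
    have h := ((Algebra.isUnramifiedAt_iff_map_eq S my m).1 inferInstance).2
    have h1 : algebraMap R (Localization.AtPrime m) a ∈ (my.map (algebraMap S R)).map (algebraMap R (Localization.AtPrime m)) := by
      rw [Ideal.map_map, ← IsScalarTower.algebraMap_eq, h]
      exact (IsLocalization.AtPrime.to_map_mem_maximal_iff _ m _).2 ha
    obtain ⟨v, hv, hva⟩ := (IsLocalization.algebraMap_mem_map_algebraMap_iff m.primeCompl _ _ _).1 h1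
    have htop : K ⊔ Ideal.span {v} = ⊤ := by
      by_contra hne
      obtain ⟨M, hM, hle⟩ := Ideal.exists_le_maximal _ hne
      exact hv (hmax M hM (le_sup_left.trans hle) ▸ hle (Ideal.mem_sup_right (Ideal.mem_span_singleton_self v)))
    obtain ⟨c, hc, d, hd, hcd⟩ := Submodule.mem_sup.1 (htop ▸ Submodule.mem_top : (1 : R) ∈ K ⊔ Ideal.span {v})
    obtain ⟨e, rfl⟩ := Ideal.mem_span_singleton'.1 hd
    rw [← one_mul a, ← hcd, add_mul, mul_assoc]
    exact K.add_mem (K.mul_mem_right _ hc) (K.mul_mem_left _ (Ideal.mem_sup_right hva))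
  -- surjectivity modulo `J`
  let W : Submodule S R := J.restrictScalars S ⊔ LinearMap.range (Algebra.linearMap S R)
  let I : Ideal S := (⊤ : Submodule S (R ⧸ W)).annihilator
  have hI : ∀ {s : S}, s ∈ I ↔ ∀ r : R, s • r ∈ W := by
    intro s
    simp only [I, Submodule.mem_annihilator, Submodule.mem_top, forall_const]
    refine ⟨fun h r => (Submodule.Quotient.mk_eq_zero W).1 (h (Submodule.Quotient.mk r)), fun h z => ?_⟩
    obtain ⟨r, rfl⟩ := Submodule.mkQ_surjective W z
    exact (Submodule.Quotient.mk_eq_zero W).2 (h r)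
  have hσW : ∀ g : A →ₐ[k] k, ∀ w ∈ W, σ R g w ∈ W := by
    intro g w hw
    obtain ⟨j, hj, _, ⟨s, rfl⟩, rfl⟩ := Submodule.mem_sup.1 hw
    rw [map_add, Algebra.linearMap_apply, σ_algebraMap hequiv]
    exact W.add_mem (Submodule.mem_sup_left (hσJ g j hj)) (Submodule.mem_sup_right ⟨_, rfl⟩)
  have hI0 : ∃ s, s ∈ I ∧ y s ≠ 0 := by
    have hle : (⊤ : Submodule S (R ⧸ W)) ≤ my • ⊤ := by
      intro z _
      obtain ⟨r, rfl⟩ := Submodule.mkQ_surjective W z
      have h1 : r - algebraMap k R (x r) ∈ K := hmK (by simp [hm, RingHom.mem_ker])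
      obtain ⟨j, hj, w, hw, hjw⟩ := Submodule.mem_sup.1 h1
      have h2 : r = algebraMap S R (algebraMap k S (x r)) + j + w := by
        rw [← IsScalarTower.algebraMap_apply, add_assoc, hjw, add_sub_cancel]
      have h3 : W.mkQ r = W.mkQ w := by
        rw [h2, map_add, Submodule.mkQ_apply, (Submodule.Quotient.mk_eq_zero W).2
          (show algebraMap S R (algebraMap k S (x r)) + j ∈ W from
            W.add_mem (Submodule.mem_sup_right ⟨_, rfl⟩) (Submodule.mem_sup_left hj)), zero_add]
      rw [h3]
      have h4 : w ∈ (my • ⊤ : Submodule S R) := by rw [Ideal.smul_top_eq_map]; exact hw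
      have h5 := Submodule.mem_map_of_mem (f := W.mkQ) h4
      rw [Submodule.map_smul''] at h5
      exact Submodule.smul_mono le_rfl le_top h5
    obtain ⟨s, hs, hs'⟩ := Submodule.exists_sub_one_mem_and_smul_eq_zero_of_fg_of_le_smul my ⊤
      Module.Finite.fg_top hle
    refine ⟨s, Submodule.mem_annihilator.2 hs', fun h => ?_⟩
    have h1 : y (s - 1) = 0 := hs
    rw [map_sub, h, map_one, zero_sub, neg_eq_zero] at h1
    exact one_ne_zero h1
  have htop : I = ⊤ := by
    by_contra hne
    obtain ⟨y', hy'⟩ := GITSep.exists_point (k := k) S I hne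
    obtain ⟨s, hs, hsy⟩ := hI0
    have hagree : ∀ f ∈ HopfRep.fixedPts k A S, y f = y' f := by
      intro f hf
      obtain ⟨c, rfl⟩ := hgS hf
      have hc : c - algebraMap k S₀ (y (algebraMap S₀ S c)) ∈ n := by
        rw [hn, map_sub, map_sub, IsScalarTower.algebraMap_apply S₀ S R, IsScalarTower.algebraMap_apply S₀ S R,
          ← IsScalarTower.algebraMap_apply k S₀ S, ← IsScalarTower.algebraMap_apply k S R, AlgHom.commutes,
          Algebra.algebraMap_self, RingHom.id_apply]
        exact sub_self _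
      have h1 : algebraMap S₀ S (c - algebraMap k S₀ (y (algebraMap S₀ S c))) ∈ I := hI.2 fun r => by
        refine Submodule.mem_sup_left (hnJ ?_)
        rw [Algebra.smul_def, ← IsScalarTower.algebraMap_apply]
        exact nR.mul_mem_right _ (Ideal.mem_map_of_mem _ hc)
      have h2 := hy' _ h1
      rw [map_sub, map_sub, ← IsScalarTower.algebraMap_apply k S₀ S, AlgHom.commutes, sub_eq_zero] at h2
      exact h2.symm
    refine hsy (RingHom.mem_ker.1 (inOrbitClosure_of_closed hG hy hagree (mem_ker_orbitHom fun g => hy' _ (hI.2 fun r => ?_))))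
    have h2 := hσW g _ ((hI.1 hs) (σ R ((WithConv.toConv g)⁻¹).ofConv r))
    rw [Algebra.smul_def, map_mul, σ_algebraMap hequiv,
      show σ R g (σ R ((WithConv.toConv g)⁻¹).ofConv r) = r from
        ((σ_comp (R := R) (WithConv.toConv g) (WithConv.toConv g)⁻¹ r).trans (by rw [mul_inv_cancel, σ_one]))] at h2
    rwa [Algebra.smul_def]
  -- unramified
  have hqn : ∀ a ∈ q, ∃ u : R₀, u ∉ q ∧ u * a ∈ n.map (algebraMap S₀ R₀) := by
    intro a ha
    have h1 : (1 : S) • algebraMap R₀ R a ∈ W := hI.1 (htop ▸ Submodule.mem_top) _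
    rw [one_smul] at h1
    obtain ⟨j, hj, _, ⟨s, rfl⟩, hjs⟩ := Submodule.mem_sup.1 h1
    have hsa : rey R α (algebraMap S R s) = algebraMap S R (rey S α s) :=
      (rey_natural (isComodHom_algebraMap hequiv) α s).symm
    have hj' : rey R α j ∈ J := rey_mem_of_forall_point (J.restrictScalars k) j (fun g => hσJ g j hj) α
    have h2 := congrArg (rey R α) hjs
    rw [map_add, Algebra.linearMap_apply, hsa, hα.rey_eq (hfR a)] at h2
    obtain ⟨c, hc⟩ := hgS (hα.rey_mem s)
    rw [← hc, ← IsScalarTower.algebraMap_apply] at h2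
    have hcn : c ∈ n := by
      rw [hn]
      have := congrArg x h2
      rw [map_add, (show x (rey R α j) = 0 from RingHom.mem_ker.1 (hm ▸ hJm hj' : rey R α j ∈ RingHom.ker x.toRingHom)), zero_add] at this
      rw [this]
      have ha' : xq a = 0 := RingHom.mem_ker.1 (hqk ▸ ha)
      exact ha'
    obtain ⟨u, hu, hua⟩ : algebraMap R₀ R a ∈ J := h2 ▸ J.add_mem hj' (hnJ (Ideal.mem_map_of_mem _ hcn))
    refine ⟨u, hu, ?_⟩
    rw [← map_mul] at hua
    have key : ∀ w ∈ nR, ∀ r : R, ∃ b ∈ n.map (algebraMap S₀ R₀), rey R α (r * w) = algebraMap R₀ R b := by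
      intro w hw
      change w ∈ Ideal.span _ at hw
      induction hw using Submodule.span_induction with
      | mem w hw =>
        obtain ⟨i, hi, rfl⟩ := hw
        intro r
        obtain ⟨b, hb⟩ := hgR (hα.rey_mem r)
        refine ⟨b * algebraMap S₀ R₀ i, Ideal.mul_mem_left _ _ (Ideal.mem_map_of_mem _ hi), ?_⟩
        rw [rey_mul_fixed α r (hS₀R i), map_mul, hb, ← IsScalarTower.algebraMap_apply]
      | zero => intro r; exact ⟨0, zero_mem _, by simp⟩
      | add p p' _ _ hp hp' =>
        intro r
        obtain ⟨b, hb, e⟩ := hp r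
        obtain ⟨b', hb', e'⟩ := hp' r
        exact ⟨b + b', add_mem hb hb', by rw [mul_add, map_add, e, e', map_add]⟩
      | smul t p _ hp =>
        intro r
        obtain ⟨b, hb, e⟩ := hp (r * t)
        exact ⟨b, hb, by rw [smul_eq_mul, ← mul_assoc, e]⟩
    obtain ⟨b, hb, e⟩ := key _ hua 1
    rw [one_mul, hα.rey_eq (hfR _)] at e
    exact hR₀i e ▸ hb
  haveI : q.LiesOver n := ⟨rfl⟩
  letI := Localization.AtPrime.algebraOfLiesOver n q
  haveI hunr : Algebra.IsUnramifiedAt S₀ q := by
    refine (Algebra.isUnramifiedAt_iff_map_eq S₀ n q).2 ⟨⟨fun z => ?_⟩, ?_⟩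
    · obtain ⟨z', rfl⟩ := Ideal.Quotient.mk_surjective.comp
        (fun w => ⟨w, rfl⟩ : Function.Surjective (id : R₀ → R₀)) |> fun h =>
          (Ideal.bijective_algebraMap_quotient_residueField q).2.comp h <| z
      have hz : algebraMap R₀ q.ResidueField z' = algebraMap S₀ q.ResidueField (algebraMap k S₀ (xq z')) := by
        rw [IsScalarTower.algebraMap_apply S₀ R₀ q.ResidueField, hkR₀, ← sub_eq_zero, ← map_sub,
          Ideal.algebraMap_residueField_eq_zero, hqk, RingHom.mem_ker, map_sub, AlgHom.commutes]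
        exact sub_self _
      show IsSeparable n.ResidueField (algebraMap R₀ q.ResidueField z')
      rw [hz, IsScalarTower.algebraMap_apply S₀ n.ResidueField q.ResidueField]
      exact isSeparable_algebraMap _
    · refine le_antisymm ?_ ?_
      · rw [Ideal.map_le_iff_le_comap]
        intro c hc
        rw [Ideal.mem_comap, IsScalarTower.algebraMap_apply S₀ R₀ (Localization.AtPrime q)]
        exact (IsLocalization.AtPrime.to_map_mem_maximal_iff _ q _).2 hc
      · rw [← Localization.AtPrime.map_eq_maximalIdeal, Ideal.map_le_iff_le_comap]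
        intro a ha
        obtain ⟨u, hu, hua⟩ := hqn a ha
        rw [Ideal.mem_comap, IsScalarTower.algebraMap_eq S₀ R₀ (Localization.AtPrime q), ← Ideal.map_map]
        exact (IsLocalization.algebraMap_mem_map_algebraMap_iff q.primeCompl _ _ _).2 ⟨u, hu, hua⟩
  exact isEtaleAt_of_isUnramifiedAt hS₀R₀ q

end Groth.L08.Luna
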