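import Groth.Agent.L08.Luna.Finite
import Mathlib.RingTheory.HopfAlgebra.Quotient
import Mathlib.RingTheory.HopfAlgebra.Convolution

/-!
# Orbits with the same stabiliser as their image
-/

set_option autoImplicit false
set_option linter.style.haveILetI false
set_option linter.unusedSectionVars false

universe u

open TensorProduct PrimeSpectrum

noncomputable section

namespace Groth.L08.Luna

/-- Closedness of the image of a spectrum map only depends on the range. -/
theorem isClosed_range_comap_iff {C B : Type u} [CommRing C] [CommRing B] (f : C →+* B) :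
    IsClosed (Set.range (comap f)) ↔ Function.Surjective (comap f.range.subtype) := by
  have hf : Set.range (comap f) = comap f.rangeRestrict '' Set.range (comap f.range.subtype) := by
    rw [← Set.range_comp]
    exact congrArg Set.range (by rw [← PrimeSpectrum.comap_comp]; rfl)
  have hv : Set.range (comap f.rangeRestrict) = closure (Set.range (comap f)) := by
    rw [closure_range_comap, range_comap_of_surjective _ _ f.rangeRestrict_surjective, f.ker_rangeRestrict]
  constructor
  · intro h p
    obtain ⟨P, hP⟩ := (h.closure_eq ▸ hv ▸ ⟨p, rfl⟩ : comap f.rangeRestrict p ∈ Set.range (comap f))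
    exact ⟨P, PrimeSpectrum.comap_injective_of_surjective _ f.rangeRestrict_surjective hP⟩
  · intro h
    rw [hf, h.range_eq, Set.image_univ, hv]
    exact isClosed_closure

variable {k : Type u} [Field k] {A : Type u} [CommRing A] [HopfAlgebra k A]
  {R : Type u} [CommRing R] [Algebra k R] [HopfRep.Comod k A R] [GLin.IsCoactAlg k A R]

theorem orbitHom_sub_mem_stabIdeal (x : R →ₐ[k] k) (r : R) :
    GLin.orbitHom k A x r - algebraMap k A (x r) ∈ GLin.stabIdeal k A x := by
  have h : r - algebraMap k R (x r) ∈ RingHom.ker x := by simp [RingHom.mem_ker]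
  have := Ideal.mem_map_of_mem (GLin.orbitHom k A x) h
  rwa [map_sub, AlgHom.commutes] at this

theorem mk_orbitHom (x : R →ₐ[k] k) (r : R) :
    Ideal.Quotient.mk (GLin.stabIdeal k A x) (GLin.orbitHom k A x r) =
      algebraMap k (A ⧸ GLin.stabIdeal k A x) (x r) := by
  rw [IsScalarTower.algebraMap_apply k A (A ⧸ GLin.stabIdeal k A x), Ideal.Quotient.algebraMap_eq,
    Ideal.Quotient.mk_eq_mk_iff_sub_mem]
  exact orbitHom_sub_mem_stabIdeal x r

theorem isCoideal_stabIdeal (x : R →ₐ[k] k) :
    ((GLin.stabIdeal k A x).restrictScalars k).IsCoideal where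
  counit_eq_zero := by
    intro a ha
    have : GLin.stabIdeal k A x ≤ RingHom.ker (Bialgebra.counitAlgHom k A) := by
      refine Ideal.map_le_iff_le_comap.2 fun r hr => ?_
      rw [Ideal.mem_comap, RingHom.mem_ker]
      show Coalgebra.counit (R := k) (GLin.orbitHom k A x r) = 0
      rw [ClosedOrbit.counit_orbitHom]
      exact hr
    exact this ha
  map_mkQ_comul_eq_zero := by
    intro a ha
    let q := Ideal.Quotient.mkₐ k (GLin.stabIdeal k A x)
    let D := (Algebra.TensorProduct.map q q).comp (Bialgebra.comulAlgHom k A)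
    have : GLin.stabIdeal k A x ≤ RingHom.ker D := by
      refine Ideal.map_le_iff_le_comap.2 fun r hr => ?_
      rw [Ideal.mem_comap, RingHom.mem_ker]
      have e : D (GLin.orbitHom k A x r) = 1 ⊗ₜ[k] q (GLin.orbitHom k A x r) := by
        rw [AlgHom.comp_apply, Bialgebra.comulAlgHom_apply, ClosedOrbit.comul_orbitHom]
        conv_rhs => rw [GLin.orbitHom, AlgHom.comp_apply, AlgHom.comp_apply, GLin.coactAlgHom_apply]
        induction HopfRep.Comod.coact (k := k) (A := A) r using TensorProduct.induction_on with
        | zero => simp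
        | add p p' hp hp' => simp only [map_add, hp, hp', tmul_add]
        | tmul p p' =>
          rw [LinearMap.rTensor_tmul, Algebra.TensorProduct.map_tmul,
            show q ((GLin.orbitHom k A x).toLinearMap p) = algebraMap k _ (x p) from mk_orbitHom x p,
            Algebra.TensorProduct.map_tmul, Algebra.algebraMap_eq_smul_one, TensorProduct.smul_tmul]
          simp
      rw [e, show q (GLin.orbitHom k A x r) = algebraMap k _ (x r) from mk_orbitHom x r,
        RingHom.mem_ker.1 hr, map_zero, tmul_zero]
    exact this ha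

theorem isHopfIdeal_stabIdeal (x : R →ₐ[k] k) : (GLin.stabIdeal k A x).IsHopfIdeal k where
  toIsCoideal := isCoideal_stabIdeal x
  antipode_mem := by
    intro a ha
    let q := Ideal.Quotient.mkₐ k (GLin.stabIdeal k A x)
    have : GLin.stabIdeal k A x ≤ RingHom.ker (q.comp (HopfAlgebra.antipodeAlgHom k A)) := by
      refine Ideal.map_le_iff_le_comap.2 fun r hr => ?_
      rw [Ideal.mem_comap, RingHom.mem_ker]
      have hm := congrArg q (LinearMap.congr_fun
        (HopfAlgebra.mul_antipode_lTensor_comul (R := k) (A := A)) (GLin.orbitHom k A x r))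
      simp only [LinearMap.comp_apply, Algebra.linearMap_apply, AlgHom.commutes] at hm
      rw [ClosedOrbit.counit_orbitHom, RingHom.mem_ker.1 hr, map_zero, ClosedOrbit.comul_orbitHom] at hm
      rw [← hm]
      conv_lhs => rw [AlgHom.comp_apply, GLin.orbitHom, AlgHom.comp_apply, AlgHom.comp_apply, GLin.coactAlgHom_apply]
      induction HopfRep.Comod.coact (k := k) (A := A) r using TensorProduct.induction_on with
      | zero => simp
      | add p p' hp hp' => simp only [map_add, hp, hp']
      | tmul p p' =>
        rw [LinearMap.rTensor_tmul, LinearMap.lTensor_tmul, LinearMap.mul'_apply, map_mul q,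
          show q ((GLin.orbitHom k A x).toLinearMap p) = algebraMap k _ (x p) from mk_orbitHom x p,
          Algebra.TensorProduct.map_tmul]
        show q (HopfAlgebraStruct.antipode k (x p • p')) = _
        rw [map_smul, map_smul, Algebra.smul_def]
    exact Ideal.Quotient.eq_zero_iff_mem.1 (RingHom.mem_ker.1 (this ha))

/-- A twisted map recovers the map it was twisted from. -/
theorem twist_untwist {C : Type u} [CommRing C] [Algebra k C] (i j : A →ₐ[k] C) :
    (WithConv.toConv ((Algebra.TensorProduct.lift i (j.comp (HopfAlgebra.antipodeAlgHom k A))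
      fun _ _ => Commute.all _ _).comp (Bialgebra.comulAlgHom k A)) * WithConv.toConv j).ofConv = i := by
  have e1 : WithConv.toConv ((Algebra.TensorProduct.lift i (j.comp (HopfAlgebra.antipodeAlgHom k A))
      fun _ _ => Commute.all _ _).comp (Bialgebra.comulAlgHom k A)) =
      WithConv.toConv i * WithConv.toConv (j.comp (HopfAlgebra.antipodeAlgHom k A)) := by
    refine WithConv.ext (AlgHom.ext fun a => ?_)
    rw [AlgHom.convMul_apply]
    simp only [AlgHom.comp_apply, Bialgebra.comulAlgHom_apply]
  have e2 : WithConv.toConv (j.comp (HopfAlgebra.antipodeAlgHom k A)) * WithConv.toConv j = 1 := by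
    refine WithConv.ext (AlgHom.ext fun a => ?_)
    have hm := congrArg j (LinearMap.congr_fun (HopfAlgebra.mul_antipode_rTensor_comul (R := k) (A := A)) a)
    simp only [LinearMap.comp_apply, Algebra.linearMap_apply, AlgHom.commutes] at hm
    rw [AlgHom.convMul_apply, AlgHom.convOne_apply, ← hm]
    induction Coalgebra.comul (R := k) a using TensorProduct.induction_on with
    | zero => simp
    | add p q hp hq => simp only [map_add, hp, hq]
    | tmul p q => simp
  rw [e1, _root_.mul_assoc, e2, _root_.mul_one]

variable [IsAlgClosed k] [CharZero k] [Algebra.FiniteType k A]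

/-- A function vanishing on the stabiliser lies in the stabiliser ideal. -/
theorem mem_stabIdeal_of_forall_point (x : R →ₐ[k] k) {a : A}
    (h : ∀ g : A →ₐ[k] k, GLin.actPt k g x = x → g a = 0) : a ∈ GLin.stabIdeal k A x := by
  haveI := isHopfIdeal_stabIdeal (A := A) x
  haveI : Algebra.FiniteType k (A ⧸ GLin.stabIdeal k A x) :=
    Algebra.FiniteType.of_surjective (Ideal.Quotient.mkₐ k _) Ideal.Quotient.mk_surjective
  refine Ideal.Quotient.eq_zero_iff_mem.1 (CartierRed.eq_zero_of_forall_point (k := k) fun χ => ?_)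
  refine h (χ.comp (Ideal.Quotient.mkₐ k _)) (AlgHom.ext fun r => ?_)
  rw [GLin.actPt, AlgHom.comp_apply, AlgHom.comp_apply]
  show χ (Ideal.Quotient.mk _ (GLin.orbitHom k A x r)) = x r
  rw [mk_orbitHom, AlgHom.commutes]
  rfl

variable [IsDomain A] [Algebra.FiniteType k R]
  {S : Type u} [CommRing S] [Algebra k S] [Algebra.FiniteType k S] [HopfRep.Comod k A S] [GLin.IsCoactAlg k A S]
  {φ : S →ₐ[k] R}

/-- If the point has the stabiliser of its image, whose orbit is closed, then the orbits are isomorphic. -/
theorem exists_orbitHom_eq (hφ : ∀ s, HopfRep.Comod.coact (k := k) (A := A) (φ s) =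
    Algebra.TensorProduct.map φ (AlgHom.id k A) (HopfRep.Comod.coact (k := k) (A := A) s)) (x : R →ₐ[k] k)
    (hy : GLin.IsClosedOrbit k A (x.comp φ))
    (hinj : ∀ g : A →ₐ[k] k, GLin.actPt k g (x.comp φ) = x.comp φ → GLin.actPt k g x = x) (r : R) :
    ∃ s : S, GLin.orbitHom k A x (φ s) = GLin.orbitHom k A x r := by
  let y := x.comp φ
  haveI := ClosedOrbit.faithfullyFlat (A := A) y hy
  let B := ClosedOrbit.orb A y
  let iL : A →ₐ[k] A ⊗[B] A := (Algebra.TensorProduct.includeLeft : A →ₐ[B] A ⊗[B] A).restrictScalars k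
  let iR : A →ₐ[k] A ⊗[B] A := (Algebra.TensorProduct.includeRight : A →ₐ[B] A ⊗[B] A).restrictScalars k
  let Ψ : A →ₐ[k] A ⊗[B] A :=
    (Algebra.TensorProduct.lift iR (iL.comp (HopfAlgebra.antipodeAlgHom k A)) fun _ _ => Commute.all _ _).comp
      (Bialgebra.comulAlgHom k A)
  have hB : ∀ b : B, iL (b : A) = iR (b : A) := fun b =>
    ((Algebra.TensorProduct.includeLeft : A →ₐ[B] A ⊗[B] A).commutes b).trans
      ((Algebra.TensorProduct.includeRight : A →ₐ[B] A ⊗[B] A).commutes b).symm
  have hΨ : ∀ s : S, Ψ (GLin.orbitHom k A y s) = algebraMap k _ (y s) := by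
    intro s
    rw [← ClosedOrbit.counit_orbitHom (A := A) y s]
    have hm := LinearMap.congr_fun (HopfAlgebra.mul_antipode_lTensor_comul (R := k) (A := A)) (GLin.orbitHom k A y s)
    simp only [LinearMap.comp_apply, Algebra.linearMap_apply] at hm
    rw [← AlgHom.commutes iL, ← hm]
    simp only [Ψ, AlgHom.comp_apply, Bialgebra.comulAlgHom_apply, ClosedOrbit.comul_orbitHom]
    induction HopfRep.Comod.coact (k := k) (A := A) s using TensorProduct.induction_on with
    | zero => simp
    | add p q hp hq => simp only [map_add, hp, hq]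
    | tmul p q =>
      simp only [LinearMap.rTensor_tmul, LinearMap.lTensor_tmul, LinearMap.mul'_apply, AlgHom.toLinearMap_apply,
        Algebra.TensorProduct.lift_tmul, AlgHom.comp_apply, map_mul]
      congr 1
      exact (hB ⟨_, ⟨p, rfl⟩⟩).symm
  have hker : GLin.stabIdeal k A y ≤ RingHom.ker Ψ := by
    rw [GLin.stabIdeal, Ideal.map_le_iff_le_comap]
    intro s hs
    rw [Ideal.mem_comap, RingHom.mem_ker, hΨ, RingHom.mem_ker.1 hs, map_zero]
  have hΨx : ∀ r : R, Ψ (GLin.orbitHom k A x r) = algebraMap k _ (x r) := by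
    intro r
    have h := hker (mem_stabIdeal_of_forall_point y (a := GLin.orbitHom k A x r - algebraMap k A (x r))
      fun g hg => by
        rw [map_sub, AlgHom.commutes, sub_eq_zero]
        exact AlgHom.congr_fun (hinj g hg) r)
    rwa [RingHom.mem_ker, map_sub, AlgHom.commutes, sub_eq_zero] at h
  -- recover a function from its twist
  let R' : A →ₐ[k] A ⊗[B] A := (WithConv.toConv Ψ * WithConv.toConv iL).ofConv
  have hR' : R' = iR := twist_untwist iR iL
  have h3 : iL (GLin.orbitHom k A x r) = iR (GLin.orbitHom k A x r) := by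
    rw [← hR']
    show _ = (WithConv.toConv Ψ * WithConv.toConv iL).ofConv (GLin.orbitHom k A x r)
    rw [AlgHom.convMul_apply, ClosedOrbit.comul_orbitHom]
    conv_lhs => rw [GLin.orbitHom, AlgHom.comp_apply, AlgHom.comp_apply, GLin.coactAlgHom_apply]
    induction HopfRep.Comod.coact (k := k) (A := A) r using TensorProduct.induction_on with
    | zero => simp
    | add p q hp hq => simp only [map_add, hp, hq]
    | tmul p q =>
      rw [LinearMap.rTensor_tmul, Algebra.TensorProduct.map_tmul, Algebra.TensorProduct.lift_tmul,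
        show Ψ ((GLin.orbitHom k A x).toLinearMap p) = algebraMap k _ (x p) from hΨx p]
      simp [Algebra.smul_def]
  let N : Submodule B A := LinearMap.range (Algebra.linearMap B A)
  have h4 : N.mkQ (GLin.orbitHom k A x r) = 0 := by
    refine Module.FaithfullyFlat.tensorProduct_mk_injective (A := B) (B := A) (M := A ⧸ N) ?_
    have := congrArg (LinearMap.lTensor A N.mkQ)
      (show (GLin.orbitHom k A x r ⊗ₜ[B] (1 : A)) = (1 : A) ⊗ₜ[B] GLin.orbitHom k A x r from h3)
    simp only [LinearMap.lTensor_tmul] at this
    rw [show N.mkQ (1 : A) = 0 from (Submodule.Quotient.mk_eq_zero N).2 ⟨1, (algebraMap B A).map_one⟩, tmul_zero] at this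
    simp only [TensorProduct.mk_apply, tmul_zero]
    exact this.symm
  obtain ⟨⟨_, s, rfl⟩, hb⟩ := (Submodule.Quotient.mk_eq_zero N).1 h4
  refine ⟨s, ?_⟩
  rw [← AlgHom.comp_apply, orbitHom_comp hφ]
  exact hb

/-- If moreover the orbit of the image is closed, so is the orbit. -/
theorem isClosedOrbit_of_stab (hφ : ∀ s, HopfRep.Comod.coact (k := k) (A := A) (φ s) =
    Algebra.TensorProduct.map φ (AlgHom.id k A) (HopfRep.Comod.coact (k := k) (A := A) s)) (x : R →ₐ[k] k)
    (hy : GLin.IsClosedOrbit k A (x.comp φ))
    (hinj : ∀ g : A →ₐ[k] k, GLin.actPt k g (x.comp φ) = x.comp φ → GLin.actPt k g x = x) :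
    GLin.IsClosedOrbit k A x := by
  -- the orbit closure below is the image of the one above
  let o := (GLin.orbitHom k A x).toRingHom
  let o' := (GLin.orbitHom k A (x.comp φ)).toRingHom
  have hoo : o' = o.comp φ.toRingHom := RingHom.ext fun s => (AlgHom.congr_fun (orbitHom_comp hφ x) s).symm
  refine isClosed_of_closure_subset fun p hp => ?_
  have hp' : RingHom.ker o ≤ p.asIdeal := by
    rw [closure_range_comap] at hp
    exact hp
  have hq : comap φ.toRingHom p ∈ Set.range (comap o') := by
    rw [← (show IsClosed (Set.range (comap o')) from hy).closure_eq, closure_range_comap]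
    intro s hs
    exact hp' (by rw [SetLike.mem_coe, RingHom.mem_ker, hoo] at hs; exact hs)
  obtain ⟨P, hP⟩ := hq
  refine ⟨P, PrimeSpectrum.ext (Ideal.ext fun r => ?_)⟩
  obtain ⟨s, hs⟩ := exists_orbitHom_eq hφ x hy hinj r
  have h1 : r - φ s ∈ p.asIdeal := hp' (by rw [RingHom.mem_ker, map_sub, sub_eq_zero]; exact hs.symm)
  have h2 := congrArg (fun q : PrimeSpectrum S => s ∈ q.asIdeal) hP
  show o r ∈ P.asIdeal ↔ r ∈ p.asIdeal
  rw [show o r = o' s from hs.symm.trans (by rw [hoo]; rfl)]
  refine (Iff.of_eq h2).trans ⟨fun h => ?_, fun h => ?_⟩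
  · have := p.asIdeal.add_mem h1 h
    simpa using this
  · have := p.asIdeal.sub_mem h h1
    simpa using this

end Groth.L08.Luna
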