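import Groth.Agent.L08.Luna.Basic

/-!
# Stable subalgebras as algebras with coaction
-/

set_option autoImplicit false
set_option linter.style.haveILetI false
set_option linter.unusedSectionVars false

universe u

open TensorProduct

noncomputable section

namespace Groth.L08.Luna

variable {k : Type u} [Field k] {A : Type u} [CommRing A] [HopfAlgebra k A]
  {R : Type u} [CommRing R] [Algebra k R] [HopfRep.Comod k A R]

/-- The coaction of a stable subalgebra. -/
@[reducible] def subComod (B : Subalgebra k R)
    (hB : HopfRep.IsSubcomod (k := k) (A := A) (Subalgebra.toSubmodule B)) : HopfRep.Comod k A B :=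
  ComodSub.Comod.restr ‹_› (Subalgebra.toSubmodule B) hB

theorem rTensor_injective (B : Subalgebra k R) :
    Function.Injective (Algebra.TensorProduct.map B.val (AlgHom.id k A)) := by
  have h := Module.Flat.rTensor_preserves_injective_linearMap (M := A) B.val.toLinearMap Subtype.val_injective
  exact h

/-- The inclusion is equivariant. -/
theorem subComod_val (B : Subalgebra k R)
    (hB : HopfRep.IsSubcomod (k := k) (A := A) (Subalgebra.toSubmodule B)) (b : B) :
    HopfRep.Comod.coact (k := k) (A := A) (b : R) =
      Algebra.TensorProduct.map B.val (AlgHom.id k A) ((subComod B hB).coact b) :=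
  (ComodSub.restr_coact_coe ‹_› (Subalgebra.toSubmodule B) hB b).symm

/-- A stable subalgebra has a multiplicative coaction. -/
theorem isCoactAlg_subComod [GLin.IsCoactAlg k A R] (B : Subalgebra k R)
    (hB : HopfRep.IsSubcomod (k := k) (A := A) (Subalgebra.toSubmodule B)) :
    @GLin.IsCoactAlg k _ A _ _ B _ _ (subComod B hB) :=
  letI := subComod B hB
  { coact_one := rTensor_injective B (by
      rw [← subComod_val B hB, map_one]; exact GLin.IsCoactAlg.coact_one)
    coact_mul := fun f g => rTensor_injective B (by
      rw [← subComod_val B hB, map_mul, ← subComod_val B hB, ← subComod_val B hB]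
      exact GLin.IsCoactAlg.coact_mul _ _) }

variable [GLin.IsCoactAlg k A R] [IsAlgClosed k] [CharZero k] [Algebra.FiniteType k A]

/-- A subspace stable under the points of the group is a subcomodule. -/
theorem isSubcomod_of_forall_point (W : Submodule k R) (h : ∀ (g : A →ₐ[k] k), ∀ v ∈ W, σ R g v ∈ W) :
    HopfRep.IsSubcomod (k := k) (A := A) W :=
  isSubcomod_iff.2 fun φ v hv => fAct_mem_of_forall_point W v (fun g => h g v hv) φ

end Groth.L08.Luna
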