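import Groth.Agent.L08.Luna.SliceBase
import Groth.Agent.L08.Luna.SubalgRep
import Mathlib.RingTheory.Smooth.Local
import Mathlib.RingTheory.Etale.Kaehler
import Mathlib.RingTheory.Smooth.Kaehler
import Mathlib.RingTheory.Unramified.LocalRing
import Mathlib.LinearAlgebra.TensorProduct.RightExactness

/-!
# Étale slices around a closed orbit
-/

set_option autoImplicit false
set_option linter.style.haveILetI false
set_option linter.unusedSectionVars false
set_option maxSynthPendingDepth 3

universe u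

open TensorProduct KaehlerDifferential

noncomputable section

namespace Groth.L08.Luna

variable {k : Type u} [Field k] [IsAlgClosed k] [CharZero k]
  {A : Type u} [CommRing A] [HopfAlgebra k A] [Algebra.FiniteType k A]
  {R : Type u} [CommRing R] [Algebra k R] [Algebra.FiniteType k R] [HopfRep.Comod k A R] [GLin.IsCoactAlg k A R]
  {B : Type u} [CommRing B] [Algebra k B] [Algebra.FiniteType k B] [HopfRep.Comod k A B] [GLin.IsCoactAlg k A B]
  [Algebra.Smooth k B]

/-- **An equivariant étale neighbourhood of an orbit retracting onto it.** -/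
theorem exists_slice (hG : HopfRep.IsLinearlyReductive k A) (res : R →ₐ[k] B) (hres : Function.Surjective res)
    (hresE : ∀ r, HopfRep.Comod.coact (k := k) (A := A) (res r) =
      Algebra.TensorProduct.map res (AlgHom.id k A) (HopfRep.Comod.coact (k := k) (A := A) r))
    (ob : B →ₐ[k] k) :
    ∃ (U : Type u) (_ : CommRing U) (_ : Algebra k U) (_ : Algebra.FiniteType k U) (_ : HopfRep.Comod k A U)
      (_ : GLin.IsCoactAlg k A U) (_ : Algebra R U) (_ : IsScalarTower k R U) (ρ : B →ₐ[k] U) (u : U →ₐ[k] k)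
      (m : Ideal U) (_ : m.IsMaximal),
      (∀ r, HopfRep.Comod.coact (k := k) (A := A) (algebraMap R U r) =
        Algebra.TensorProduct.map (IsScalarTower.toAlgHom k R U) (AlgHom.id k A) (HopfRep.Comod.coact (k := k) (A := A) r)) ∧
      (∀ (g : A →ₐ[k] k) (b : B), σ U g (ρ b) = ρ (σ B g b)) ∧
      m = RingHom.ker u.toRingHom ∧ u.comp (IsScalarTower.toAlgHom k R U) = ob.comp res ∧ u.comp ρ = ob ∧
      (∀ v : U →ₐ[k] k, v.comp (IsScalarTower.toAlgHom k R U) = ob.comp res → v.comp ρ = ob → v = u) ∧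
      Algebra.IsEtaleAt R m := by
  classical
  obtain ⟨α, hα⟩ := exists_isIntegral hG
  let x := ob.comp res
  let C := R ⊗[k] B
  letI : HopfRep.Comod k A C := prodComod
  haveI : GLin.IsCoactAlg k A C := isCoactAlg_of_tmul prodComod_tmul
  have hσC : ∀ (g : A →ₐ[k] k) (r : R) (b : B), σ C g (r ⊗ₜ[k] b) = σ R g r ⊗ₜ[k] σ B g b :=
    σ_tensor prodComod_tmul
  have hσres : ∀ (g : A →ₐ[k] k) (r : R), σ B g (res r) = res (σ R g r) := σ_comp_hom hresE
  -- the graph of the orbit
  let φ : C →ₐ[k] B ⊗[k] B := Algebra.TensorProduct.map res (AlgHom.id k B)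
  let μ : C →ₐ[k] B := (Algebra.TensorProduct.lmul' k).comp φ
  have hμ : ∀ r b, μ (r ⊗ₜ[k] b) = res r * b := fun r b => by
    show Algebra.TensorProduct.lmul' k (res r ⊗ₜ[k] b) = _
    rw [Algebra.TensorProduct.lmul'_apply_tmul]
  have hφt : ∀ r b, φ (r ⊗ₜ[k] b) = res r ⊗ₜ[k] b := fun r b => rfl
  let Γ : Ideal C := RingHom.ker μ
  let π : C →ₗ[k] Ω[B⁄k] := TensorProduct.lift
    (((LinearMap.lsmul B Ω[B⁄k]).restrictScalars₁₂ k k).compl₂ (D k B).toLinearMap ∘ₗ res.toLinearMap)
  have hπ : ∀ r b, π (r ⊗ₜ[k] b) = res r • D k B b := fun r b => rfl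
  have hπmul : ∀ c d : C, π (c * d) = μ c • π d + μ d • π c := by
    intro c d
    induction c using TensorProduct.induction_on with
    | zero => simp
    | add p q hp hq => simp only [add_mul, map_add, add_smul, smul_add, hp, hq]; abel
    | tmul r b =>
      induction d using TensorProduct.induction_on with
      | zero => simp
      | add p q hp hq => simp only [mul_add, map_add, add_smul, smul_add, hp, hq]; abel
      | tmul r' b' =>
        rw [Algebra.TensorProduct.tmul_mul_tmul, hπ, hπ, hπ, hμ, hμ, Derivation.leibniz, map_mul, smul_add,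
          smul_smul, smul_smul, smul_smul, smul_smul]
        congr 2 <;> ring
  let K : Ideal C :=
    { carrier := {c | c ∈ Γ ∧ π c = 0}
      zero_mem' := ⟨Γ.zero_mem, map_zero π⟩
      add_mem' := fun {c d} hc hd => ⟨Γ.add_mem hc.1 hd.1, by rw [map_add, hc.2, hd.2, add_zero]⟩
      smul_mem' := fun a c hc => ⟨Γ.mul_mem_left a hc.1, by
        rw [smul_eq_mul, hπmul, hc.2, show μ c = 0 from hc.1, smul_zero, zero_smul, add_zero]⟩ }
  -- the kernel through the square of the diagonal ideal
  let I := KaehlerDifferential.ideal k B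
  let cot : I →ₗ[B ⊗[k] B] Ω[B⁄k] := KaehlerDifferential.fromIdeal k B
  have hcot : ∀ z : I, cot z = 0 ↔ (z : B ⊗[k] B) ∈ I ^ 2 := fun z => I.toCotangent_eq_zero z
  have hφI : ∀ c, c ∈ Γ ↔ φ c ∈ I := fun c => Iff.rfl
  have hπI : ∀ (c : C) (hc : φ c ∈ I), π c = cot ⟨φ c, hc⟩ := by
    have key : ∀ c : C, φ c - μ c ⊗ₜ[k] (1 : B) ∈ I ∧
        ∀ h : φ c - μ c ⊗ₜ[k] (1 : B) ∈ I, π c = cot ⟨φ c - μ c ⊗ₜ[k] (1 : B), h⟩ := by
      intro c
      induction c using TensorProduct.induction_on with
      | zero =>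
        have e : φ 0 - μ 0 ⊗ₜ[k] (1 : B) = 0 := by rw [map_zero, map_zero, zero_tmul, sub_zero]
        refine ⟨e ▸ I.zero_mem, fun h => ?_⟩
        rw [map_zero, show (⟨φ 0 - μ 0 ⊗ₜ[k] (1 : B), h⟩ : I) = 0 from Subtype.ext e, map_zero]
      | add p q hp hq =>
        have e : φ (p + q) - μ (p + q) ⊗ₜ[k] (1 : B) =
            (φ p - μ p ⊗ₜ[k] (1 : B)) + (φ q - μ q ⊗ₜ[k] (1 : B)) := by
          rw [map_add, map_add, add_tmul]; ring
        refine ⟨e ▸ I.add_mem hp.1 hq.1, fun h => ?_⟩
        rw [map_add π, hp.2 hp.1, hq.2 hq.1, ← map_add cot]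
        exact congrArg _ (Subtype.ext e.symm)
      | tmul r b =>
        have e : φ (r ⊗ₜ[k] b) - μ (r ⊗ₜ[k] b) ⊗ₜ[k] (1 : B) = (res r ⊗ₜ[k] (1 : B)) * (1 ⊗ₜ b - b ⊗ₜ 1) := by
          rw [hμ, mul_sub, Algebra.TensorProduct.tmul_mul_tmul, Algebra.TensorProduct.tmul_mul_tmul]
          simp [hφt]
        refine ⟨e ▸ I.mul_mem_left _ (one_smul_sub_smul_one_mem_ideal k b), fun h => ?_⟩
        have e2 : (⟨φ (r ⊗ₜ[k] b) - μ (r ⊗ₜ[k] b) ⊗ₜ[k] (1 : B), h⟩ : I) =
            (res r ⊗ₜ[k] (1 : B)) • ⟨1 ⊗ₜ b - b ⊗ₜ 1, one_smul_sub_smul_one_mem_ideal k b⟩ := Subtype.ext e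
        rw [e2, map_smul, hπ]
        show _ = (res r ⊗ₜ[k] (1 : B)) • D k B b
        exact (IsScalarTower.algebraMap_smul (B ⊗[k] B) (res r) (D k B b)).symm
    intro c hc
    have h0 : μ c = 0 := hc
    have e : φ c - μ c ⊗ₜ[k] (1 : B) = φ c := by rw [h0, zero_tmul, sub_zero]
    rw [(key c).2 (e.symm ▸ hc)]
    exact congrArg _ (Subtype.ext e)
  have hK : ∀ c, c ∈ K ↔ φ c ∈ I ^ 2 := fun c => by
    refine ⟨fun h => ?_, fun h => ?_⟩
    · have := h.2
      rw [hπI c h.1, hcot] at this
      exact this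
    · have hI : φ c ∈ I := Ideal.pow_le_self two_ne_zero h
      exact ⟨hI, by rw [hπI c hI, hcot]; exact h⟩
  have hσφ : ∀ (g : A →ₐ[k] k) (c : C), φ (σ C g c) = Algebra.TensorProduct.map (σ B g) (σ B g) (φ c) := by
    intro g c
    induction c using TensorProduct.induction_on with
    | zero => simp
    | add p q hp hq => simp only [map_add, hp, hq]
    | tmul r b => rw [hσC, hφt, hφt, Algebra.TensorProduct.map_tmul, hσres]
  have hσI : ∀ g : A →ₐ[k] k, I ≤ I.comap (Algebra.TensorProduct.map (σ B g) (σ B g)) := by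
    intro g z hz
    have key : ∀ z : B ⊗[k] B, Algebra.TensorProduct.lmul' k (Algebra.TensorProduct.map (σ B g) (σ B g) z) =
        σ B g (Algebra.TensorProduct.lmul' k z) := fun z => by
      induction z using TensorProduct.induction_on with
      | zero => simp
      | add p q hp hq => simp only [map_add, hp, hq]
      | tmul p q => simp
    show Algebra.TensorProduct.lmul' k _ = 0
    rw [key, show Algebra.TensorProduct.lmul' k z = 0 from hz, map_zero]
  have hσΓ : ∀ (g : A →ₐ[k] k), ∀ c ∈ Γ.restrictScalars k, σ C g c ∈ Γ.restrictScalars k := fun g c hc => by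
    show φ (σ C g c) ∈ I
    rw [hσφ]
    exact hσI g hc
  have hσK : ∀ (g : A →ₐ[k] k), ∀ c ∈ K.restrictScalars k, σ C g c ∈ K.restrictScalars k := fun g c hc => by
    rw [Submodule.restrictScalars_mem, hK] at hc ⊢
    rw [hσφ]
    exact ((Ideal.pow_right_mono (hσI g) 2).trans (Ideal.le_comap_pow _ _)) hc
  have he : ∀ (g : A →ₐ[k] k) (b : B), σ C g (1 ⊗ₜ[k] b) = 1 ⊗ₜ[k] σ B g b := fun g b => by rw [hσC, map_one]
  -- an averaged section
  obtain ⟨n, f, s, hf, -, hfs⟩ := Module.Finite.exists_comp_eq_id_of_projective B Ω[B⁄k]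
  have hsurjπ : ∀ ω : Ω[B⁄k], ∃ c ∈ Γ, π c = ω := by
    intro ω
    have hω : ω ∈ Submodule.span B (Set.range (D k B)) := by rw [span_range_derivation]; trivial
    induction hω using Submodule.span_induction with
    | mem v hv =>
      obtain ⟨b, rfl⟩ := hv
      obtain ⟨r, rfl⟩ := hres b
      refine ⟨1 ⊗ₜ[k] res r - r ⊗ₜ[k] 1, ?_, ?_⟩
      · show μ _ = 0
        rw [map_sub, hμ, hμ, map_one, one_mul, mul_one, sub_self]
      · rw [map_sub, hπ, hπ, map_one, one_smul, Derivation.map_one_eq_zero, smul_zero, sub_zero]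
    | zero => exact ⟨0, Γ.zero_mem, map_zero π⟩
    | add p q _ _ hp hq =>
      obtain ⟨c, hc, rfl⟩ := hp; obtain ⟨d, hd, rfl⟩ := hq
      exact ⟨c + d, Γ.add_mem hc hd, map_add π c d⟩
    | smul b p _ hp =>
      obtain ⟨c, hc, rfl⟩ := hp
      exact ⟨(1 ⊗ₜ[k] b) * c, Γ.mul_mem_left _ hc, by
        rw [hπmul, show μ c = 0 from hc, zero_smul, add_zero, hμ, map_one, one_mul]⟩
  choose lift hliftΓ hlift using hsurjπ
  let mi : Fin n → C := fun i => lift (f (Pi.single i 1))
  let F : C →ₗ[k] C :=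
    { toFun := fun c => ∑ i, (1 ⊗ₜ[k] s (π c) i) * mi i
      map_add' := fun c d => by
        simp only [map_add, Pi.add_apply, tmul_add, add_mul, Finset.sum_add_distrib]
      map_smul' := fun a c => by
        simp only [map_smul, Pi.smul_apply, LinearMap.map_smul_of_tower, RingHom.id_apply, Finset.smul_sum,
          TensorProduct.tmul_smul, smul_mul_assoc] }
  have hFΓ : ∀ c, F c ∈ Γ := fun c => by
    show ∑ i, (1 ⊗ₜ[k] s (π c) i) * mi i ∈ Γ
    exact Submodule.sum_mem _ fun i _ => Γ.mul_mem_left _ (hliftΓ _)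
  have hFK : ∀ c ∈ Γ, F c - c ∈ K := fun c hc => ⟨Γ.sub_mem (hFΓ c) hc, by
    rw [map_sub, show F c = ∑ i, (1 ⊗ₜ[k] s (π c) i) * mi i from rfl, map_sum, sub_eq_zero]
    have hterm : ∀ i, π ((1 ⊗ₜ[k] s (π c) i) * mi i) = s (π c) i • f (Pi.single i 1) := fun i => by
      rw [hπmul, show μ (mi i) = 0 from hliftΓ _, zero_smul, add_zero, hμ, map_one, one_mul, hlift]
    simp only [hterm, ← map_smul, ← map_sum]
    rw [show (∑ i, s (π c) i • (Pi.single i (1 : B) : Fin n → B)) = s (π c) from (pi_eq_sum_univ' (s (π c))).symm]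
    exact LinearMap.congr_fun hfs _⟩
  let P : C →ₗ[k] C := average α F
  have hPσ : ∀ g c, P (σ C g c) = σ C g (P c) := average_σ hα F
  have hPΓ : ∀ c, P c ∈ Γ := fun c => average_mem α F (Γ.restrictScalars k) c hσΓ fun g => hFΓ _
  have hPK : ∀ c ∈ Γ, P c - c ∈ K := fun c hc =>
    average_sub_mem hα F (K.restrictScalars k) c hσK fun g => hFK _ (hσΓ g c hc)
  have hPzero : ∀ c ∈ K, P c = 0 := fun c hc => by
    have := average_mem α F (⊥ : Submodule k C) c (fun g w hw => by
      rw [Submodule.mem_bot] at hw ⊢; rw [hw, map_zero]) fun g => by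
      rw [Submodule.mem_bot]
      show ∑ i, (1 ⊗ₜ[k] s (π (σ C g c)) i) * mi i = 0
      rw [(hσK g c hc).2]
      simp
    exact this
  have hPmul : ∀ (b : B), ∀ c ∈ Γ, P ((1 ⊗ₜ[k] b) * c) = (1 ⊗ₜ[k] b) * P c := fun b c hc =>
    average_mul α F _ c fun g => by
      have h1 : μ (σ C g c) = 0 := hσΓ g c hc
      show ∑ i, (1 ⊗ₜ[k] s (π (σ C g _)) i) * mi i = _ * ∑ i, (1 ⊗ₜ[k] s (π (σ C g c)) i) * mi i
      rw [map_mul, he, hπmul, h1, zero_smul, add_zero, hμ, map_one, one_mul, map_smul, Finset.mul_sum]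
      refine Finset.sum_congr rfl fun i _ => ?_
      rw [Pi.smul_apply, smul_eq_mul, ← mul_assoc, Algebra.TensorProduct.tmul_mul_tmul, one_mul]
  let E : Ideal C := Ideal.span (Set.range fun i => P (mi i))
  have hPE : ∀ c ∈ Γ, P c ∈ E := fun c hc => by
    have h2 := hPzero _ (hFK c hc)
    rw [map_sub, sub_eq_zero] at h2
    rw [← h2, show F c = ∑ i, (1 ⊗ₜ[k] s (π c) i) * mi i from rfl, map_sum]
    refine Submodule.sum_mem _ fun i _ => ?_
    rw [hPmul _ _ (hliftΓ _)]
    exact E.mul_mem_left _ (Ideal.subset_span ⟨i, rfl⟩)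
  have hEΓ : E ≤ Γ := Ideal.span_le.2 (by rintro _ ⟨i, rfl⟩; exact hPΓ _)
  have hσE : ∀ g : A →ₐ[k] k, ∀ c ∈ E.restrictScalars k, σ C g c ∈ E.restrictScalars k := fun g c hc => by
    have hle : E ≤ E.comap (σ C g) := Ideal.span_le.2 (by
      rintro _ ⟨i, rfl⟩
      show σ C g (P (mi i)) ∈ E
      rw [← hPσ]
      exact hPE _ (hσΓ g _ (hliftΓ _)))
    exact hle hc
  have hEsub := isSubcomod_of_forall_point (A := A) (E.restrictScalars k) hσE
  -- the neighbourhood
  let U := C ⧸ E
  letI : HopfRep.Comod k A U := quotComod E hEsub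
  haveI : GLin.IsCoactAlg k A U := isCoactAlg_quot E hEsub
  let inl : R →ₐ[k] C := Algebra.TensorProduct.includeLeft
  let inr : B →ₐ[k] C := Algebra.TensorProduct.includeRight
  haveI : Algebra.FiniteType k C := by
    haveI : Algebra.FiniteType R C := inferInstance
    exact Algebra.FiniteType.trans (S := R) inferInstance inferInstance
  haveI : Algebra.FiniteType k U :=
    Algebra.FiniteType.of_surjective (Ideal.Quotient.mkₐ k E) Ideal.Quotient.mk_surjective
  let uC : C →ₐ[k] k := ob.comp μ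
  have huC : ∀ r b, uC (r ⊗ₜ[k] b) = x r * ob b := fun r b => by
    show ob (μ _) = _
    rw [hμ, map_mul]; rfl
  let u : U →ₐ[k] k := Ideal.Quotient.liftₐ E uC fun c hc => by
    show ob (μ c) = 0
    rw [show μ c = 0 from hEΓ hc, map_zero]
  have hu : ∀ c, u (Ideal.Quotient.mk E c) = uC c := fun c => rfl
  let mU : Ideal U := RingHom.ker u.toRingHom
  haveI hmU : mU.IsMaximal :=
    RingHom.ker_isMaximal_of_surjective u.toRingHom fun a => ⟨algebraMap k U a, u.commutes a⟩
  refine ⟨U, inferInstance, inferInstance, inferInstance, inferInstance, inferInstance, inferInstance, inferInstance,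
    (Ideal.Quotient.mkₐ k E).comp inr, u, mU, inferInstance, ?_, ?_, rfl, ?_, ?_, ?_, ?_⟩
  · intro r
    show (quotComod E hEsub).coact (Ideal.Quotient.mk E (r ⊗ₜ[k] 1)) = _
    rw [quotComod_mk, show HopfRep.Comod.coact (k := k) (A := A) (r ⊗ₜ[k] (1 : B)) = _ from prodComod_tmul r 1,
      GLin.IsCoactAlg.coact_one, map_one, mul_one]
    induction HopfRep.Comod.coact (k := k) (A := A) r using TensorProduct.induction_on with
    | zero => simp
    | add p q hp hq => simp only [map_add, hp, hq]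
    | tmul p q => rfl
  · intro g b
    rw [AlgHom.comp_apply, AlgHom.comp_apply]
    exact (σ_comp_hom (φ := Ideal.Quotient.mkₐ k E) (fun c => quotComod_mk E hEsub c) g (inr b)).trans
      (congrArg _ (he g b))
  · refine AlgHom.ext fun r => ?_
    show uC (r ⊗ₜ[k] 1) = _
    rw [huC, map_one, mul_one]
  · refine AlgHom.ext fun b => ?_
    show uC (1 ⊗ₜ[k] b) = _
    rw [huC, map_one, one_mul]
  · intro v hv hv'
    refine AlgHom.ext fun z => ?_
    obtain ⟨c, rfl⟩ := Ideal.Quotient.mk_surjective z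
    induction c using TensorProduct.induction_on with
    | zero => simp
    | add p q hp hq => simp only [map_add, hp, hq]
    | tmul r b =>
      rw [show (r ⊗ₜ[k] b : C) = inl r * inr b by
        show r ⊗ₜ[k] b = (r ⊗ₜ[k] (1 : B)) * ((1 : R) ⊗ₜ[k] b)
        rw [Algebra.TensorProduct.tmul_mul_tmul, mul_one, one_mul], map_mul, map_mul, map_mul]
      congr 1
      · exact (AlgHom.congr_fun hv r).trans (by show _ = uC (r ⊗ₜ[k] 1); rw [huC, map_one, mul_one])
      · exact (AlgHom.congr_fun hv' b).trans (by show _ = uC (1 ⊗ₜ[k] b); rw [huC, map_one, one_mul])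
  -- étale at the point
  haveI : IsNoetherianRing C := Algebra.FiniteType.isNoetherianRing k C
  haveI : IsNoetherianRing U := Algebra.FiniteType.isNoetherianRing k U
  haveI : Algebra.FiniteType R U := Algebra.FiniteType.of_restrictScalars_finiteType k R U
  let q : Ideal C := RingHom.ker uC.toRingHom
  haveI : q.IsMaximal :=
    RingHom.ker_isMaximal_of_surjective uC.toRingHom fun a => ⟨algebraMap k C a, uC.commutes a⟩
  let L := Localization.AtPrime mU
  let Q := Localization.AtPrime q
  haveI : IsNoetherianRing L := IsLocalization.isNoetherianRing mU.primeCompl L inferInstance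
  haveI : IsNoetherianRing Q := IsLocalization.isNoetherianRing q.primeCompl Q inferInstance
  have hqE : ∀ c, c ∈ q ↔ Ideal.Quotient.mk E c ∈ mU := fun c => Iff.rfl
  -- unramified
  let n₀ : Ideal R := mU.under R
  have hn₀ : ∀ r, r ∈ n₀ ↔ x r = 0 := fun r => by
    show uC (r ⊗ₜ[k] 1) = 0 ↔ _
    rw [huC, map_one, mul_one]
  haveI : mU.LiesOver n₀ := ⟨rfl⟩
  have hun : ∀ c ∈ q, Ideal.Quotient.mk E c ∈ n₀.map (algebraMap R U) ⊔ mU * mU := by
    intro c hc
    let J : Ideal U := n₀.map (algebraMap R U) ⊔ mU * mU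
    have h1 : ∀ b : B, ob b = 0 → Ideal.Quotient.mk E (1 ⊗ₜ[k] b) ∈ J := by
      intro b hb
      obtain ⟨r, rfl⟩ := hres b
      have hm : (1 ⊗ₜ[k] res r - r ⊗ₜ[k] 1 : C) ∈ Γ := by
        show μ _ = 0
        rw [map_sub, hμ, hμ, map_one, one_mul, mul_one, sub_self]
      have hrn : Ideal.Quotient.mk E (r ⊗ₜ[k] 1) ∈ J :=
        Ideal.mem_sup_left (Ideal.mem_map_of_mem _ ((hn₀ r).2 hb))
      have hker : RingHom.ker φ ≤ J.comap (Ideal.Quotient.mk E) := by
        rw [Algebra.TensorProduct.map_ker res (AlgHom.id k B) hres Function.surjective_id]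
        refine sup_le (Ideal.map_le_iff_le_comap.2 fun r' hr' => Ideal.mem_sup_left (Ideal.mem_map_of_mem _ ?_)) ?_
        · rw [hn₀]
          show ob (res r') = 0
          rw [RingHom.mem_ker.1 hr', map_zero]
        · refine Ideal.map_le_iff_le_comap.2 fun b' hb' => ?_
          have : b' = 0 := hb'
          rw [this]
          simp
      have hKJ : K ≤ J.comap (Ideal.Quotient.mk E) := by
        intro c hc
        have hsurjφ : Function.Surjective φ := TensorProduct.map_surjective hres Function.surjective_id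
        have h2 : c ∈ Γ ^ 2 ⊔ RingHom.ker φ := by
          have e : (Γ ^ 2).map φ = I ^ 2 := by
            rw [Ideal.map_pow]
            congr 1
            refine le_antisymm (Ideal.map_le_iff_le_comap.2 fun d hd => hd) fun z hz => ?_
            obtain ⟨d, rfl⟩ := hsurjφ z
            exact Ideal.mem_map_of_mem _ hz
          have : c ∈ ((Γ ^ 2).map φ).comap φ := e ▸ (hK c).1 hc
          rw [Ideal.comap_map_of_surjective' φ hsurjφ] at this
          exact this
        refine (sup_le ?_ hker) h2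
        rw [pow_two]
        refine Ideal.mul_le.2 fun a ha b hb => ?_
        rw [Ideal.mem_comap, map_mul]
        exact Ideal.mem_sup_right (Ideal.mul_mem_mul (show ob (μ a) = 0 by rw [show μ a = 0 from ha, map_zero])
          (show ob (μ b) = 0 by rw [show μ b = 0 from hb, map_zero]))
      have h3 := hKJ (hPK _ hm)
      rw [Ideal.mem_comap, map_sub, Ideal.Quotient.eq_zero_iff_mem.2 (hPE _ hm), zero_sub, neg_mem_iff,
        map_sub] at h3
      have := J.add_mem h3 hrn
      rwa [sub_add_cancel] at this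
    have key : ∀ c : C, Ideal.Quotient.mk E c - algebraMap k U (uC c) ∈ J := fun c => by
      induction c using TensorProduct.induction_on with
      | zero => simp
      | add p q hp hq => rw [map_add, map_add, map_add, add_sub_add_comm]; exact J.add_mem hp hq
      | tmul r b =>
        have e : (r ⊗ₜ[k] b : C) - algebraMap k C (uC (r ⊗ₜ[k] b)) =
            ((r - algebraMap k R (x r)) ⊗ₜ[k] (1 : B)) * (1 ⊗ₜ[k] b) +
              algebraMap k C (x r) * ((1 : R) ⊗ₜ[k] (b - algebraMap k B (ob b))) := by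
          rw [huC, map_mul, Algebra.TensorProduct.tmul_mul_tmul, mul_one, one_mul, tmul_sub, sub_tmul,
            ← Algebra.TensorProduct.algebraMap_apply' (R := k) (ob b),
            show (algebraMap k R (x r)) ⊗ₜ[k] b = algebraMap k C (x r) * ((1 : R) ⊗ₜ[k] b) by
              rw [Algebra.TensorProduct.algebraMap_apply, Algebra.TensorProduct.tmul_mul_tmul, mul_one, one_mul]]
          ring
        show Ideal.Quotient.mk E (r ⊗ₜ[k] b) - Ideal.Quotient.mk E (algebraMap k C (uC _)) ∈ J
        rw [← map_sub, e, map_add, map_mul, map_mul]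
        refine J.add_mem (J.mul_mem_right _ (Ideal.mem_sup_left (Ideal.mem_map_of_mem _ ((hn₀ _).2 ?_))))
          (J.mul_mem_left _ (h1 _ ?_))
        · show x (r - algebraMap k R (x r)) = 0
          simp
        · simp
    have := key c
    rwa [show uC c = 0 from hc, map_zero, sub_zero] at this
  letI := Localization.AtPrime.algebraOfLiesOver n₀ mU
  haveI hunr : Algebra.IsUnramifiedAt R mU := by
    refine (Algebra.isUnramifiedAt_iff_map_eq R n₀ mU).2 ⟨⟨fun z => ?_⟩, ?_⟩
    · obtain ⟨z', rfl⟩ := (Ideal.bijective_algebraMap_quotient_residueField mU).2 z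
      obtain ⟨z', rfl⟩ := Ideal.Quotient.mk_surjective z'
      have hz : algebraMap U mU.ResidueField z' = algebraMap R mU.ResidueField (algebraMap k R (u z')) := by
        rw [IsScalarTower.algebraMap_apply R U mU.ResidueField, ← IsScalarTower.algebraMap_apply k R U,
          ← sub_eq_zero, ← map_sub, Ideal.algebraMap_residueField_eq_zero]
        show u (z' - algebraMap k U (u z')) = 0
        rw [map_sub, AlgHom.commutes]
        exact sub_self _
      show IsSeparable n₀.ResidueField (algebraMap U mU.ResidueField z')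
      rw [hz, IsScalarTower.algebraMap_apply R n₀.ResidueField mU.ResidueField]
      exact isSeparable_algebraMap _
    · refine le_antisymm ?_ ?_
      · rw [Ideal.map_le_iff_le_comap]
        intro r hr
        rw [Ideal.mem_comap, IsScalarTower.algebraMap_apply R U L]
        exact (IsLocalization.AtPrime.to_map_mem_maximal_iff L mU _).2 hr
      · refine Submodule.le_of_le_smul_of_le_jacobson_bot (I := IsLocalRing.maximalIdeal L) (IsNoetherian.noetherian _)
          (IsLocalRing.maximalIdeal_le_jacobson ⊥) ?_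
        have h1 : mU ≤ n₀.map (algebraMap R U) ⊔ mU * mU := fun z hz => by
          obtain ⟨c, rfl⟩ := Ideal.Quotient.mk_surjective z
          exact hun c hz
        have h2 := Ideal.map_mono (f := algebraMap U L) h1
        rw [Ideal.map_sup, Ideal.map_map, ← IsScalarTower.algebraMap_eq, Ideal.map_mul,
          Localization.AtPrime.map_eq_maximalIdeal] at h2
        exact h2
  -- smooth
  letI : Algebra Q L := (IsLocalization.lift (M := q.primeCompl) (S := Q)
    (g := (algebraMap U L).comp (Ideal.Quotient.mk E))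
    (fun c => IsLocalization.map_units L (⟨Ideal.Quotient.mk E c.1, fun h => c.2 ((hqE _).2 h)⟩ : mU.primeCompl))).toAlgebra
  have hQL : ∀ c, algebraMap Q L (algebraMap C Q c) = algebraMap U L (Ideal.Quotient.mk E c) := fun c =>
    IsLocalization.lift_eq _ c
  haveI : IsScalarTower R Q L := IsScalarTower.of_algebraMap_eq fun r => by
    rw [IsScalarTower.algebraMap_apply R C Q, hQL, IsScalarTower.algebraMap_apply R U L]
    rfl
  have h₁ : Function.Surjective (algebraMap Q L) := fun z => by
    obtain ⟨a, ⟨b, hb⟩, rfl⟩ := IsLocalization.exists_mk'_eq mU.primeCompl z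
    obtain ⟨c, rfl⟩ := Ideal.Quotient.mk_surjective a
    obtain ⟨d, rfl⟩ := Ideal.Quotient.mk_surjective b
    refine ⟨IsLocalization.mk' Q c (⟨d, fun h => hb ((hqE _).1 h)⟩ : q.primeCompl), IsLocalization.eq_mk'_iff_mul_eq.2 ?_⟩
    show _ * algebraMap U L (Ideal.Quotient.mk E d) = algebraMap U L (Ideal.Quotient.mk E c)
    rw [← hQL, ← hQL, ← map_mul, IsLocalization.mk'_spec]
  have hkerQ : RingHom.ker (algebraMap Q L) = E.map (algebraMap C Q) := by
    refine le_antisymm (fun z hz => ?_) (Ideal.map_le_iff_le_comap.2 fun c hc => ?_)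
    · obtain ⟨c, d, rfl⟩ := IsLocalization.exists_mk'_eq q.primeCompl z
      have h0 : algebraMap U L (Ideal.Quotient.mk E c) = 0 := by
        rw [← hQL, ← IsLocalization.mk'_spec Q c d, map_mul, RingHom.mem_ker.1 hz, zero_mul]
      obtain ⟨⟨t, ht⟩, htc⟩ := (IsLocalization.map_eq_zero_iff mU.primeCompl L _).1 h0
      obtain ⟨t', rfl⟩ := Ideal.Quotient.mk_surjective t
      rw [← map_mul, Ideal.Quotient.eq_zero_iff_mem] at htc
      exact (IsLocalization.mk'_mem_map_algebraMap_iff q.primeCompl _ _ _ _).2 ⟨t', fun h => ht ((hqE _).1 h), htc⟩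
    · rw [Ideal.mem_comap, RingHom.mem_ker, hQL, Ideal.Quotient.eq_zero_iff_mem.2 hc, map_zero]
  haveI : Algebra.FormallySmooth C Q := Algebra.FormallySmooth.of_isLocalization q.primeCompl
  haveI : Algebra.FormallyEtale C Q := Algebra.FormallyEtale.of_isLocalization q.primeCompl
  haveI : Algebra.FormallySmooth R C := inferInstance
  haveI : Algebra.FormallySmooth R Q := Algebra.FormallySmooth.comp R C Q
  haveI : Algebra.FiniteType R C := inferInstance
  haveI : Module.Finite Q Ω[Q⁄R] := Module.Finite.equiv (tensorKaehlerEquivOfFormallyEtale R C Q)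
  haveI : Module.Projective Q Ω[Q⁄R] := inferInstance
  haveI : Module.Free Q Ω[Q⁄R] := Module.free_of_flat_of_isLocalRing
  letI : Algebra R k := x.toRingHom.toAlgebra
  letI : Algebra C k := uC.toRingHom.toAlgebra
  haveI : IsScalarTower R C k := IsScalarTower.of_algebraMap_eq fun r => by
    show x r = uC (r ⊗ₜ[k] 1)
    rw [huC, map_one, mul_one]
  let uQ : Q →+* k := IsLocalization.lift (M := q.primeCompl) (S := Q) (g := uC.toRingHom)
    (fun c => isUnit_iff_ne_zero.2 fun h => c.2 h)
  letI : Algebra Q k := uQ.toAlgebra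
  haveI : IsScalarTower C Q k := IsScalarTower.of_algebraMap_eq fun c => (IsLocalization.lift_eq _ c).symm
  let uL : L →+* k := IsLocalization.lift (M := mU.primeCompl) (S := L) (g := u.toRingHom)
    (fun c => isUnit_iff_ne_zero.2 fun h => c.2 h)
  letI : Algebra L k := uL.toAlgebra
  haveI : IsScalarTower Q L k := IsScalarTower.of_algebraMap_eq' (IsLocalization.ringHom_ext q.primeCompl
    (RingHom.ext fun c => by
      show uQ (algebraMap C Q c) = uL (algebraMap Q L (algebraMap C Q c))
      rw [hQL, IsLocalization.lift_eq, IsLocalization.lift_eq]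
      rfl))
  have hmax : IsLocalRing.maximalIdeal L ≤ RingHom.ker (algebraMap L k) :=
    (IsLocalRing.eq_maximalIdeal (RingHom.ker_isMaximal_of_surjective _ fun a =>
      ⟨algebraMap U L (algebraMap k U a), by
        show uL _ = a
        rw [IsLocalization.lift_eq]
        exact u.commutes a⟩)).ge
  haveI : Algebra.FormallySmooth R L := by
    refine (Algebra.FormallySmooth.iff_injective_cotangentComplexBaseChange Q k h₁ (IsNoetherian.noetherian _) hmax).2 ?_
    rw [injective_iff_map_eq_zero]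
    intro z hz
    let J := RingHom.ker (algebraMap Q L)
    have hJE : J = E.map (algebraMap C Q) := hkerQ
    have hmem : ∀ c : Γ, algebraMap C Q (P c.1) ∈ J := fun c => by
      rw [hJE]; exact Ideal.mem_map_of_mem _ (hPE c.1 c.2)
    let gen : Γ → k ⊗[Q] J := fun c => (1 : k) ⊗ₜ[Q] ⟨algebraMap C Q (P c.1), hmem c⟩
    have hgen0 : gen 0 = 0 := by
      show (1 : k) ⊗ₜ[Q] _ = 0
      rw [show (⟨algebraMap C Q (P (0 : Γ).1), hmem 0⟩ : J) = 0 from Subtype.ext (by simp), tmul_zero]
    have hgenadd : ∀ c d, gen (c + d) = gen c + gen d := fun c d => by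
      show (1 : k) ⊗ₜ[Q] _ = (1 : k) ⊗ₜ[Q] _ + (1 : k) ⊗ₜ[Q] _
      rw [← tmul_add]
      congr 1
      ext
      simp
    have hscal : ∀ (r : Q) (a : k) (j : J), a ⊗ₜ[Q] (r • j) = (uQ r * a) ⊗ₜ[Q] j := fun r a j => by
      rw [← TensorProduct.smul_tmul]; rfl
    have hgenmul : ∀ (b : B) (c : Γ), gen ⟨(1 ⊗ₜ[k] b) * c.1, Γ.mul_mem_left _ c.2⟩ =
        (ob b) ⊗ₜ[Q] (⟨algebraMap C Q (P c.1), hmem c⟩ : J) := fun b c => by
      show (1 : k) ⊗ₜ[Q] _ = _
      rw [show ob b = uQ (algebraMap C Q (1 ⊗ₜ[k] b)) * 1 by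
        rw [mul_one, IsLocalization.lift_eq]
        show _ = uC _
        rw [huC, map_one, one_mul], ← hscal]
      congr 1
      ext
      simp only [SetLike.val_smul, smul_eq_mul, hPmul b c.1 c.2, map_mul]
    -- every element comes from the section
    have hJgen : ∀ (j : Q) (hj : j ∈ J) (a : k), ∃ c, a ⊗ₜ[Q] (⟨j, hj⟩ : J) = gen c := by
      intro j hj
      have hj' : j ∈ Submodule.span Q (algebraMap C Q '' Set.range fun i => P (mi i)) := by
        have hj2 := hj
        rw [hJE, Ideal.map_span] at hj2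
        exact hj2
      induction hj' using Submodule.span_induction with
      | mem v hv =>
        obtain ⟨_, ⟨i, rfl⟩, rfl⟩ := hv
        intro a
        refine ⟨⟨(1 ⊗ₜ[k] algebraMap k B a) * mi i, Γ.mul_mem_left _ (hliftΓ _)⟩, ?_⟩
        rw [hgenmul _ ⟨mi i, hliftΓ _⟩, AlgHom.commutes]
        rfl
      | zero => exact fun a => ⟨0, hgen0 ▸ (tmul_zero J a)⟩
      | add v w hv hw hv' hw' =>
        intro a
        have hv2 : v ∈ J := by rw [hJE, Ideal.map_span]; exact hv
        have hw2 : w ∈ J := by rw [hJE, Ideal.map_span]; exact hw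
        obtain ⟨c, hc⟩ := hv' hv2 a
        obtain ⟨d, hd⟩ := hw' hw2 a
        refine ⟨c + d, ?_⟩
        rw [hgenadd, ← hc, ← hd, ← tmul_add]
        rfl
      | smul r v hv hv' =>
        intro a
        have hv2 : v ∈ J := by rw [hJE, Ideal.map_span]; exact hv
        obtain ⟨c, hc⟩ := hv' hv2 (uQ r * a)
        exact ⟨c, by rw [← hc, ← hscal]; rfl⟩
    have hzgen : ∃ c, z = gen c := by
      clear hz
      induction z using TensorProduct.induction_on with
      | zero => exact ⟨0, hgen0.symm⟩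
      | add p q hp hq =>
        obtain ⟨c, rfl⟩ := hp; obtain ⟨d, rfl⟩ := hq
        exact ⟨c + d, (hgenadd c d).symm⟩
      | tmul a j => obtain ⟨c, hc⟩ := hJgen j.1 j.2 a; exact ⟨c, hc⟩
    obtain ⟨c, rfl⟩ := hzgen
    -- the cotangent class vanishes at the point
    let mob : Ideal B := RingHom.ker ob
    let N : Submodule B Ω[B⁄k] := mob • ⊤
    have hcN : π c.1 ∈ N := by
      by_contra hne
      obtain ⟨ℓ, hℓ, hℓN⟩ := Submodule.exists_dual_map_eq_bot_of_notMem (p := N.restrictScalars k) hne inferInstance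
      have hℓ0 : ∀ w ∈ N, ℓ w = 0 := fun w hw => by
        have : ℓ w ∈ (N.restrictScalars k).map ℓ := ⟨w, hw, rfl⟩
        rwa [hℓN, Submodule.mem_bot] at this
      have hℓsmul : ∀ (b : B) (w : Ω[B⁄k]), ℓ (b • w) = ob b * ℓ w := fun b w => by
        have h1 := hℓ0 _ (Submodule.smul_mem_smul (show b - algebraMap k B (ob b) ∈ mob by simp [mob, RingHom.mem_ker])
          (Submodule.mem_top (x := w)))
        rw [sub_smul, algebraMap_smul, map_sub, map_smul ℓ (ob b) w, sub_eq_zero, smul_eq_mul] at h1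
        exact h1
      have hπR : ∀ (r : R) (d : C), π (r • d) = res r • π d := fun r d => by
        rw [Algebra.smul_def, hπmul]
        show μ (r ⊗ₜ[k] 1) • π d + μ d • π (r ⊗ₜ[k] 1) = _
        rw [hμ, mul_one, hπ, Derivation.map_one_eq_zero, smul_zero, smul_zero, add_zero]
      let Dℓ : Derivation R C k := Derivation.mk'
        { toFun := fun d => ℓ (π d)
          map_add' := fun d e => by rw [map_add, map_add]
          map_smul' := fun r d => by
            rw [hπR, hℓsmul, RingHom.id_apply]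
            rfl }
        fun d e => by
          show ℓ (π (d * e)) = uC d * ℓ (π e) + uC e * ℓ (π d)
          rw [hπmul, map_add, hℓsmul, hℓsmul]
          rfl
      let g : Ω[Q⁄R] →ₗ[Q] k := (Dℓ.liftKaehlerDifferential.liftBaseChange Q) ∘ₗ
        (tensorKaehlerEquivOfFormallyEtale R C Q).symm.toLinearMap
      have hg : ∀ d, g (D R Q (algebraMap C Q d)) = ℓ (π d) := fun d => by
        show Dℓ.liftKaehlerDifferential.liftBaseChange Q _ = _
        rw [LinearEquiv.coe_toLinearMap, tensorKaehlerEquivOfFormallyEtale_symm_D_algebraMap,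
          LinearMap.liftBaseChange_one_tmul, Derivation.liftKaehlerDifferential_comp_D]
        rfl
      refine hℓ ?_
      have h2 := congrArg (g.liftBaseChange k) hz
      rw [cotangentComplexBaseChange_tmul, map_zero, map_smul] at h2
      simp only [kerToTensor_apply, one_smul] at h2
      rw [LinearMap.liftBaseChange_one_tmul, hg, show π (P c.1) = π c.1 by
        have := (hPK c.1 c.2).2
        rwa [map_sub, sub_eq_zero] at this] at h2
      exact h2
    obtain ⟨c', hπc', hgc'⟩ : ∃ c' : Γ, π c'.1 = π c.1 ∧ gen c' = 0 := by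
      generalize π c.1 = ω₀ at hcN ⊢
      induction hcN using Submodule.smul_induction_on' with
      | smul a ha w hw =>
        refine ⟨⟨(1 ⊗ₜ[k] a) * lift w, Γ.mul_mem_left _ (hliftΓ w)⟩, ?_, ?_⟩
        · show π _ = _
          rw [hπmul, show μ (lift w) = 0 from hliftΓ w, zero_smul, add_zero, hμ, map_one, one_mul, hlift]
        · rw [hgenmul a ⟨lift w, hliftΓ w⟩, show ob a = 0 from ha, zero_tmul]
      | add p hp q hq ihp ihq =>
        obtain ⟨c, hc, hc'⟩ := ihp
        obtain ⟨d, hd, hd'⟩ := ihq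
        exact ⟨c + d, by rw [Submodule.coe_add, map_add, hc, hd], by rw [hgenadd, hc', hd', add_zero]⟩
    rw [← hgc']
    show (1 : k) ⊗ₜ[Q] _ = (1 : k) ⊗ₜ[Q] _
    congr 1
    ext
    show algebraMap C Q (P c.1) = algebraMap C Q (P c'.1)
    congr 1
    rw [← sub_eq_zero, ← map_sub]
    exact hPzero _ ⟨Γ.sub_mem c.2 c'.2, by rw [map_sub, hπc', sub_self]⟩
  show Algebra.FormallyEtale R L
  exact Algebra.FormallyEtale.iff_formallyUnramified_and_formallySmooth.2 ⟨hunr, inferInstance⟩

end Groth.L08.Luna
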