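import Groth.Agent.L08.Luna.Fundamental
import Groth.Agent.L20.GenSmooth.Ring
import Groth.Agent.L25.GrpDeriv
import Mathlib.RingTheory.Smooth.Locus
import Mathlib.RingTheory.Smooth.Field
import Mathlib.FieldTheory.Perfect
import Mathlib.RingTheory.Kaehler.Basic

/-!
# Evaluations, averaging, products of actions and homogeneous algebras
-/

set_option autoImplicit false
set_option linter.style.haveILetI false
set_option linter.unusedSectionVars false
set_option maxSynthPendingDepth 3

universe u

open TensorProduct

noncomputable section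

namespace Groth.L08.Luna

variable {k : Type u} [Field k] {A : Type u} [CommRing A] [HopfAlgebra k A]

/-- Evaluation of the second factor. -/
def evR (C : Type u) [AddCommGroup C] [Module k C] (φ : A →ₗ[k] k) : C ⊗[k] A →ₗ[k] C :=
  (TensorProduct.rid k C).toLinearMap ∘ₗ φ.lTensor C

theorem evR_tmul {C : Type u} [AddCommGroup C] [Module k C] (φ : A →ₗ[k] k) (c : C) (a : A) :
    evR C φ (c ⊗ₜ[k] a) = φ a • c := by simp [evR]

variable [IsAlgClosed k] [CharZero k] [Algebra.FiniteType k A]

/-- A family in a subspace averages into it. -/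
theorem evR_mem_of_forall_point {C : Type u} [AddCommGroup C] [Module k C] (W : Submodule k C) (z : C ⊗[k] A)
    (h : ∀ g : A →ₐ[k] k, evR C g.toLinearMap z ∈ W) (φ : A →ₗ[k] k) : evR C φ z ∈ W := by
  by_contra hne
  obtain ⟨lam, hlam, hW⟩ := Submodule.exists_dual_map_eq_bot_of_notMem hne inferInstance
  have key : ∀ (ψ : A →ₗ[k] k) (w : C ⊗[k] A), lam (evR C ψ w) = ψ (TensorProduct.lid k A (lam.rTensor A w)) := by
    intro ψ w
    induction w using TensorProduct.induction_on with
    | zero => simp
    | add p q hp hq => simp only [map_add, hp, hq]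
    | tmul p q => simp [evR_tmul, mul_comm]
  have hmap : ∀ w ∈ W, lam w = 0 := fun w hw => by
    have : lam w ∈ W.map lam := ⟨w, hw, rfl⟩
    rwa [hW, Submodule.mem_bot] at this
  have h0 : TensorProduct.lid k A (lam.rTensor A z) = 0 := CartierRed.eq_zero_of_forall_point (k := k) fun g =>
    (key g.toLinearMap z).symm.trans (hmap _ (h g))
  exact hlam (by rw [key, h0, map_zero])

theorem evR_eq_of_forall_point {C : Type u} [AddCommGroup C] [Module k C] {z w : C ⊗[k] A}
    (h : ∀ g : A →ₐ[k] k, evR C g.toLinearMap z = evR C g.toLinearMap w) (φ : A →ₗ[k] k) :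
    evR C φ z = evR C φ w := by
  have := evR_mem_of_forall_point (⊥ : Submodule k C) (z - w) (fun g => by simp [h g]) φ
  rwa [Submodule.mem_bot, map_sub, sub_eq_zero] at this

section Average

variable {C : Type u} [CommRing C] [Algebra k C] [HopfRep.Comod k A C] [GLin.IsCoactAlg k A C]

/-- Integrals are invariant under translations. -/
theorem integral_rt {α : A →ₗ[k] k} (hα : IsIntegral α) (g : WithConv (A →ₐ[k] k)) (a : A) :
    α (Groth.L25.HopfFlat.rt g a) = α a := by
  have h := LinearMap.congr_fun (isIntegral_iff.1 hα).1 a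
  change (HopfRep.Comod.trivial k A k).coact (α a) = LinearMap.rTensor A α (Coalgebra.comul (R := k) a) at h
  have h' := congrArg (fun z => TensorProduct.rid k k (LinearMap.lTensor k g.ofConv.toLinearMap z)) h
  have e : TensorProduct.rid k k (LinearMap.lTensor k g.ofConv.toLinearMap
      (LinearMap.rTensor A α (Coalgebra.comul (R := k) a))) = α (Groth.L25.HopfFlat.rt g a) := by
    rw [ClosedOrbit.rt_eq_fAct, fAct_apply]
    show _ = α (TensorProduct.rid k A (g.ofConv.toLinearMap.lTensor A (Coalgebra.comul (R := k) a)))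
    induction Coalgebra.comul (R := k) a using TensorProduct.induction_on with
    | zero => simp
    | add p q hp hq => simp only [map_add, hp, hq]
    | tmul p q => simp [mul_comm]
  rw [← e, ← h']
  show TensorProduct.rid k k (LinearMap.lTensor k g.ofConv.toLinearMap (α a ⊗ₜ[k] (1 : A))) = α a
  simp

/-- The family of conjugates of a map by translations. -/
def conjFam (F : C →ₗ[k] C) : C →ₗ[k] C ⊗[k] A :=
  (Algebra.TensorProduct.lift
      (((Algebra.TensorProduct.map (AlgHom.id k C) (HopfAlgebra.antipodeAlgHom k A))).comp (GLin.coactAlgHom k A C))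
      (Algebra.TensorProduct.includeRight : A →ₐ[k] C ⊗[k] A) fun _ _ => Commute.all _ _).toLinearMap ∘ₗ
    F.rTensor A ∘ₗ HopfRep.Comod.coact (k := k) (A := A)

theorem evR_conjFam (F : C →ₗ[k] C) (g : WithConv (A →ₐ[k] k)) (m : C) :
    evR C g.ofConv.toLinearMap (conjFam (A := A) F m) = σ C g⁻¹.ofConv (F (σ C g.ofConv m)) := by
  rw [conjFam, LinearMap.comp_apply, LinearMap.comp_apply, σ_apply (A := A) g.ofConv m, fAct_apply]
  induction HopfRep.Comod.coact (k := k) (A := A) m using TensorProduct.induction_on with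
  | zero => simp
  | add p q hp hq => simp only [map_add, hp, hq]
  | tmul p q =>
    simp only [LinearMap.rTensor_tmul, AlgHom.toLinearMap_apply, Algebra.TensorProduct.lift_tmul,
      LinearMap.lTensor_tmul, TensorProduct.rid_tmul, map_smul, AlgHom.comp_apply, GLin.coactAlgHom_apply,
      Algebra.TensorProduct.includeRight_apply]
    rw [σ_apply, fAct_apply, show g⁻¹.ofConv.toLinearMap = g.ofConv.toLinearMap ∘ₗ HopfAlgebraStruct.antipode k from rfl]
    induction HopfRep.Comod.coact (k := k) (A := A) (F p) using TensorProduct.induction_on with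
    | zero => simp
    | add a b ha hb => simp only [map_add, add_mul, smul_add, ha, hb]
    | tmul a b => simp [evR_tmul, smul_smul, mul_comm]

/-- The average of the conjugates of a map. -/
def average (α : A →ₗ[k] k) (F : C →ₗ[k] C) : C →ₗ[k] C := evR C α ∘ₗ conjFam F

theorem average_σ {α : A →ₗ[k] k} (hα : IsIntegral α) (F : C →ₗ[k] C) (h : A →ₐ[k] k) (m : C) :
    average α F (σ C h m) = σ C h (average α F m) := by
  let H : WithConv (A →ₐ[k] k) := WithConv.toConv h
  -- the conjugates reindexed by a translation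
  have e1 : evR C α (conjFam (A := A) F m) =
      evR C α ((Groth.L25.HopfFlat.rt H).toLinearMap.lTensor C (conjFam (A := A) F m)) := by
    induction conjFam (A := A) F m using TensorProduct.induction_on with
    | zero => simp
    | add p q hp hq => simp only [map_add, hp, hq]
    | tmul p q => simp [evR_tmul, integral_rt hα]
  have e2 : evR C α ((σ C h).toLinearMap.rTensor A ((Groth.L25.HopfFlat.rt H).toLinearMap.lTensor C (conjFam (A := A) F m))) =
      σ C h (evR C α ((Groth.L25.HopfFlat.rt H).toLinearMap.lTensor C (conjFam (A := A) F m))) := by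
    induction (Groth.L25.HopfFlat.rt H).toLinearMap.lTensor C (conjFam (A := A) F m) using TensorProduct.induction_on with
    | zero => simp
    | add p q hp hq => simp only [map_add, hp, hq]
    | tmul p q => simp [evR_tmul]
  show evR C α (conjFam F (σ C h m)) = σ C h (evR C α (conjFam F m))
  rw [e1, ← e2]
  refine evR_eq_of_forall_point (fun g => ?_) α
  let G : WithConv (A →ₐ[k] k) := WithConv.toConv g
  have e3 : ∀ z : C ⊗[k] A, evR C g.toLinearMap ((σ C h).toLinearMap.rTensor A
      ((Groth.L25.HopfFlat.rt H).toLinearMap.lTensor C z)) = σ C h (evR C (g.comp (Groth.L25.HopfFlat.rt H)).toLinearMap z) := by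
    intro z
    induction z using TensorProduct.induction_on with
    | zero => simp
    | add p q hp hq => simp only [map_add, hp, hq]
    | tmul p q => simp [evR_tmul]
  rw [e3, show g.comp (Groth.L25.HopfFlat.rt H) = (G * H).ofConv from Groth.L25.HopfFlat.point_rt (WithConv.toConv g) H,
    show g.toLinearMap = G.ofConv.toLinearMap from rfl, evR_conjFam, evR_conjFam, mul_inv_rev,
    show σ C h = σ C H.ofConv from rfl, σ_comp, σ_comp, mul_inv_cancel_left]

theorem average_mem (α : A →ₗ[k] k) (F : C →ₗ[k] C) (W : Submodule k C) (m : C)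
    (hW : ∀ g : A →ₐ[k] k, ∀ w ∈ W, σ C g w ∈ W) (h : ∀ g : A →ₐ[k] k, F (σ C g m) ∈ W) : average α F m ∈ W :=
  evR_mem_of_forall_point W _ (fun g => by
    rw [show g.toLinearMap = (WithConv.toConv g).ofConv.toLinearMap from rfl, evR_conjFam]
    exact hW _ _ (h g)) α

theorem average_sub_mem {α : A →ₗ[k] k} (hα : IsIntegral α) (F : C →ₗ[k] C) (W : Submodule k C) (m : C)
    (hW : ∀ g : A →ₐ[k] k, ∀ w ∈ W, σ C g w ∈ W) (h : ∀ g : A →ₐ[k] k, F (σ C g m) - σ C g m ∈ W) :
    average α F m - m ∈ W := by
  have := evR_mem_of_forall_point W (conjFam (A := A) F m - m ⊗ₜ[k] (1 : A)) (fun g => by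
    rw [map_sub, evR_tmul, show g.toLinearMap = (WithConv.toConv g).ofConv.toLinearMap from rfl, evR_conjFam]
    show σ C _ (F (σ C g m)) - g 1 • m ∈ W
    rw [map_one, one_smul]
    have h2 := hW ((WithConv.toConv g)⁻¹).ofConv _ (h g)
    rw [map_sub] at h2
    nth_rewrite 2 [show m = σ C ((WithConv.toConv g)⁻¹).ofConv (σ C g m) from
      ((σ_comp (R := C) (WithConv.toConv g)⁻¹ (WithConv.toConv g) m).trans (by rw [inv_mul_cancel, σ_one])).symm]
    exact h2) α
  rw [map_sub, evR_tmul, (hα.2 : α 1 = 1), one_smul] at this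
  exact this

/-- The average commutes with multiplication by an element by which the map commutes with translates. -/
theorem average_mul (α : A →ₗ[k] k) (F : C →ₗ[k] C) (b m : C)
    (h : ∀ g : A →ₐ[k] k, F (σ C g (b * m)) = σ C g b * F (σ C g m)) :
    average α F (b * m) = b * average α F m := by
  show evR C α _ = b * evR C α _
  have e : ∀ z : C ⊗[k] A, ∀ φ : A →ₗ[k] k, b * evR C φ z = evR C φ ((LinearMap.mulLeft k b).rTensor A z) := by
    intro z φ
    induction z using TensorProduct.induction_on with
    | zero => simp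
    | add p q hp hq => simp only [map_add, mul_add, hp, hq]
    | tmul p q => simp [evR_tmul]
  rw [e]
  refine evR_eq_of_forall_point (fun g => ?_) α
  rw [← e, show g.toLinearMap = (WithConv.toConv g).ofConv.toLinearMap from rfl, evR_conjFam, evR_conjFam]
  show σ C _ (F (σ C g _)) = b * σ C _ (F (σ C g _))
  rw [h g, map_mul]
  congr 1
  exact (σ_comp (R := C) (WithConv.toConv g)⁻¹ (WithConv.toConv g) b).trans (by rw [inv_mul_cancel, σ_one])

end Average

section Prod

variable {R B : Type u} [CommRing R] [Algebra k R] [HopfRep.Comod k A R] [GLin.IsCoactAlg k A R]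
  [CommRing B] [Algebra k B] [HopfRep.Comod k A B] [GLin.IsCoactAlg k A B]

theorem tensor_coact_eq (r : R) (b : B) :
    (ComodTens.Comod.tensor ‹HopfRep.Comod k A R› ‹HopfRep.Comod k A B›).coact (r ⊗ₜ[k] b) =
      Algebra.TensorProduct.map (Algebra.TensorProduct.includeLeft : R →ₐ[k] R ⊗[k] B) (AlgHom.id k A)
          (HopfRep.Comod.coact (k := k) (A := A) r) *
        Algebra.TensorProduct.map (Algebra.TensorProduct.includeRight : B →ₐ[k] R ⊗[k] B) (AlgHom.id k A)
          (HopfRep.Comod.coact (k := k) (A := A) b) := by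
  rw [ComodTens.tensor_coact_tmul]
  induction HopfRep.Comod.coact (k := k) (A := A) r using TensorProduct.induction_on with
  | zero => simp
  | add p q hp hq => simp only [add_tmul, map_add, add_mul, hp, hq]
  | tmul p q =>
    induction HopfRep.Comod.coact (k := k) (A := A) b using TensorProduct.induction_on with
    | zero => simp
    | add p' q' hp hq => simp only [tmul_add, map_add, mul_add, hp, hq]
    | tmul p' q' => simp [TensorProduct.AlgebraTensorModule.tensorTensorTensorComm_tmul]

/-- The product action. -/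
def prodComod : HopfRep.Comod k A (R ⊗[k] B) :=
  ComodTens.Comod.tensor ‹HopfRep.Comod k A R› ‹HopfRep.Comod k A B›

theorem prodComod_tmul (r : R) (b : B) :
    (prodComod (k := k) (A := A) (R := R) (B := B)).coact (r ⊗ₜ[k] b) =
      Algebra.TensorProduct.map (Algebra.TensorProduct.includeLeft : R →ₐ[k] R ⊗[k] B) (AlgHom.id k A)
          (HopfRep.Comod.coact (k := k) (A := A) r) *
        Algebra.TensorProduct.map (Algebra.TensorProduct.includeRight : B →ₐ[k] R ⊗[k] B) (AlgHom.id k A)
          (HopfRep.Comod.coact (k := k) (A := A) b) := tensor_coact_eq r b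

theorem isCoactAlg_of_tmul [HopfRep.Comod k A (R ⊗[k] B)]
    (hc : ∀ (r : R) (b : B), HopfRep.Comod.coact (k := k) (A := A) (r ⊗ₜ[k] b) =
      Algebra.TensorProduct.map (Algebra.TensorProduct.includeLeft : R →ₐ[k] R ⊗[k] B) (AlgHom.id k A)
          (HopfRep.Comod.coact (k := k) (A := A) r) *
        Algebra.TensorProduct.map (Algebra.TensorProduct.includeRight : B →ₐ[k] R ⊗[k] B) (AlgHom.id k A)
          (HopfRep.Comod.coact (k := k) (A := A) b)) :
    GLin.IsCoactAlg k A (R ⊗[k] B) where
  coact_one := by
    rw [Algebra.TensorProduct.one_def (A := R), hc, GLin.IsCoactAlg.coact_one, GLin.IsCoactAlg.coact_one,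
      map_one, map_one]
    exact mul_one _
  coact_mul f g := by
    induction f using TensorProduct.induction_on with
    | zero => simp
    | add p q hp hq => rw [add_mul, map_add, map_add, add_mul, hp, hq]
    | tmul r b =>
      induction g using TensorProduct.induction_on with
      | zero => simp
      | add p q hp hq => rw [mul_add, map_add, map_add, mul_add, hp, hq]
      | tmul r' b' =>
        rw [Algebra.TensorProduct.tmul_mul_tmul, hc, hc, hc,
          GLin.IsCoactAlg.coact_mul, GLin.IsCoactAlg.coact_mul, map_mul, map_mul]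
        exact mul_mul_mul_comm _ _ _ _

theorem σ_tensor [HopfRep.Comod k A (R ⊗[k] B)] [GLin.IsCoactAlg k A (R ⊗[k] B)]
    (hc : ∀ (r : R) (b : B), HopfRep.Comod.coact (k := k) (A := A) (r ⊗ₜ[k] b) =
      Algebra.TensorProduct.map (Algebra.TensorProduct.includeLeft : R →ₐ[k] R ⊗[k] B) (AlgHom.id k A)
          (HopfRep.Comod.coact (k := k) (A := A) r) *
        Algebra.TensorProduct.map (Algebra.TensorProduct.includeRight : B →ₐ[k] R ⊗[k] B) (AlgHom.id k A)
          (HopfRep.Comod.coact (k := k) (A := A) b))
    (g : A →ₐ[k] k) (r : R) (b : B) : σ (R ⊗[k] B) g (r ⊗ₜ[k] b) = σ R g r ⊗ₜ[k] σ B g b := by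
  rw [σ, σ, σ]
  rw [AlgHom.comp_apply, AlgHom.comp_apply, AlgHom.comp_apply, AlgHom.comp_apply, AlgHom.comp_apply,
    AlgHom.comp_apply, GLin.coactAlgHom_apply, GLin.coactAlgHom_apply, GLin.coactAlgHom_apply, hc, map_mul, map_mul]
  induction HopfRep.Comod.coact (k := k) (A := A) r using TensorProduct.induction_on with
  | zero => simp
  | add p q hp hq => simp only [map_add, add_mul, add_tmul, hp, hq]
  | tmul p q =>
    induction HopfRep.Comod.coact (k := k) (A := A) b using TensorProduct.induction_on with
    | zero => simp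
    | add p' q' hp hq => simp only [map_add, mul_add, tmul_add, hp, hq]
    | tmul p' q' =>
      simp only [Algebra.TensorProduct.map_tmul, AlgHom.comp_apply, AlgHom.id_apply,
        Algebra.TensorProduct.includeLeft_apply, Algebra.TensorProduct.includeRight_apply, ← map_mul,
        Algebra.TensorProduct.tmul_mul_tmul, mul_one, one_mul]
      simp [TensorProduct.smul_tmul', TensorProduct.tmul_smul, smul_smul, mul_comm]

end Prod

section Quot

variable {R : Type u} [CommRing R] [Algebra k R] [HopfRep.Comod k A R] [GLin.IsCoactAlg k A R]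

/-- The coaction of the quotient by a stable ideal. -/
@[reducible] def quotComod (I : Ideal R) (hI : HopfRep.IsSubcomod (k := k) (A := A) (I.restrictScalars k)) :
    HopfRep.Comod k A (R ⧸ I) :=
  ComodTens.Comod.ofEquiv
    ({ __ := Submodule.Quotient.restrictScalarsEquiv k (I : Submodule R R) } : (R ⧸ I.restrictScalars k) ≃ₗ[k] R ⧸ I)
    (ComodSub.Comod.quot ‹_› (I.restrictScalars k) hI)

theorem quotComod_mk (I : Ideal R) (hI : HopfRep.IsSubcomod (k := k) (A := A) (I.restrictScalars k)) (r : R) :
    (quotComod I hI).coact (Ideal.Quotient.mk I r) =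
      Algebra.TensorProduct.map (Ideal.Quotient.mkₐ k I) (AlgHom.id k A) (HopfRep.Comod.coact (k := k) (A := A) r) := by
  show _ = (LinearMap.rTensor A (Ideal.Quotient.mkₐ k I).toLinearMap) _
  show LinearMap.rTensor A _ ((ComodSub.Comod.quot _ _ hI).coact (Submodule.Quotient.mk r)) = _
  rw [ComodSub.quot_coact_mk, ← LinearMap.comp_apply, ← LinearMap.rTensor_comp]
  rfl

theorem isCoactAlg_quot (I : Ideal R) (hI : HopfRep.IsSubcomod (k := k) (A := A) (I.restrictScalars k)) :
    @GLin.IsCoactAlg k _ A _ _ (R ⧸ I) _ _ (quotComod I hI) :=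
  letI := quotComod I hI
  { coact_one := by
      rw [← map_one (Ideal.Quotient.mk I)]
      show (quotComod I hI).coact _ = _
      rw [quotComod_mk, GLin.IsCoactAlg.coact_one, map_one]
    coact_mul := fun f g => by
      obtain ⟨f, rfl⟩ := Ideal.Quotient.mk_surjective f
      obtain ⟨g, rfl⟩ := Ideal.Quotient.mk_surjective g
      rw [← map_mul]
      show (quotComod I hI).coact _ = (quotComod I hI).coact _ * (quotComod I hI).coact _
      rw [quotComod_mk, quotComod_mk, quotComod_mk, GLin.IsCoactAlg.coact_mul, map_mul] }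

end Quot

section Homogeneous

variable {B : Type u} [CommRing B] [Algebra k B] [Algebra.FiniteType k B] [HopfRep.Comod k A B]
  [GLin.IsCoactAlg k A B]

/-- Reduced algebras with a transitive action on points are smooth. -/
theorem smooth_of_transitive [IsReduced B] [Nontrivial B] (ob : B →ₐ[k] k)
    (h : ∀ w : B →ₐ[k] k, ∃ g : A →ₐ[k] k, GLin.actPt k g ob = w) : Algebra.Smooth k B := by
  haveI : IsNoetherianRing B := Algebra.FiniteType.isNoetherianRing k B
  haveI : Algebra.FinitePresentation k B := Algebra.FinitePresentation.of_finiteType.1 inferInstance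
  haveI : PerfectField k := PerfectField.ofCharZero
  haveI : Algebra.IsGeometricallyReduced k B :=
    (Algebra.isGeometricallyReduced_field_iff k B).2 (by
      haveI : IsReduced B := inferInstance
      haveI : _root_.IsReduced (B ⊗[k] AlgebraicClosure k) := Groth.L25.GrpDeriv.isReduced_tensorProduct_of_perfectField
      exact isReduced_of_injective (Algebra.TensorProduct.comm k (AlgebraicClosure k) B)
        (Algebra.TensorProduct.comm k (AlgebraicClosure k) B).injective)
  haveI : IsJacobsonRing B := isJacobsonRing_of_finiteType (A := k) (B := B)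
  refine ⟨(Algebra.smoothLocus_eq_univ_iff).1 (Set.eq_univ_of_forall fun p => ?_), inferInstance⟩
  have hopen := Algebra.isOpen_smoothLocus (R := k) (A := B)
  -- a smooth point
  obtain ⟨p₁, hp₁, hp₁c⟩ : ∃ p₁ ∈ Algebra.smoothLocus k B, IsClosed ({p₁} : Set (PrimeSpectrum B)) := by
    obtain ⟨p₀, hp₀⟩ : (Algebra.smoothLocus k B).Nonempty :=
      Groth.L20.GenSmooth.dense_smoothLocus.nonempty
    obtain ⟨p₁, h1, h2⟩ := nonempty_inter_closedPoints ⟨p₀, hp₀⟩ hopen.isLocallyClosed
    exact ⟨p₁, h1, h2⟩
  by_contra hp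
  obtain ⟨m, hm, hpm⟩ := p.asIdeal.exists_le_maximal p.2.ne_top
  have hmns : (⟨m, hm.isPrime⟩ : PrimeSpectrum B) ∉ Algebra.smoothLocus k B := fun hs =>
    hp (((PrimeSpectrum.le_iff_specializes p ⟨m, hm.isPrime⟩).1 hpm).mem_open hopen hs)
  haveI hp₁m : p₁.asIdeal.IsMaximal := (PrimeSpectrum.isClosed_singleton_iff_isMaximal p₁).1 hp₁c
  obtain ⟨v, hv⟩ := GITSep.exists_point (k := k) B p₁.asIdeal hp₁m.ne_top
  obtain ⟨w, hw⟩ := GITSep.exists_point (k := k) B m hm.ne_top
  obtain ⟨g, hg⟩ := h v
  obtain ⟨g', hg'⟩ := h w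
  let τ : WithConv (A →ₐ[k] k) := (WithConv.toConv g)⁻¹ * WithConv.toConv g'
  let e : B ≃ₐ[k] B := σEquiv τ
  have hvw : ∀ b, w b = v (e b) := fun b => by
    rw [← hg, ← hg', actPt_apply, actPt_apply]
    show _ = ob (σ B g (σ B τ.ofConv b))
    rw [show σ B g = σ B (WithConv.toConv g).ofConv from rfl, σ_comp, mul_inv_cancel_left]
  have hme : m = p₁.asIdeal.comap e.toRingHom := by
    refine hm.eq_of_le (Ideal.IsPrime.ne_top (Ideal.IsPrime.comap _)) fun b hb => ?_
    have h1 : v (e b) = 0 := (hvw b).symm.trans (hw b hb)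
    have hker : RingHom.ker v = p₁.asIdeal := (hp₁m.eq_of_le (RingHom.ker_ne_top _) fun c hc => hv c hc).symm
    rw [Ideal.mem_comap, ← hker]
    exact h1
  refine hmns ?_
  haveI := hm.isPrime
  let el : Localization.AtPrime m ≃ₐ[k] Localization.AtPrime p₁.asIdeal :=
    IsLocalization.algEquivOfAlgEquiv (M := m.primeCompl) (T := p₁.asIdeal.primeCompl)
      (Localization.AtPrime m) (Localization.AtPrime p₁.asIdeal) e (by
        ext b
        constructor
        · rintro ⟨c, hc, rfl⟩ hcp
          exact hc (hme ▸ hcp)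
        · intro hb
          exact ⟨e.symm b, fun hbm => hb (by
            rw [hme] at hbm
            simpa using Ideal.mem_comap.1 hbm), by simp⟩)
  haveI : Algebra.FormallySmooth k (Localization.AtPrime p₁.asIdeal) := hp₁
  exact Algebra.FormallySmooth.of_equiv el.symm

end Homogeneous

end Groth.L08.Luna
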